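import Cfsg.Agent.Mrg.Omega.NO3S.SFive.WCNorm_m3
import Cfsg.Agent.Mrg.Omega.NO3S.BetaFF.UniqZ_m3
import Cfsg.Agent.Mrg.Omega.NO3S.Level.Lim_m3
import Cfsg.Agent.Mrg.Omega.KL.Star.ViaRed_m3
import Cfsg.Agent.Mrg.Omega.NOThreeL.RRed.NatS
import Cfsg.Agent.Mrg.Omega.NO3S.SFive.Chamber_m3
import Cfsg.Agent.Mrg.Omega.NO3S.Act.PasCore_mg_m3
import Cfsg.Agent.FastGrp
import Cfsg.Agent.Prune
set_option linter.all false

section
prune_inst 0x7ffdfefbbffcfddfffff7ffffef9dffc3dd4dffffffffd4bfffdf3ffffdf23af2fe5fbaf8df0d2ff9ff7e3bcb0b87853fdffceffeb6bdc7ffffd5ff45ffbee1fb7efbf8d71d7bc341ffe6ffffbf37fce7f3ffffffffffffffffffffffffffffffffdffffffff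

-- part: Mrg/Omega/NOThreeL/RRed/Blk/AsmOf
section
set_option linter.all false
open scoped Cfsg.Agent.FastGrp


/-!
# NO-3L, box R: the blocks of a natural module as `Asm.NB`

`im Q A` = the image of `A` in `XH Q`.

* `IsNB.nb` : `IsNB Q A R N C` ⟹ `Asm.NB (im Q A) (Q.ad N) (Q.ad C)`, `4 ≤ |im Q A|`;
* **`nb_of`** : `M : NatKM F S P V D k`, `2 < |F|`, `One M U A j`, `DD M j = 1` ⟹
  `Asm.NB (im Q A) (Q.ad (blk M j)) (Q.ad (C_U(⟨A, A^p⟩)))`.
-/

set_option autoImplicit false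
set_option linter.unusedSectionVars false

namespace Cfsg.Agent.Omega.NOThreeL.RRed.Blk.TypesNat

open Subgroup Cfsg Cfsg.Agent.ZN
open Cfsg.Agent.Omega.FFThm Cfsg.Agent.Lib.SL2Mat
open Cfsg.Agent.Omega.NO3S.ThmB Cfsg.Agent.Omega.NO3S.KeyRad
open Cfsg.Agent.Omega.NOThreeL.RSplit (Nrm)
open Cfsg.Agent.Omega.NOThreeL.RRed.NS hiding rt
open Cfsg.Agent.Omega.NOThreeL.RRed.Blk.TypesGam (Bk rt NO)
open scoped Pointwise

universe u

variable {G : Type u} [Group G] {H U : Subgroup G}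

/-- the image of `A` in `XH Q` -/
def im (Q : Nrm H U) (A : Subgroup G) : Subgroup (XH Q) := (A.subgroupOf H).map (ph Q)

theorem mem_im {Q : Nrm H U} {A : Subgroup G} {x : XH Q} : x ∈ im Q A ↔ ∃ a : H, (a : G) ∈ A ∧ ph Q a = x := by
  constructor
  · rintro ⟨a, ha, rfl⟩
    exact ⟨a, mem_subgroupOf.1 ha, rfl⟩
  · rintro ⟨a, ha, rfl⟩
    exact ⟨a, mem_subgroupOf.2 ha, rfl⟩

theorem im_mono {Q : Nrm H U} {A B : Subgroup G} (h : A ≤ B) : im Q A ≤ im Q B := by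
  intro x hx
  obtain ⟨a, ha, rfl⟩ := mem_im.1 hx
  exact mem_im.2 ⟨a, h ha, rfl⟩

theorem im_conj (Q : Nrm H U) (h : H) (A : Subgroup G) :
    im Q (MulAut.conj (h : G) • A) = MulAut.conj (ph Q h) • im Q A := by
  ext x
  rw [mem_conj, mem_im, mem_im]
  constructor
  · rintro ⟨a, ha, rfl⟩
    refine ⟨h⁻¹ * a * h, mem_conj.1 ha, ?_⟩
    rw [map_mul, map_mul, map_inv]
  · rintro ⟨a, ha, h1⟩
    refine ⟨h * a * h⁻¹, conj_mem' ha, ?_⟩
    rw [map_mul, map_mul, map_inv, h1]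
    group

/-- the fixed points of the image -/
theorem fxd_im (Q : Nrm H U) {A : Subgroup G} (hA : A ≤ H) :
    (fxd (im Q A) : AddSubgroup Q.Mod) = Q.ad (centralizer (A : Set G)) := by
  ext m
  rw [mem_fxd, Nrm.mem_ad, mem_centralizer_iff]
  constructor
  · intro h a ha
    have h1 := h (ph Q ⟨a, hA ha⟩) (mem_im.2 ⟨_, ha, rfl⟩)
    rw [ph_smul, smul_eq_iff, mul_inv_eq_iff_eq_mul] at h1
    exact h1
  · intro h x hx
    obtain ⟨a, ha, rfl⟩ := mem_im.1 hx
    rw [ph_smul, smul_eq_iff, mul_inv_eq_iff_eq_mul]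
    exact h a ha

theorem NB.rt_eq_im [Finite G] {Q : Nrm H U} {A R N C : Subgroup G} {F : Type} [Field F] {e f : F →+ Q.Mod} {up lo : F → H}
    (h : NB Q A R N C e f up lo) : rt (fun t => ph Q (up t)) = im Q A := by
  apply le_antisymm
  · rw [rt, closure_le]
    rintro _ ⟨t, rfl⟩
    exact mem_im.2 ⟨up t, h.upA t, rfl⟩
  · intro x hx
    obtain ⟨a, ha, rfl⟩ := mem_im.1 hx
    obtain ⟨t, ht⟩ := h.Aup a ha
    rw [(ph_eq Q).2 ht]
    exact subset_closure ⟨t, rfl⟩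

theorem two_of (Q : Nrm H U) (hU2 : IsElementaryAbelian 2 U) (v : Q.Mod) : v + v = 0 := Nrm.ext (by
  rw [Nrm.val_add, Nrm.val_zero]
  have := hU2.2 _ (Q.val_mem v)
  rwa [pow_two] at this)

/-- the adaptor -/
theorem IsNB.nb [Finite G] {Q : Nrm H U} {A R N C : Subgroup G} (h : IsNB Q A R N C) (hU2 : IsElementaryAbelian 2 U) :
    Asm.NB (im Q A) (Q.ad N) (Q.ad C) ∧ 4 ≤ Nat.card (im Q A) := by
  obtain ⟨F, i1, i2, i3, e, f, up, lo, hF, h⟩ := h
  have h1 := h.rt_eq_im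
  refine ⟨⟨F, i1, i2, e, f, _, _, map h.bk (ph Q) (ph_smul Q), h1, h.eN⟩, ?_⟩
  rw [← h1, (map h.bk (ph Q) (ph_smul Q)).card_rt (two_of Q hU2) (fun x hx => XH_faith Q x hx)]
  exact hF

/-- **The blocks of a natural module, module level.** -/
theorem nb_of [Finite G] {F : Type} [Field F] [Finite F] [CharP F 2] {S P V D : Subgroup G} {k : ℕ}
    {M : NatKM F S P V D k} (h : Nb M) (hF : 2 < Nat.card F) (Q : Nrm H U) (hU2 : IsElementaryAbelian 2 U) (hPH : P ≤ H)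
    (hVU : V ≤ U) {A : Subgroup G} {j : Fin k} (O : One M U A j) (hAP : A ≤ P) (hD : DD M j = ⊥) :
    ∃ p ∈ P, IsNB Q A (YY h j) (blk M j) (U ⊓ centralizer ((A ⊔ MulAut.conj p • A : Subgroup G) : Set G)) ∧
      Asm.NB (im Q A) (Q.ad (blk M j)) (Q.ad (centralizer ((A ⊔ MulAut.conj p • A : Subgroup G) : Set G))) ∧
      4 ≤ Nat.card (im Q A) := by
  obtain ⟨p, hp, h1⟩ := isNB_of h hF Q hPH hVU O hAP hD
  obtain ⟨h2, h3⟩ := h1.nb hU2
  have hC : Q.ad (U ⊓ centralizer ((A ⊔ MulAut.conj p • A : Subgroup G) : Set G)) =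
      Q.ad (centralizer ((A ⊔ MulAut.conj p • A : Subgroup G) : Set G)) :=
    le_antisymm (Nrm.ad_mono inf_le_right) fun m hm => ⟨Q.val_mem m, hm⟩
  rw [hC] at h2
  exact ⟨p, hp, h1, h2, h3⟩

/-- `|im Q A| = |F|` -/
theorem card_im [Finite G] {F : Type} [Field F] [Finite F] [CharP F 2] {S P V D : Subgroup G} {k : ℕ}
    {M : NatKM F S P V D k} (h : Nb M) (hF : 2 < Nat.card F) (Q : Nrm H U) (hU2 : IsElementaryAbelian 2 U) (hPH : P ≤ H)
    (hVU : V ≤ U) {A : Subgroup G} {j : Fin k} (O : One M U A j) (hAP : A ≤ P) (hD : DD M j = ⊥) :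
    Nat.card (im Q A) = Nat.card F := by
  obtain ⟨e, f, up, lo, p, hp, hb, h1, -, h3, h4, h5⟩ := exists_bk h hF Q hPH hVU O hAP hD
  have h6 : rt (fun t => ph Q (up t)) = im Q A := by
    apply le_antisymm
    · rw [rt, closure_le]
      rintro _ ⟨t, rfl⟩
      exact mem_im.2 ⟨up t, h1 t, rfl⟩
    · intro x hx
      obtain ⟨a, ha, rfl⟩ := mem_im.1 hx
      obtain ⟨t, ht⟩ := h3 a ha
      rw [(ph_eq Q).2 ht]
      exact subset_closure ⟨t, rfl⟩
  rw [← h6, (map hb (ph Q) (ph_smul Q)).card_rt (two_of Q hU2) (fun x hx => XH_faith Q x hx)]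

/-- `[V, im A] = [U, A]` -/
theorem brk_im (Q : Nrm H U) {A : Subgroup G} (hA : A ≤ H) : brk Q.Mod (im Q A) = Q.ad (closure (covs U A)) := by
  have h1 : (A.subgroupOf H).map H.subtype = A := (subgroupOf_map_subtype _ _).trans (inf_eq_left.2 hA)
  have h2 := brk_eq Q (A.subgroupOf H)
  rw [h1] at h2
  rw [← h2, brk, brk]
  congr 1
  ext m
  constructor
  · rintro ⟨x, hx, v, rfl⟩
    obtain ⟨a, ha, rfl⟩ := mem_im.1 hx
    exact ⟨a, mem_subgroupOf.2 ha, v, rfl⟩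
  · rintro ⟨a, ha, v, rfl⟩
    exact ⟨ph Q a, mem_im.2 ⟨a, mem_subgroupOf.1 ha, rfl⟩, v, rfl⟩

end Cfsg.Agent.Omega.NOThreeL.RRed.Blk.TypesNat
end

-- part: Mrg/Omega/OM/PT/NrOne_mg
section
prune_inst 0x2200000000001000002000000000000020000000c000020004010000000100408004000000240000000000000000400010000000000000000004010002000080080000000000000003180c00000000000000000000000000000000200000000
set_option linter.all false
open scoped Cfsg.Agent.FastGrp

-- part: Mrg/Omega/OM/PT/NrOne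
section
/-!
# Two types, no swap: `X_u` centralises `N_a` for `a ~ u` (helper918, TEXT W2 #24006 (5), (7); port of 223's `EThree/NrOne`)

`NrH Z U j` : the one-sided hypotheses (`a` of type `j + 1`, points of `N_a` of type `j`), all `q`; no FIX, no
irreducibility, no `RegX`.  The last one, `OneC`, comes from LEMMA 0 (`NrB.oneC_of_L0`) or from a 2-group `B` whose fixed
points on `N_{j+1}` lie in `Z j` (`NrB.oneC_of_B`).

* `NrH.ng` : the geometry of `N_a`, if `X_c` moves `N_a` (`a ~ c`);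
* `NrH.two_common` : two common neighbours `c ≠ r` of `a`, `b` imply `[N_a, N_b] = 1`;
* **`NrH.nr_one`** : `X_c` centralises `N_a` for `a ~ c`, `a` of type `j + 1`;
* **`pc`** : both types.
-/

set_option autoImplicit false
set_option linter.unusedSectionVars false

namespace Cfsg.Agent.Omega.OM.PT.NrOne

open Subgroup Cfsg Cfsg.Agent.ZN Cfsg.Agent.Omega.MinPar
open Cfsg.Agent.Omega.OM.PT Cfsg.Agent.Omega.OM.PT.Pc
open Cfsg.Agent.Omega.OM.PG (HH QQ HH_conj QQ_conj conj_inv_conj inv_conj_conj)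
open Cfsg.Agent.Omega.OM.PG.Peel (mem_cent_conj)
open Cfsg.Agent.Omega.NO3S.EThree.ExactA (eab_iff eab_sup eab_mono)
open Cfsg.Agent.Omega.NoFF.Basic (conj_conj mem_conj conj_le_iff conj_le_centralizer comm_symm comm_mono)
open Cfsg.Agent.Omega.NOThreeL.Pair (conj_eq_of_mem)
open Cfsg.Agent.Omega.OmThm.Grp (GG LnG Mv)
open Cfsg.Agent.Omega.OM.PT.NgGeo (NG Cp cp_of_conn cp_of_fix)
open scoped Pointwise

universe u

variable {G : Type u} [Group G]

/-- LEMMA 0 -/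
def L0 (Z : Fin 2 → Subgroup G) (i : Fin 2) : Prop :=
  ∀ K : Subgroup G, K ≤ centralizer (Z i : Set G) → HH (Z i) ≤ normalizer (K : Set G) →
    (∃ x ∈ K, IsPGroup 2 (zpowers x) ∧ x ∉ centralizer (NN Z (Z i) : Set G)) →
    ∀ u u' : Subgroup G, Adj Z (Z i) u → Adj Z (Z i) u' → ∃ x ∈ K, MulAut.conj x • u = u'

/-- **The hypotheses of PC, one-sided**, without the last one. -/
structure NrB (Z U : Fin 2 → Subgroup G) (j : Fin 2) : Prop where
  P : PP Z U
  F : XF Z (XW Z U)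
  ti : TIp Z
  com : ∀ a u : Subgroup G, Adj Z a u → Com Z a u
  tr : Tr Z U j
  sur : Sur Z U j
  pts : Pts Z U j
  cardU : Nat.card (U j) = Nat.card (Z j) * Nat.card (Z j)
  core : CoreP Z (j + 1)

/-- one class of points in `N_a` -/
def OneC (Z U : Fin 2 → Subgroup G) (j : Fin 2) : Prop :=
  ¬ XW Z U (Z j) ≤ centralizer (NN Z (Z (j + 1)) : Set G) → ∀ p x : Subgroup G, Adj Z (Z (j + 1)) p →
    Adj Z (Z (j + 1)) x → Cp {p | Adj Z (Z (j + 1)) p} (XW Z U) p x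

/-- **The hypotheses of PC, one-sided.** -/
structure NrH (Z U : Fin 2 → Subgroup G) (j : Fin 2) : Prop extends NrB Z U j where
  one : OneC Z U j

namespace NrB

variable {Z U : Fin 2 → Subgroup G} {j : Fin 2} (D : NrB Z U j)
include D

theorem card_pt {a c : Subgroup G} (h : Aj Z j a c) : Nat.card c = Nat.card (Z j) := by
  obtain ⟨k, -, rfl⟩ := h
  exact ZN.ChoiceBase.card_cj k _

theorem ti' {a b : Subgroup G} (ha : IsPt Z a) (hb : IsPt Z b) {v : G} (h1 : v ∈ a) (h2 : v ∈ b) (hv : v ≠ 1) :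
    a = b := by
  by_contra hne
  exact hv (ti_one D.ti ha hb hne h1 h2)

theorem NQ {a c : Subgroup G} (h : Adj Z a c) : NN Z a ≤ QQ c :=
  D.P.f3 h.symm (D.P.NN_le_QQ h.pt) (D.com _ _ h)

theorem NN_cent {a c : Subgroup G} (h : Adj Z a c) {b : Subgroup G} (h' : Adj Z b c) :
    NN Z a ≤ centralizer (b : Set G) := (D.NQ h).trans (D.P.QQ_le_cent_of_adj h')

/-- `N_a` centralises `c`, `a ~ c` -/
theorem NN_cent' {a c : Subgroup G} (h : Adj Z a c) : NN Z a ≤ centralizer (c : Set G) :=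
  (D.P.NN_comm h.pt).trans (centralizer_le h.le_NN)

theorem NN_com {a : Subgroup G} (ha : IsPt Z a) {x y : G} (hx : x ∈ NN Z a) (hy : y ∈ NN Z a) : x * y = y * x :=
  mem_centralizer_iff.1 (D.P.NN_comm ha hy) x hx

theorem cent_of {c : Subgroup G} (hc : IsPt Z c) {x y : G} (hx : x ∈ XW Z U c) (hy : y ∈ XW Z U c) : x * y = y * x :=
  mem_centralizer_iff.1 ((eab_iff.1 (D.F.eab c hc)).1 hy) x hx

/-- the neighbours of `a` -/
theorem aj {a c x : Subgroup G} (h : Aj Z j a c) (hx : Adj Z a x) : Aj Z j a x := by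
  obtain ⟨g, hg, -⟩ := h
  exact adj_form D.P ⟨g, hg⟩ hx

variable [Finite G]

theorem qq : 2 ≤ Nat.card (Z j) := by
  have hcZ : Nat.card (Z j) ≠ 1 := fun h => D.P.ne j (Subgroup.card_eq_one.1 h)
  have hcZ0 : 0 < Nat.card (Z j) := Nat.card_pos
  omega

/-- the line on `c` in `N_a` -/
theorem exists_line {a c : Subgroup G} (h : Aj Z j a c) : ∃ V : Subgroup G, LnOn Z U c V ∧ c ≤ V ∧ V ≤ NN Z a ∧
    Nat.card V = Nat.card (Z j) * Nat.card (Z j) ∧ (∀ v ∈ V, v ≠ 1 → ∃ s, Aj Z j a s ∧ s ≤ V ∧ v ∈ s) ∧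
    ∀ s, Aj Z j a s → s ≤ V → LnOn Z U s V := by
  obtain ⟨k, rfl, rfl⟩ := h
  refine ⟨MulAut.conj k • U j, ⟨j, k, rfl, rfl⟩, conj_le_iff.2 (D.P.ZU j), ?_, ?_, ?_, ?_⟩
  · rw [NN_conj]
    exact conj_le_iff.2 (D.P.UN j)
  · exact (ZN.ChoiceBase.card_cj _ _).trans D.cardU
  · rintro _ ⟨x, hx, rfl⟩ hv1
    have hx1 : x ≠ 1 := by
      rintro rfl
      exact hv1 (by simp)
    obtain ⟨m, hm, hxm⟩ := D.pts x hx hx1
    have h1 : MulAut.conj (k * m) • Z j ≤ MulAut.conj k • U j := by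
      rw [← conj_conj]
      exact conj_le_iff.2 hm
    refine ⟨MulAut.conj (k * m) • Z j, adj_form D.P ⟨k, rfl⟩ (adj_of_line D.tr h1), h1, ?_⟩
    rw [← conj_conj]
    exact ⟨x, hxm, rfl⟩
  · rintro s ⟨m, -, rfl⟩ hs
    exact ln_of_le D.tr hs

omit [Finite G] in
/-- moved: `X_c` moves `N_a` for some `a ~ c` -/
theorem mov_all {a c a' c' : Subgroup G} (h : Aj Z j a c) (h' : Aj Z j a' c')
    (hm : ¬ XW Z U c ≤ centralizer (NN Z a : Set G)) : ¬ XW Z U c' ≤ centralizer (NN Z a' : Set G) := by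
  obtain ⟨k, rfl, rfl⟩ := h
  obtain ⟨k', rfl, rfl⟩ := h'
  intro h1
  apply hm
  have h2 := Cfsg.Agent.Omega.NoFF.Basic.conj_le_centralizer (g := k * k'⁻¹) h1
  have e1 : ∀ A : Subgroup G, MulAut.conj (k * k'⁻¹) • (MulAut.conj k' • A) = MulAut.conj k • A := fun A => by
    rw [conj_conj, inv_mul_cancel_right]
  rwa [← XW_conj, ← NN_conj, e1, e1] at h2

end NrB

namespace NrH

variable [Finite G] {Z U : Fin 2 → Subgroup G} {j : Fin 2} (D : NrH Z U j)
include D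

/-- **The geometry of `N_a`.** -/
theorem ng {a c : Subgroup G} (h : Aj Z j a c) (hm : ¬ XW Z U c ≤ centralizer (NN Z a : Set G)) :
    NG (NN Z a) {p | Adj Z a p} (XW Z U) (Nat.card (Z j)) where
  toGG := gg_of D.P D.F D.com D.ti D.tr D.sur D.pts D.cardU D.core h hm
  ex := ⟨c, h.adj⟩
  cp := by
    have h01 : Aj Z j (Z (j + 1)) (Z j) := ⟨1, by rw [map_one, one_smul], by rw [map_one, one_smul]⟩
    have hm0 := D.mov_all h h01 hm
    obtain ⟨k, hk, -⟩ := h
    subst hk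
    intro p hp x hx
    have hp' : Adj Z (Z (j + 1)) (MulAut.conj k⁻¹ • p) := by
      have := Adj.conj hp k⁻¹
      rwa [inv_conj_conj] at this
    have hx' : Adj Z (Z (j + 1)) (MulAut.conj k⁻¹ • x) := by
      have := Adj.conj hx k⁻¹
      rwa [inv_conj_conj] at this
    obtain ⟨s, hs, h1, h2⟩ := D.one hm0 _ _ hp' hx'
    refine ⟨MulAut.conj k • s, Adj.conj hs k, fun h => h1 ?_, fun h => h2 ?_⟩
    · have h3 := conj_le_centralizer (g := k⁻¹) h
      rwa [← XW_conj, inv_conj_conj] at h3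
    · have h3 := conj_le_centralizer (g := k⁻¹) h
      rwa [← XW_conj, inv_conj_conj] at h3

/-- the points of `c^⊥` lie in `X_c` -/
theorem pt_le_X {a c x : Subgroup G} (h : Aj Z j a c) (hm : ¬ XW Z U c ≤ centralizer (NN Z a : Set G))
    (hx : Adj Z a x) (hcx : XW Z U c ≤ centralizer (x : Set G)) : x ≤ XW Z U c := by
  have hc := h.adj.pt'
  by_cases hne : c = x
  · rw [← hne]
    exact D.F.aX c hc
  obtain ⟨V, hV, hcV, hVN, hVc, hcov, hpts⟩ := D.exists_line h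
  obtain ⟨v, hv, hvc⟩ : ∃ v ∈ V, v ∉ c := by
    by_contra hcon
    push Not at hcon
    have h1 : V = c := le_antisymm hcon hcV
    rw [h1, D.card_pt h] at hVc
    have h2 := D.qq
    nlinarith
  obtain ⟨r, hr, hrV, hvr⟩ := hcov v hv fun e => hvc (e ▸ one_mem _)
  have hrc : c ≠ r := fun e => hvc (e ▸ hvr)
  have hVX := ln_le_XW hV
  have hcr : XW Z U c ≤ centralizer (r : Set G) := fun w hw =>
    mem_centralizer_iff.2 fun v hv => D.cent_of hc (hVX (hrV hv)) hw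
  obtain ⟨g, hgc, hgr, -⟩ := (D.ng h hm).trans (c := c) (y := r) (p := x) h.adj hr.adj hx hcr hcx hrc hne
  have hgcc : MulAut.conj g • c = c := conj_eq_of_mem (centralizer_le_normalizer _ hgc)
  have hV' : LnOn Z U c (MulAut.conj g • V) := by
    have := hV.conj g
    rwa [hgcc] at this
  rw [← hgr]
  exact (conj_le_iff.2 hrV).trans (ln_le_XW hV')

/-- the vectors of `c^⊥` lie in `X_c` -/
theorem mem_X {b c : Subgroup G} (h : Aj Z j b c) (hm : ¬ XW Z U c ≤ centralizer (NN Z b : Set G)) {m : G}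
    (hmN : m ∈ NN Z b) (hc : ∀ w ∈ XW Z U c, w * m = m * w) : m ∈ XW Z U c := by
  by_cases hm1 : m = 1
  · rw [hm1]
    exact one_mem _
  obtain ⟨p, hp, hmp⟩ := (D.ng h hm).vect hmN hm1
  exact D.pt_le_X h hm hp ((D.ng h hm).one h.adj hp hmp hm1 hc) hmp

omit [Finite G] in
theorem gm_mem {a c : Subgroup G} (h : Adj Z a c) {g m : G} (hg : g ∈ NN Z a) (hm : m ∈ XW Z U c) :
    g * m * g⁻¹ * m⁻¹ ∈ c := by
  have h1 := inv_mem (D.F.com c h.pt' m hm g (D.NQ h hg))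
  have e : (m * g * m⁻¹ * g⁻¹)⁻¹ = g * m * g⁻¹ * m⁻¹ := by group
  rwa [e] at h1

omit [Finite G] in
theorem fix {a b c : Subgroup G} (hac : Adj Z a c) (hbc : Adj Z b c) {g : G} (hg : g ∈ NN Z a) :
    MulAut.conj g • b = b := conj_eq_of_mem (centralizer_le_normalizer _ (D.NN_cent hac hbc hg))

/-- (G4) -/
theorem g4 {a b c r x : Subgroup G} (hac : Aj Z j a c) (hbc : Aj Z j b c) (har : Aj Z j a r) (hbr : Aj Z j b r)
    (hm : ¬ XW Z U c ≤ centralizer (NN Z b : Set G)) (hcr : XW Z U c ≤ centralizer (r : Set G)) (hx : Adj Z b x)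
    (hxc : XW Z U c ≤ centralizer (x : Set G)) (hxr : ¬ XW Z U r ≤ centralizer (x : Set G)) {g x₀ : G}
    (hg : g ∈ NN Z a) (hx₀ : x₀ ∈ x) (hx1 : x₀ ≠ 1) (hgx : g * x₀ = x₀ * g) : g ∈ centralizer (NN Z b : Set G) := by
  have E := D.ng hbc hm
  have hmr : ¬ XW Z U r ≤ centralizer (NN Z b : Set G) := D.mov_all hbc hbr hm
  have hgm : ∀ s, Adj Z b s → Adj Z b (MulAut.conj g • s) := by
    intro s hs
    have := hs.conj g
    rwa [D.fix hac.adj hbc.adj hg] at this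
  have hcx : c ≠ x := by
    rintro rfl
    exact hxr (E.sym hbc.adj hbr.adj hcr)
  -- `g` centralises `x`
  have hxX : x ≤ XW Z U c := D.pt_le_X hbc hm hx hxc
  have hgx' : MulAut.conj g • x = x := by
    refine D.ti' (hgm x hx).pt' hx.pt' (v := x₀) ⟨x₀, hx₀, ?_⟩ hx₀ hx1
    change g * x₀ * g⁻¹ = x₀
    rw [hgx, mul_inv_cancel_right]
  have hgxx : ∀ v ∈ x, g * v = v * g := by
    intro v hv
    by_contra hne
    have h1 := D.gm_mem hac.adj hg (hxX hv)
    have h2 : g * v * g⁻¹ ∈ x := hgx' ▸ (⟨v, hv, rfl⟩ : g * v * g⁻¹ ∈ MulAut.conj g • x)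
    refine hcx (D.ti' hac.adj.pt' hx.pt' h1 (mul_mem h2 (inv_mem hv)) fun e => hne ?_)
    rwa [mul_inv_eq_one, mul_inv_eq_iff_eq_mul] at e
  -- `[g, N_b] ≤ r`
  have key : ∀ m ∈ NN Z b, ∃ x' ∈ x, ∀ w ∈ XW Z U r, w * (m * x'⁻¹) = (m * x'⁻¹) * w :=
    fun m hm => E.ix hbr.adj hx hxr hm
  have hgr : ∀ m ∈ NN Z b, g * m * g⁻¹ * m⁻¹ ∈ r := by
    intro m hmN
    obtain ⟨x', hx', h1⟩ := key m hmN
    have h2 : m * x'⁻¹ ∈ XW Z U r := D.mem_X hbr hmr (mul_mem hmN (inv_mem (hx.le_NN hx'))) h1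
    have h3 := D.gm_mem har.adj hg h2
    have e : g * (m * x'⁻¹) * g⁻¹ * (m * x'⁻¹)⁻¹ = g * m * g⁻¹ * m⁻¹ := by
      have h4 := hgxx x' hx'
      have h5 : x'⁻¹ * g⁻¹ = g⁻¹ * x'⁻¹ := by
        rw [← mul_inv_rev, ← mul_inv_rev, h4]
      calc g * (m * x'⁻¹) * g⁻¹ * (m * x'⁻¹)⁻¹ = g * m * (x'⁻¹ * g⁻¹) * (x' * m⁻¹) := by group
        _ = _ := by rw [h5]; group
    rwa [e] at h3
  have htv : ∀ s, Adj Z b s → XW Z U r ≤ centralizer (s : Set G) → ∀ v ∈ s, g * v = v * g := by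
    intro s hs hrs
    exact E.tv hbr.adj hs (fun v hv => (mem_centralizer_iff.1 (D.NN_cent' har.adj hg) v hv).symm) hgr hgm
      (fun s hs => D.F.conj g s (Adj.pt' hs)) hrs
  refine mem_centralizer_iff.2 fun m hmN => ?_
  obtain ⟨x', hx', h1⟩ := key m hmN
  have h4 : g * (m * x'⁻¹) = (m * x'⁻¹) * g := by
    by_cases h5 : m * x'⁻¹ = 1
    · rw [h5, one_mul, mul_one]
    · obtain ⟨s, hs, hms⟩ := E.vect (mul_mem hmN (inv_mem (hx.le_NN hx'))) h5
      exact htv s hs (E.one hbr.adj hs hms h5 h1) _ hms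
  calc m * g = (m * x'⁻¹) * (x' * g) := by group
    _ = (m * x'⁻¹) * (g * x') := by rw [hgxx x' hx']
    _ = (g * (m * x'⁻¹)) * x' := by rw [h4]; group
    _ = g * m := by group

/-- **two common neighbours** -/
theorem two_common {a b c r : Subgroup G} (hac : Aj Z j a c) (hbc : Aj Z j b c) (har : Aj Z j a r) (hbr : Aj Z j b r)
    (hne : c ≠ r) (hm : ¬ XW Z U c ≤ centralizer (NN Z b : Set G)) : Com Z a b := by
  have E := D.ng hbc hm
  have hmr : ¬ XW Z U r ≤ centralizer (NN Z b : Set G) := D.mov_all hbc hbr hm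
  have hma : ¬ XW Z U c ≤ centralizer (NN Z a : Set G) := D.mov_all hbc hac hm
  have Ea := D.ng hac hma
  have hcp := hac.adj.pt'
  have hrp := har.adj.pt'
  by_cases hcr : XW Z U c ≤ centralizer (r : Set G)
  swap
  · intro g hg
    refine mem_centralizer_iff.2 fun m hmN => ?_
    obtain ⟨x, hx, h1⟩ := E.ix hbc.adj hbr.adj hcr hmN
    have hrc : ¬ XW Z U r ≤ centralizer (c : Set G) := fun h => hcr (E.sym hbr.adj hbc.adj h)
    have hm1N : m * x⁻¹ ∈ NN Z b := mul_mem hmN (inv_mem (hbr.adj.le_NN hx))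
    obtain ⟨y, hy, h2⟩ := E.ix hbr.adj hbc.adj hrc hm1N
    have hm' : m * x⁻¹ * y⁻¹ ∈ NN Z b := mul_mem hm1N (inv_mem (hbc.adj.le_NN hy))
    have h3 : ∀ w ∈ XW Z U c, w * (m * x⁻¹ * y⁻¹) = (m * x⁻¹ * y⁻¹) * w := by
      intro w hw
      have h5 : w * y⁻¹ = y⁻¹ * w := D.cent_of hcp hw (inv_mem (D.F.aX c hcp hy))
      calc w * (m * x⁻¹ * y⁻¹) = w * (m * x⁻¹) * y⁻¹ := by group
        _ = m * x⁻¹ * (w * y⁻¹) := by rw [h1 w hw]; group
        _ = _ := by rw [h5]; group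
    have h4 := D.mem_X hbc hm hm' h3
    have h5 := D.mem_X hbr hmr hm' h2
    have h6 := ti_one D.ti hcp hrp hne (D.gm_mem hac.adj hg h4) (D.gm_mem har.adj hg h5)
    rw [mul_inv_eq_one, mul_inv_eq_iff_eq_mul] at h6
    have h7 : g * y = y * g := (mem_centralizer_iff.1 (D.NN_cent' hac.adj hg) y hy).symm
    have h8 : g * x = x * g := (mem_centralizer_iff.1 (D.NN_cent' har.adj hg) x hx).symm
    calc m * g = (m * x⁻¹ * y⁻¹) * (y * (x * g)) := by group
      _ = (m * x⁻¹ * y⁻¹) * (y * g * x) := by rw [← h8]; group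
      _ = ((m * x⁻¹ * y⁻¹) * g) * (y * x) := by rw [← h7]; group
      _ = g * m := by rw [← h6]; group
  · by_contra hcon
    obtain ⟨g, hg, hgN⟩ := SetLike.not_le_iff_exists.1 hcon
    have hrc : XW Z U r ≤ centralizer (c : Set G) := E.sym hbc.adj hbr.adj hcr
    obtain ⟨x, hx, hxc, hxr⟩ := E.sep hbc.adj hbr.adj hne
    obtain ⟨y, hy, hyr, hyc⟩ := E.sep hbr.adj hbc.adj hne.symm
    obtain ⟨x', hx', hxc', hxr'⟩ := Ea.sep hac.adj har.adj hne
    obtain ⟨z, hz, hz1⟩ := Ea.exists_v hx'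
    have hzX : z ∈ XW Z U c := D.pt_le_X hac hma hx' hxc' hz
    have hxX : x ≤ XW Z U c := D.pt_le_X hbc hm hx hxc
    have hyX : y ≤ XW Z U r := D.pt_le_X hbr hmr hy hyr
    have hN : ∀ v : x × y, (v.1 : G) * (v.2 : G) ∈ NN Z b := fun v =>
      mul_mem (Adj.le_NN hx v.1.2) (Adj.le_NN hy v.2.2)
    let f : x × y → c := fun v => ⟨((v.1 : G) * (v.2 : G)) * z * ((v.1 : G) * (v.2 : G))⁻¹ * z⁻¹,
      D.gm_mem hbc.adj (hN v) hzX⟩
    have hf : Function.Injective f := by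
      rintro ⟨v, w⟩ ⟨v', w'⟩ e
      have e1 : ((v : G) * (w : G)) * z * ((v : G) * (w : G))⁻¹ * z⁻¹ =
          ((v' : G) * (w' : G)) * z * ((v' : G) * (w' : G))⁻¹ * z⁻¹ := congrArg Subtype.val e
      have e2 := mul_right_cancel e1
      set n := ((v : G) * (w : G)) with hn
      set n' := ((v' : G) * (w' : G)) with hn'
      have e3 : (n⁻¹ * n') * z = z * (n⁻¹ * n') := by
        calc (n⁻¹ * n') * z = n⁻¹ * (n' * z * n'⁻¹) * n' := by group
          _ = z * (n⁻¹ * n') := by rw [← e2]; group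
      have hnN : n⁻¹ * n' ∈ NN Z b := mul_mem (inv_mem (hN (v, w))) (hN (v', w'))
      have h1 : n⁻¹ * n' ∈ centralizer (NN Z a : Set G) :=
        D.g4 hbc hac hbr har hma hcr hx' hxc' hxr' hnN hz hz1 e3
      have h2 : g * (n⁻¹ * n') = (n⁻¹ * n') * g := mem_centralizer_iff.1 h1 g hg
      set p := (v : G)⁻¹ * (v' : G) with hp
      set s := (w : G)⁻¹ * (w' : G) with hs
      have hpx : p ∈ x := mul_mem (inv_mem v.2) v'.2
      have hsy : s ∈ y := mul_mem (inv_mem w.2) w'.2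
      have hps : n⁻¹ * n' = p * s := by
        rw [hn, hn', hp, hs]
        have h3 := D.NN_com hbc.adj.pt (inv_mem (Adj.le_NN hy w.2)) (mul_mem (inv_mem (Adj.le_NN hx v.2))
          (Adj.le_NN hx v'.2))
        calc ((v : G) * (w : G))⁻¹ * ((v' : G) * (w' : G)) = ((w : G)⁻¹ * ((v : G)⁻¹ * (v' : G))) * (w' : G) := by group
          _ = _ := by rw [h3]; group
      rw [hps] at h2
      have h4 : g * p * g⁻¹ * p⁻¹ ∈ c := D.gm_mem hac.adj hg (hxX hpx)
      have h5 : g * s * g⁻¹ * s⁻¹ ∈ r := D.gm_mem har.adj hg (hyX hsy)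
      have h6 : g * p * g⁻¹ * p⁻¹ = (g * s * g⁻¹ * s⁻¹)⁻¹ := by
        have h7 := D.NN_com hbc.adj.pt (Adj.le_NN hx hpx) (hbr.adj.le_NN (inv_mem h5))
        have h8 : (g * p * g⁻¹ * p⁻¹) * p = (g * s * g⁻¹ * s⁻¹)⁻¹ * p := by
          rw [← h7]
          calc (g * p * g⁻¹ * p⁻¹) * p = (g * (p * s)) * (g * s)⁻¹ := by group
            _ = (p * s * g) * (g * s)⁻¹ := by rw [h2]
            _ = _ := by group
        exact mul_right_cancel h8
      have h7 : g * p * g⁻¹ * p⁻¹ = 1 := ti_one D.ti hcp hrp hne h4 (h6 ▸ inv_mem h5)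
      have h8 : g * s * g⁻¹ * s⁻¹ = 1 := by
        rw [h7] at h6
        exact inv_eq_one.1 h6.symm
      rw [mul_inv_eq_one, mul_inv_eq_iff_eq_mul] at h7 h8
      have hp1 : p = 1 := by
        by_contra hp1
        exact hgN (D.g4 hac hbc har hbr hm hcr hx hxc hxr hg hpx hp1 h7)
      have hs1 : s = 1 := by
        by_contra hs1
        exact hgN (D.g4 har hbr hac hbc hmr hrc hy hyr hyc hg hsy hs1 h8)
      exact Prod.ext (Subtype.ext (inv_mul_eq_one.1 hp1)) (Subtype.ext (inv_mul_eq_one.1 hs1))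
    have h1 := Nat.card_le_card_of_injective f hf
    rw [Nat.card_prod, D.card_pt (D.aj hbc hx), D.card_pt (D.aj hbc hy), D.card_pt hac] at h1
    have h2 := D.qq
    nlinarith

/-- **(NR1)** -/
theorem nr_one {a c : Subgroup G} (h : Aj Z j a c) : XW Z U c ≤ centralizer (NN Z a : Set G) := by
  by_contra hm
  obtain ⟨l, hl, hlN⟩ : ∃ l, LnOn Z U c l ∧ ¬ l ≤ centralizer (NN Z a : Set G) := by
    by_contra hcon
    push Not at hcon
    exact hm (sup_le (comm_symm (D.com _ _ h.adj)) (iSup_le fun l => hcon l l.2))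
  have hlX := ln_le_XW hl
  obtain ⟨k, hkc, hkl⟩ : ∃ k : G, c = MulAut.conj k • Z j ∧ l = MulAut.conj k • U j := by
    obtain ⟨g, -, hg⟩ := h
    exact ln_form D.P hg hl
  -- `b`
  have hbc : Aj Z j (MulAut.conj k • Z (j + 1)) c := ⟨k, rfl, hkc⟩
  have hlb : l ≤ NN Z (MulAut.conj k • Z (j + 1)) := by
    rw [hkl, NN_conj]
    exact conj_le_iff.2 (D.P.UN j)
  set b := MulAut.conj k • Z (j + 1) with hb
  have hmb : ¬ XW Z U c ≤ centralizer (NN Z b : Set G) := D.mov_all h hbc hm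
  have E := D.ng hbc hmb
  have Ea := D.ng h hm
  obtain ⟨v, hv, hvN⟩ := SetLike.not_le_iff_exists.1 hlN
  obtain ⟨g, hg, hgv⟩ : ∃ g ∈ NN Z a, g * v ≠ v * g := by
    by_contra hcon
    push Not at hcon
    exact hvN (mem_centralizer_iff.2 hcon)
  have hncom : ¬ Com Z a b := fun h1 => hgv (mem_centralizer_iff.1 (h1 hg) v (hlb hv)).symm
  have hin : ∀ m ∈ NN Z b, g * m * g⁻¹ * m⁻¹ ∈ c := by
    intro m hmN
    by_cases h1 : g * m * g⁻¹ * m⁻¹ = 1
    · rw [h1]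
      exact one_mem _
    have h2 : g * m * g⁻¹ * m⁻¹ ∈ NN Z b := by
      refine mul_mem ?_ (inv_mem hmN)
      exact (mem_normalizer_iff.1 (PP.HH_le_NN b (centralizer_le_normalizer _ (D.NN_cent h.adj hbc.adj hg))) m).1 hmN
    have h3 : g * m * g⁻¹ * m⁻¹ ∈ NN Z a := by
      have h4 := (mem_normalizer_iff.1 (PP.HH_le_NN a (centralizer_le_normalizer _
        (D.NN_cent hbc.adj h.adj hmN))) g⁻¹).1 (inv_mem hg)
      have e : g * m * g⁻¹ * m⁻¹ = g * (m * g⁻¹ * m⁻¹) := by group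
      rw [e]
      exact mul_mem hg h4
    obtain ⟨p, hp, hmp⟩ := E.vect h2 h1
    obtain ⟨p', hp', hmp'⟩ := Ea.vect h3 h1
    have e : p = p' := D.ti' (Adj.pt' hp) (Adj.pt' hp') hmp hmp' h1
    subst e
    by_cases hpc : c = p
    · rw [hpc]
      exact hmp
    · exact absurd (D.two_common h hbc (D.aj h hp') (D.aj hbc hp) hpc hmb) hncom
  have hv1 : v ≠ 1 := by
    rintro rfl
    exact hgv (by rw [mul_one, one_mul])
  obtain ⟨s, hs, hvs⟩ := E.vect (hlb hv) hv1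
  have hcs : XW Z U c ≤ centralizer (s : Set G) :=
    E.one hbc.adj hs hvs hv1 fun w hw => D.cent_of h.adj.pt' hw (hlX hv)
  refine hgv (E.tv hbc.adj hs (fun v hv => (mem_centralizer_iff.1 (D.NN_cent' h.adj hg) v hv).symm) hin ?_
    (fun s hs => D.F.conj g s (Adj.pt' hs)) hcs v hvs)
  intro s hs
  have := Adj.conj hs g
  rwa [D.fix h.adj hbc.adj hg] at this

end NrH

namespace NrB

variable [Finite G] {Z U : Fin 2 → Subgroup G} {j : Fin 2} (D : NrB Z U j)
include D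

theorem gg (hm0 : ¬ XW Z U (Z j) ≤ centralizer (NN Z (Z (j + 1)) : Set G)) :
    GG (NN Z (Z (j + 1))) {p | Adj Z (Z (j + 1)) p} (XW Z U) (Nat.card (Z j)) :=
  gg_of D.P D.F D.com D.ti D.tr D.sur D.pts D.cardU D.core
    ⟨1, by rw [map_one, one_smul], by rw [map_one, one_smul]⟩ hm0

/-- one class from a 2-group `B ≤ N_G(Z 0) ∩ N_G(Z 1)` whose fixed points on `N_{j+1}` lie in `Z j` -/
theorem oneC_of_B {B : Subgroup G} (hB : IsPGroup 2 B) (hB1 : B ≤ HH (Z (j + 1))) (hB0 : B ≤ HH (Z j))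
    (hfix : ∀ n ∈ NN Z (Z (j + 1)), (∀ b ∈ B, b * n = n * b) → n ∈ Z j) : OneC Z U j := by
  intro hm0 p x hp hx
  refine cp_of_fix (D.gg hm0) (c := Z j) (B := B) (adj Z j).symm hB ?_ ?_ ?_ hfix hp hx
  · intro b hb p hp
    have h1 := Adj.conj hp b
    rwa [conj_eq_of_mem (hB1 hb)] at h1
  · exact fun b _ p _ => XW_conj b p
  · exact fun b hb => conj_eq_of_mem (hB0 hb)

end NrB

/-- **PC, both types.** -/
theorem pc [Finite G] {Z U : Fin 2 → Subgroup G} (D : ∀ j, NrH Z U j) {a u : Subgroup G} (h : Adj Z a u) :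
    XW Z U u ≤ centralizer (NN Z a : Set G) := by
  obtain ⟨i, k, h1, h2⟩ := h
  have h3 : Aj Z (i + 1) a u := ⟨k, by rw [add2, h1], h2⟩
  exact (D (i + 1)).nr_one h3

end Cfsg.Agent.Omega.OM.PT.NrOne
end

-- part: Mrg/Omega/KL/TwoZ/FrN
section
/-!
# Two natural blocks without field automorphisms (helper918 TEXT W2 #24006 (0)): the frame `FrN` over `TwoZ.Fr`

* `FrN` : `[V i, T] ≤ Z i`, (0.2) in the form `Stab_{C_i}(m Z_i) = C_{C_i}(m)`, all minimal parabolics of `C_j` which move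
  `Z i` do the same on `Z i`;
* `NP Z i = N_i Z_i`; `XX V Z i = W_i N_i`;
* `FrN.lem0` : LEMMA 0 (#19092) : a normal subgroup of `C_i` with a 2-subgroup moving `N_i` is transitive enough;
* `FrN.no_t` : (NO) on `N_i Z_i / Z_i`; **`FrN.k3`** : (K3); `FrN.mem_HH` : `C_G(V i) T = {c ∈ C_i : [V i, c] ≤ Z i}`.
-/

set_option autoImplicit false
set_option linter.unusedSectionVars false
set_option linter.unusedVariables false

namespace Cfsg.Agent.Omega.KL.TwoZ

open Subgroup Cfsg Cfsg.Agent.Omega.MinPar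
open Cfsg.Agent.ZN (o2 zc)
open Cfsg.Agent.Omega.OM.KTwo (ne_add_one eq_add_one add_one_add_one le_normalizer_V le_V exists_mul_of_mem_sup)
open Cfsg.Agent.MinSimple.MinParabolic (IsMinPar)
open Cfsg.Agent.Omega.NoFF.Basic (conj_conj mem_conj conj_le_iff comm_symm comm_mono Z_le_V V_le)
open Cfsg.Agent.Omega.NOThreeL.Pair (conj_eq_of_mem conj_le_normalizer)
open Cfsg.Agent.Omega.NoFF.ThmJFam (card_sup_inf card_conj conj_cent conj_inf)
open Cfsg.Agent.ZN.ChoiceSit (Syl exists_syl syl_conj o2_le_syl syl_not_dvd)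
open Cfsg.Agent.MinSimple.VModule (mem_zc zc_le normalizer_le_normalizer_zc le_o2
  o2_isPGroup o2_le zc_le_centralizer le_centralizer_zc le_normalizer_o2 oddGen oddGen_def)
open Cfsg.Agent.Omega.TC (kgroup_mono)
open Cfsg.Agent.Omega.TC.LemZ (card_eq le_norm_of norm_cent norm_inf)
open Cfsg.Agent.Omega.KL.TwoS (Mx comm_of_sq sq_sup relIndex_le_of_sup sup_of_relIndex_le relIndex_pos relIndex_mono
  relIndex_anti relIndex_split)
open scoped Pointwise

universe u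

variable {G : Type u} [Group G]

/-- the frame of TEXT W2 (two natural blocks, no field automorphisms) -/
structure FrN [Finite G] (T : Subgroup G) (V Z : Fin 2 → Subgroup G) : Prop extends Fr T V Z where
  com : ∀ i, ∀ w ∈ V i, ∀ t ∈ T, t * w * t⁻¹ * w⁻¹ ∈ Z i
  sep : ∀ i, ∀ c ∈ centralizer (Z i : Set G), ∀ m ∈ Z (i + 1), c * m * c⁻¹ * m⁻¹ ∈ Z i → c * m * c⁻¹ = m
  same : ∀ i j, i ≠ j → ∀ R : Subgroup G, IsMinPar T R → R ≤ centralizer (Z j : Set G) →
    ¬ R ≤ centralizer (Z i : Set G) → ∀ R' : Subgroup G, IsMinPar T R' → R' ≤ centralizer (Z j : Set G) →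
    ¬ R' ≤ centralizer (Z i : Set G) → ∀ r' ∈ R', ∃ r ∈ R, ∀ z ∈ Z i, r' * z * r'⁻¹ = r * z * r⁻¹

/-- `N_i Z_i` -/
abbrev NP (Z : Fin 2 → Subgroup G) (i : Fin 2) : Subgroup G := NN Z i ⊔ Z i

/-- `X_i = W_i N_i` -/
abbrev XX (V Z : Fin 2 → Subgroup G) (i : Fin 2) : Subgroup G := WW V Z i ⊔ NN Z i

/-- `{x ∈ W | [x, A] ≤ Y}` for an abelian `W` and a `Y` centralised by `A` and `W` -/
def tl (W Y : Subgroup G) (A : Subgroup G) (hW : ∀ x ∈ W, ∀ y ∈ Y, x * y = y * x)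
    (hA : ∀ a ∈ A, ∀ y ∈ Y, a * y = y * a) : Subgroup G where
  carrier := {x | x ∈ W ∧ ∀ a ∈ A, a * x * a⁻¹ * x⁻¹ ∈ Y}
  one_mem' := ⟨one_mem _, fun a _ => by simp⟩
  mul_mem' := by
    rintro x y ⟨hx, hx'⟩ ⟨hy, hy'⟩
    refine ⟨mul_mem hx hy, fun a ha => ?_⟩
    have h1 := hW x hx _ (hy' a ha)
    have e : a * (x * y) * a⁻¹ * (x * y)⁻¹ = (a * x * a⁻¹) * (a * y * a⁻¹ * y⁻¹) * x⁻¹ := by group
    have e2 : (a * x * a⁻¹) * (a * y * a⁻¹ * y⁻¹) * x⁻¹ = (a * x * a⁻¹ * x⁻¹) * (a * y * a⁻¹ * y⁻¹) := by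
      calc (a * x * a⁻¹) * (a * y * a⁻¹ * y⁻¹) * x⁻¹ = (a * x * a⁻¹ * x⁻¹) * (x * (a * y * a⁻¹ * y⁻¹)) * x⁻¹ := by group
        _ = (a * x * a⁻¹ * x⁻¹) * (a * y * a⁻¹ * y⁻¹) := by rw [h1]; group
    rw [e, e2]
    exact mul_mem (hx' a ha) (hy' a ha)
  inv_mem' := by
    rintro x ⟨hx, hx'⟩
    refine ⟨inv_mem hx, fun a ha => ?_⟩
    have h1 := inv_mem (hx' a ha)
    have h2 := hW x hx _ h1
    have e : a * x⁻¹ * a⁻¹ * x⁻¹⁻¹ = x⁻¹ * ((a * x * a⁻¹ * x⁻¹)⁻¹ * x) := by group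
    rw [e, ← h2, inv_mul_cancel_left]
    exact h1

namespace FrN

variable [Finite G] {T : Subgroup G} {V Z : Fin 2 → Subgroup G} (D : FrN T V Z)

include D

/-! ### Easy facts -/

theorem Z_cent_C (i : Fin 2) {c z : G} (hc : c ∈ CC Z i) (hz : z ∈ Z i) : c * z = z * c :=
  (mem_centralizer_iff.1 hc z hz).symm

theorem Z_le_X (i : Fin 2) : Z i ≤ XX V Z i := ((D.ZV i).trans (le_V _ _)).trans le_sup_left

theorem NP_le_X (i : Fin 2) : NP Z i ≤ XX V Z i := sup_le le_sup_right (D.Z_le_X i)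

theorem X_le_C (i : Fin 2) : XX V Z i ≤ CC Z i := ((D.X_facts i).1.trans (D.Q_le_T i)).trans (D.T_le_C i)

theorem X_sq (i : Fin 2) : ∀ x ∈ XX V Z i, x ^ 2 = 1 := (D.X_facts i).2.1

theorem X_comm (i : Fin 2) {x y : G} (hx : x ∈ XX V Z i) (hy : y ∈ XX V Z i) : x * y = y * x :=
  mem_centralizer_iff.1 (comm_of_sq (D.X_sq i) hy) x hx

theorem C_norm_X (i : Fin 2) : CC Z i ≤ normalizer (XX V Z i : Set G) := (D.X_facts i).2.2.1

theorem C_norm_Z (i : Fin 2) : CC Z i ≤ normalizer (Z i : Set G) := centralizer_le_normalizer _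

theorem norm_sup' {C A B : Subgroup G} (hA : C ≤ normalizer (A : Set G)) (hB : C ≤ normalizer (B : Set G)) :
    C ≤ normalizer ((A ⊔ B : Subgroup G) : Set G) := by
  intro c hc
  have e1 : MulAut.conj c • A = A := conj_eq_of_mem (hA hc)
  have e2 : MulAut.conj c • B = B := conj_eq_of_mem (hB hc)
  have e3 : MulAut.conj c • (A ⊔ B) = A ⊔ B := by rw [Subgroup.smul_sup, e1, e2]
  rw [mem_normalizer_iff]
  intro x
  have e4 : c⁻¹ * (c * x * c⁻¹) * c = x := by group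
  constructor
  · intro h
    rw [← e3, mem_conj, e4]
    exact h
  · intro h
    rw [← e3, mem_conj, e4] at h
    exact h

theorem C_norm_NP (i : Fin 2) : CC Z i ≤ normalizer (NP Z i : Set G) :=
  D.norm_sup' (le_normalizer_V _ _) (D.C_norm_Z i)

/-- (0.2) for the conjugates -/
theorem sep' (i : Fin 2) {c l m : G} (hc : c ∈ CC Z i) (hl : l ∈ CC Z i) (hm : m ∈ Z (i + 1))
    (h : c * (l * m * l⁻¹) * c⁻¹ * (l * m * l⁻¹)⁻¹ ∈ Z i) : c * (l * m * l⁻¹) * c⁻¹ = l * m * l⁻¹ := by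
  have h1 := D.sep i (l⁻¹ * c * l) (mul_mem (mul_mem (inv_mem hl) hc) hl) m hm (by
    have e : l⁻¹ * c * l * m * (l⁻¹ * c * l)⁻¹ * m⁻¹ = l⁻¹ * (c * (l * m * l⁻¹) * c⁻¹ * (l * m * l⁻¹)⁻¹) * l := by group
    rw [e, mul_assoc, ← D.Z_cent_C i hl h, inv_mul_cancel_left]
    exact h)
  calc c * (l * m * l⁻¹) * c⁻¹ = l * (l⁻¹ * c * l * m * (l⁻¹ * c * l)⁻¹) * l⁻¹ := by group
    _ = l * m * l⁻¹ := by rw [h1]

/-- an element of `C_i` which centralises `⟨Z (i+1)^L⟩ Z_i / Z_i` centralises `⟨Z (i+1)^L⟩` -/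
theorem cent_of_mod {i : Fin 2} {L : Subgroup G} (hL : L ≤ CC Z i) {c : G} (hc : c ∈ CC Z i)
    (h : ∀ l ∈ L, ∀ m ∈ Z (i + 1), c * (l * m * l⁻¹) * c⁻¹ * (l * m * l⁻¹)⁻¹ ∈ Z i) :
    c ∈ centralizer (NH Z i L : Set G) := by
  have h1 : NH Z i L ≤ centralizer ({c} : Set G) := by
    refine V_le fun l hl z hz => ?_
    rw [mem_conj] at hz
    have h2 := D.sep' i hc (hL hl) hz (h l hl _ hz)
    have e : l * (l⁻¹ * z * l) * l⁻¹ = z := by group
    rw [e] at h2
    rw [mem_centralizer_singleton_iff]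
    have h3 := eq_mul_of_mul_inv_eq h2
    exact h3.symm
  rw [mem_centralizer_iff]
  exact fun x hx => mem_centralizer_singleton_iff.1 (h1 hx)

/-! ### LEMMA 0 -/

/-- **LEMMA 0** -/
theorem lem0 {i : Fin 2} {K A : Subgroup G} (hK : K ≤ CC Z i) (hn : CC Z i ≤ normalizer (K : Set G)) (hAK : A ≤ K)
    (hA : IsPGroup 2 A) (hm : ¬ A ≤ centralizer (NN Z i : Set G)) : NN Z i ≤ NH Z i K := by
  have hji := (ne_add_one i).symm
  have hKT : K ⊔ T ≤ CC Z i := sup_le hK (D.T_le_C i)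
  obtain ⟨R, hR, hRK, hRm⟩ : ∃ R : Subgroup G, IsMinPar T R ∧ R ≤ K ⊔ T ∧ ¬ R ≤ CC Z (i + 1) := by
    by_contra hc
    push Not at hc
    have h1 : K ⊔ T ≤ normalizer (Z (i + 1) : Set G) := by
      refine MinSimple.MinParabolic.le_of_forall le_sup_right ?_ fun R hR hRK =>
        (hc R hR hRK).trans (centralizer_le_normalizer _)
      exact ((inf_le_inf_right _ hKT).trans (D.nT i)).trans (inf_le_left.trans inf_le_left)
    apply hm
    refine comm_symm (V_le fun c hc' => ?_)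
    -- `A ^ c` lies in a conjugate of `T` under `K T`
    have h2 : MulAut.conj c⁻¹ • A ≤ K ⊔ T := by
      refine le_trans ?_ le_sup_left
      have e : MulAut.conj c⁻¹ • K = K := conj_eq_of_mem (hn (inv_mem hc'))
      rw [← e]
      exact conj_le_iff.2 hAK
    obtain ⟨S, hS, hAS⟩ := exists_syl (hA.map (MulAut.conj c⁻¹).toMonoidHom) h2
    have hT : Syl T (K ⊔ T) := ⟨le_sup_right, D.T_isPGroup, fun R' hR' hR2 hTR => (D.syl i).2.2 R' (hR'.trans hKT) hR2 hTR⟩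
    obtain ⟨x, hx, hxT⟩ := syl_conj hT hS
    have h3 : MulAut.conj c⁻¹ • A ≤ centralizer (Z (i + 1) : Set G) := by
      refine le_trans (b := MulAut.conj x • T) ?_ ?_
      · intro a ha
        have h4 := hAS ha
        rw [← hxT] at h4
        exact h4
      · have e : MulAut.conj x • Z (i + 1) = Z (i + 1) := conj_eq_of_mem (h1 hx)
        rw [← e, ← conj_cent]
        exact conj_le_iff.2 (D.T_le_C (i + 1))
    have h5 := conj_le_iff (g := c) |>.2 (comm_symm h3)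
    rwa [conj_cent, conj_conj, mul_inv_cancel, map_one, one_smul] at h5
  have hgen : CC Z i ≤ K ⊔ (CC Z i ⊓ normalizer (Z (i + 1) : Set G)) := by
    refine MinSimple.MinParabolic.le_of_forall (D.T_le_C i) ?_ fun R' hR' hR'C => ?_
    · exact le_trans (le_inf inf_le_left ((D.nT i).trans (inf_le_left.trans inf_le_left))) le_sup_right
    · by_cases hR'm : R' ≤ CC Z (i + 1)
      · exact le_trans (le_inf hR'C (hR'm.trans (centralizer_le_normalizer _))) le_sup_right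
      · intro r' hr'
        obtain ⟨r, hr, he⟩ := D.same (i + 1) i hji R hR (hRK.trans hKT) hRm R' hR' hR'C hR'm r' hr'
        have h2 : r⁻¹ * r' ∈ CC Z i ⊓ normalizer (Z (i + 1) : Set G) := by
          refine ⟨(CC Z i).mul_mem ((CC Z i).inv_mem (hKT (hRK hr))) (hR'C hr'), ?_⟩
          apply centralizer_le_normalizer
          rw [mem_centralizer_iff]
          intro z hz
          have h3 := he z hz
          calc z * (r⁻¹ * r') = r⁻¹ * (r * z * r⁻¹) * r' := by group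
            _ = r⁻¹ * (r' * z * r'⁻¹) * r' := by rw [h3]
            _ = r⁻¹ * r' * z := by group
        have e : r' = r * (r⁻¹ * r') := by group
        rw [e]
        refine mul_mem (?_ : r ∈ _) (mem_sup_right h2)
        have h4 : K ⊔ T ≤ K ⊔ (CC Z i ⊓ normalizer (Z (i + 1) : Set G)) :=
          sup_le_sup_left (le_inf (D.T_le_C i) ((D.T_le_C (i + 1)).trans (centralizer_le_normalizer _))) _
        exact h4 (hRK hr)
  refine V_le_of (le_V _ _) (hgen.trans (sup_le (le_normalizer_V _ _) ?_))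
  exact norm_V inf_le_right (inf_le_left.trans hn)

/-! ### (NO) on `N_i Z_i / Z_i`, (K3) -/

theorem cNP (i : Fin 2) : ∀ x ∈ NP Z i, ∀ y ∈ Z i, x * y = y * x := fun x hx y hy =>
  D.Z_cent_C i ((D.X_le_C i) (D.NP_le_X i hx)) hy

/-- `{x ∈ N_i Z_i : [x, A] ≤ Z_i}` -/
abbrev tN (i : Fin 2) {A : Subgroup G} (hA : A ≤ CC Z i) : Subgroup G :=
  tl (NP Z i) (Z i) A (D.cNP i) fun _ ha _ hy => D.Z_cent_C i (hA ha) hy

/-- **(NO)** on `N_i Z_i / Z_i` -/
theorem no_t (hML : ML.Final.MLK.{u, u}) {i : Fin 2} {A : Subgroup G} (hK : IsKGroup (CC Z i))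
    (hA : A ≤ o2 (centralizer (zc T : Set G))) (hA2 : ∀ a ∈ A, a ^ 2 = 1) :
    (centralizer (NN Z i : Set G)).relIndex A ≤ (D.tN i ((hA.trans D.O_le_T).trans (D.T_le_C i))).relIndex (NP Z i) := by
  have hAC : A ≤ CC Z i := (hA.trans D.O_le_T).trans (D.T_le_C i)
  obtain ⟨w, hw, hw1⟩ : ∃ w ∈ Z (i + 1), w ≠ 1 := by
    by_contra hc
    push Not at hc
    exact D.ne (i + 1) (eq_bot_iff.2 fun x hx => mem_bot.2 (hc x hx))
  set W : Subgroup G := NoFF.Basic.V (zpowers w) (CC Z i) with hW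
  set WP : Subgroup G := W ⊔ Z i with hWP
  have hwW : w ∈ W := le_V _ _ (mem_zpowers w)
  have hCW : CC Z i ≤ normalizer (W : Set G) := le_normalizer_V _ _
  have hWN : W ≤ NN Z i := V_le_of ((zpowers_le.2 hw).trans (le_V _ _)) (le_normalizer_V _ _)
  have hWPN : WP ≤ NP Z i := sup_le_sup_right hWN _
  have hcW : ∀ x ∈ WP, ∀ y ∈ Z i, x * y = y * x := fun x hx y hy => D.cNP i x (hWPN hx) y hy
  have hst : ∀ g ∈ CC Z i, g * w * g⁻¹ * w⁻¹ ∈ Z i →
      g ∈ normalizer ((centralizer (zc T : Set G) : Subgroup G) : Set G) := by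
    intro g hg h
    have h1 := D.sep i g hg w hw h
    have h2 : g ∈ centralizer ({w} : Set G) := by
      rw [mem_centralizer_singleton_iff]
      calc g * w = (g * w * g⁻¹) * g := by group
        _ = w * g := by rw [h1]
    exact D.norm_D i ⟨hg, D.sti hw hw1 ⟨hg, h2⟩⟩
  have hker : A ⊓ centralizer (W : Set G) ≤ centralizer (NN Z i : Set G) := by
    -- as in `no_H`
    set H₁ : Subgroup G := CC Z i ⊓ centralizer ({w} : Set G) with hH₁
    have hTH₁ : T ≤ H₁ := le_inf (D.T_le_C i) ((D.T_le_C (i + 1)).trans (centralizer_le (Set.singleton_subset_iff.2 hw)))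
    have h1 : A ≤ o2 H₁ := by
      have h2 : o2 (centralizer (zc T : Set G)) ⊓ H₁ ≤ o2 H₁ := by
        refine le_o2 inf_le_right ((o2_isPGroup _).to_le inf_le_left) ?_
        refine le_norm_of fun g hg q hq => ?_
        have h3 : g ∈ normalizer ((o2 (centralizer (zc T : Set G)) : Subgroup G) : Set G) :=
          norm_o2_of (D.norm_D i ⟨hg.1, D.sti hw hw1 hg⟩)
        exact ⟨(mem_normalizer_iff.1 h3 q).1 hq.1, H₁.mul_mem (H₁.mul_mem hg hq.2) (H₁.inv_mem hg)⟩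
      exact (le_inf hA ((hA.trans D.O_le_T).trans hTH₁)).trans h2
    have h2 := GenTool.o2_inf_le (L := CC Z i) (N := CC Z i ⊓ centralizer (W : Set G)) (R := H₁) inf_le_left
      (fun g hg x hx => ⟨(CC Z i).mul_mem ((CC Z i).mul_mem hg hx.1) ((CC Z i).inv_mem hg),
        (mem_normalizer_iff.1 (norm_cent hCW hg) x).1 hx.2⟩)
      (le_inf inf_le_left (inf_le_right.trans (centralizer_le (Set.singleton_subset_iff.2 hwW))))
    exact ((le_inf (inf_le_left.trans h1) (le_inf (inf_le_left.trans hAC) inf_le_right)).trans h2).trans (D.Q_le_cent_N i)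
  -- an element of `C_i` trivial on `W Z_i / Z_i` centralises `W`
  have hmod : ∀ a ∈ CC Z i, (∀ x ∈ WP, a * x * a⁻¹ * x⁻¹ ∈ Z i) → a ∈ centralizer (W : Set G) := by
    intro a ha h
    have h1 : W ≤ centralizer ({a} : Set G) := by
      refine V_le fun l hl z hz => ?_
      rw [mem_conj] at hz
      obtain ⟨n, hn⟩ := mem_zpowers_iff.1 hz
      have hz2 : l⁻¹ * z * l ∈ Z (i + 1) := by
        rw [← hn]; exact zpow_mem hw n
      have hz3 : z ∈ W := by
        have := (mem_normalizer_iff.1 (hCW hl) _).1 ((zpowers_le.2 hwW) (by rw [← hn]; exact ⟨n, rfl⟩ :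
          l⁻¹ * z * l ∈ zpowers w))
        have e : l * (l⁻¹ * z * l) * l⁻¹ = z := by group
        rwa [e] at this
      have e : l * (l⁻¹ * z * l) * l⁻¹ = z := by group
      have h2 := D.sep' i ha hl hz2 (by rw [e]; exact h z (mem_sup_left hz3))
      rw [e] at h2
      rw [mem_centralizer_singleton_iff]
      exact (eq_mul_of_mul_inv_eq h2).symm
    rw [mem_centralizer_iff]
    exact fun x hx => mem_centralizer_singleton_iff.1 (h1 hx)
  have hAY : ∀ a ∈ A, ∀ y ∈ Z i, a * y = y * a := fun a ha y hy => D.Z_cent_C i (hAC ha) hy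
  have hmain : (A ⊓ centralizer (W : Set G)).relIndex A ≤ (tl WP (Z i) A hcW hAY).relIndex WP := by
    refine hML.grp (C := CC Z i) (W := WP) (Y := Z i) (T := T) (Q := o2 (centralizer (zc T : Set G))) (A := A)
      (w := w) hK ?_ (KA := A ⊓ centralizer (W : Set G)) (CW := tl WP (Z i) A hcW hAY) ?_ ?_
    · refine ⟨D.norm_sup' hCW (D.C_norm_Z i), D.C_norm_Z i, le_sup_right, ?_, ?_, mem_sup_left hwW, ?_, D.T_le_C i,
        D.T_isPGroup, syl_not_dvd (D.syl i), ?_, D.O_le_T.trans (D.T_le_C i), o2_isPGroup _, ?_, ?_, hA, ?_⟩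
      · exact (hWPN.trans (D.NP_le_X i)).trans ((D.X_le_C i).trans (D.C_norm_Z i))
      · intro x hx
        have h1 := D.X_sq i x (D.NP_le_X i (hWPN hx))
        rw [pow_two] at h1
        rw [h1]
        exact one_mem _
      · intro U hU hYU hHU
        exact sup_le (V_le_of (zpowers_le.2 hU) hHU) hYU
      · intro t ht
        have h1 := mem_centralizer_iff.1 (D.T_le_C (i + 1) ht) w hw
        rw [← h1, mul_inv_cancel_right, mul_inv_cancel]
        exact one_mem _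
      · intro q hq
        have h1 := mem_centralizer_iff.1 (D.cent_zc_le (i + 1) (o2_le _ hq)) w hw
        rw [← h1, mul_inv_cancel_right, mul_inv_cancel]
        exact one_mem _
      · intro g hg hgY q hq
        exact (mem_normalizer_iff.1 (norm_o2_of (hst g hg hgY)) q).1 hq
      · intro a ha x _
        have h1 : a * a = 1 := by rw [← pow_two]; exact hA2 a ha
        have e : a * (a * x * a⁻¹) * a⁻¹ * x⁻¹ = (a * a) * x * (a * a)⁻¹ * x⁻¹ := by group
        rw [e, h1]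
        simp
    · intro a
      constructor
      · rintro ⟨h1, h2⟩
        refine ⟨h1, fun x hx => ?_⟩
        obtain ⟨x1, hx1, z, hz, rfl⟩ := exists_mul_of_mem_sup
          ((((D.Z_le_X i).trans (D.X_le_C i)).trans hCW)) hx
        have h3 := mem_centralizer_iff.1 h2 x1 hx1
        have h4 := hAY a h1 z hz
        have e : a * (x1 * z) * a⁻¹ * (x1 * z)⁻¹ = 1 := by
          calc a * (x1 * z) * a⁻¹ * (x1 * z)⁻¹ = (a * x1) * z * a⁻¹ * (x1 * z)⁻¹ := by group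
            _ = x1 * (a * z) * a⁻¹ * (x1 * z)⁻¹ := by rw [← h3]; group
            _ = 1 := by rw [h4]; group
        rw [e]
        exact one_mem _
      · rintro ⟨h1, h2⟩
        exact ⟨h1, hmod a (hAC h1) h2⟩
    · intro x
      exact Iff.rfl
  rw [inf_relIndex_left] at hmain
  have h1 : (centralizer (NN Z i : Set G)).relIndex A ≤ (centralizer (W : Set G)).relIndex A := by
    rw [← inf_relIndex_left A (centralizer (W : Set G))]
    exact relIndex_anti hker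
  refine h1.trans (hmain.trans ?_)
  have h2 : (tl WP (Z i) A hcW hAY).relIndex WP = (D.tN i hAC).relIndex WP := by
    have e : (tl WP (Z i) A hcW hAY) ⊓ WP = D.tN i hAC ⊓ WP := by
      ext x
      constructor
      · rintro ⟨⟨h3, h4⟩, h5⟩
        exact ⟨⟨hWPN h3, h4⟩, h5⟩
      · rintro ⟨⟨h3, h4⟩, h5⟩
        exact ⟨⟨h5, h4⟩, h5⟩
    rw [← inf_relIndex_right, e, inf_relIndex_right]
  rw [h2]
  exact relIndex_mono hWPN

/-- **(K3)** : `B ≤ O` exact on `N_i`, `n ∈ N_i Z_i`, `[n, B] ≤ Z_i` ⟹ `[n, B] = 1` -/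
theorem k3 (hML : ML.Final.MLK.{u, u}) {i : Fin 2} {B : Subgroup G} (hK : IsKGroup (CC Z i))
    (hB : B ≤ o2 (centralizer (zc T : Set G))) (hB2 : ∀ a ∈ B, a ^ 2 = 1)
    (he : (centralizer (B : Set G)).relIndex (NN Z i) ≤ (centralizer (NN Z i : Set G)).relIndex B) :
    D.tN i ((hB.trans D.O_le_T).trans (D.T_le_C i)) ≤ centralizer (B : Set G) := by
  have hBC : B ≤ CC Z i := (hB.trans D.O_le_T).trans (D.T_le_C i)
  set t := D.tN i hBC with ht
  have h1 := D.no_t hML hK hB hB2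
  have hZB : Z i ≤ centralizer (B : Set G) := comm_symm hBC
  -- `|N_i Z_i : C(B)| = |N_i : C(B)|`
  have hXc : NP Z i ≤ centralizer (NP Z i : Set G) := comm_of_sq fun x hx => D.X_sq i x (D.NP_le_X i hx)
  have h2 : (centralizer (B : Set G)).relIndex (NP Z i) ≤ (centralizer (B : Set G)).relIndex (NN Z i) :=
    relIndex_le_of_sup le_sup_left hXc (sup_le le_sup_left (le_trans (le_inf le_sup_right hZB) le_sup_right))
  have h3 : NP Z i ⊓ centralizer (B : Set G) ≤ t := by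
    rintro x ⟨hx, hx2⟩
    refine ⟨hx, fun a ha => ?_⟩
    rw [mem_centralizer_iff.1 hx2 a ha, mul_inv_cancel_right, mul_inv_cancel]
    exact one_mem _
  have h4 : t ≤ NP Z i := fun x hx => hx.1
  have h5 : t.relIndex (NP Z i) = (NP Z i ⊓ centralizer (B : Set G)).relIndex (NP Z i) := by
    refine le_antisymm (relIndex_anti h3) ?_
    rw [inf_relIndex_left]
    exact (h2.trans he).trans h1
  have h6 : Nat.card t ≤ Nat.card (NP Z i ⊓ centralizer (B : Set G) : Subgroup G) := by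
    have c1 := card_eq (NP Z i) t
    have c2 := card_eq (NP Z i) (NP Z i ⊓ centralizer (B : Set G))
    rw [inf_eq_right.2 h4] at c1
    rw [inf_eq_right.2 inf_le_left, ← h5] at c2
    rw [c1] at c2
    exact (Nat.eq_of_mul_eq_mul_right (relIndex_pos _ _) c2).le
  rw [← Subgroup.eq_of_le_of_card_ge h3 h6]
  exact inf_le_right

/-- `C_G(V i) T = {c ∈ C_i : [V i, c] ≤ Z i}` -/
theorem mem_HH {i : Fin 2} {c : G} : c ∈ HH T V i ↔ c ∈ CC Z i ∧ ∀ w ∈ V i, c * w * c⁻¹ * w⁻¹ ∈ Z i := by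
  have hVC : V i ≤ CC Z i := ((D.VQ i).trans (D.Q_le_T i)).trans (D.T_le_C i)
  let E : Subgroup G :=
    { carrier := {c | c ∈ CC Z i ∧ ∀ w ∈ V i, c * w * c⁻¹ * w⁻¹ ∈ Z i}
      one_mem' := ⟨one_mem _, fun w _ => by simp⟩
      mul_mem' := by
        rintro a b ⟨ha, ha'⟩ ⟨hb, hb'⟩
        refine ⟨mul_mem ha hb, fun w hw => ?_⟩
        have e : a * b * w * (a * b)⁻¹ * w⁻¹ = (a * (b * w * b⁻¹ * w⁻¹) * a⁻¹) * (a * w * a⁻¹ * w⁻¹) := by group
        rw [e, D.Z_cent_C i ha (hb' w hw), mul_inv_cancel_right]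
        exact mul_mem (hb' w hw) (ha' w hw)
      inv_mem' := by
        rintro a ⟨ha, ha'⟩
        refine ⟨inv_mem ha, fun w hw => ?_⟩
        have e : a⁻¹ * w * a⁻¹⁻¹ * w⁻¹ = a⁻¹ * (a * w * a⁻¹ * w⁻¹)⁻¹ * a := by group
        rw [e, D.Z_cent_C i (inv_mem ha) (inv_mem (ha' w hw)), inv_mul_cancel_right]
        exact inv_mem (ha' w hw) }
  change _ ↔ c ∈ E
  have hTE : T ≤ E := fun t ht => ⟨D.T_le_C i ht, fun w hw => D.com i w hw t ht⟩
  have h1 : HH T V i ≤ E := by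
    refine sup_le (fun c hc => ⟨D.cent_V_le i hc, fun w hw => ?_⟩) hTE
    rw [← mem_centralizer_iff.1 hc w hw, mul_inv_cancel_right, mul_inv_cancel]
    exact one_mem _
  refine ⟨fun h => h1 h, fun h => ?_⟩
  have hS : Syl T E := ⟨hTE, D.T_isPGroup, fun R' hR' hR2 hTR => (D.syl i).2.2 R' (fun x hx => (hR' hx).1) hR2 hTR⟩
  have h2 := Star.Core.oddGen_sup hTE (syl_not_dvd hS)
  rw [← h2] at h
  refine sup_le_sup_right ?_ T h
  rw [oddGen_def, closure_le]
  rintro g ⟨hgE, hgo⟩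
  refine mem_centralizer_iff.2 fun w hw => ?_
  have hz := hgE.2 w hw
  set z := g * w * g⁻¹ * w⁻¹ with hzdef
  have hgz : g * z = z * g := D.Z_cent_C i hgE.1 hz
  have h3 : ∀ n : ℕ, g ^ n * w * (g ^ n)⁻¹ = z ^ n * w := by
    intro n
    induction n with
    | zero => simp
    | succ n ih =>
      have h4 : Commute g (z ^ n) := (show Commute g z from hgz).pow_right n
      calc g ^ (n + 1) * w * (g ^ (n + 1))⁻¹ = g * (g ^ n * w * (g ^ n)⁻¹) * g⁻¹ := by rw [pow_succ']; group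
        _ = (g * z ^ n) * w * g⁻¹ := by rw [ih]; group
        _ = z ^ n * (g * w * g⁻¹ * w⁻¹) * w := by rw [h4.eq]; group
        _ = z ^ (n + 1) * w := by rw [← hzdef, pow_succ]
  have h4 := h3 (orderOf g)
  rw [pow_orderOf_eq_one, one_mul, inv_one, mul_one] at h4
  have h5 : z ^ orderOf g = 1 := by
    have := mul_right_cancel (a := z ^ orderOf g) (b := w) (c := 1) (by rw [← h4, one_mul])
    exact this
  have h6 : z ^ 2 = 1 := D.Z_sq i z hz
  obtain ⟨k, hk⟩ := hgo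
  rw [hk, pow_succ, pow_mul, h6, one_pow, one_mul] at h5
  have h7 : g * w * g⁻¹ = w := by
    have h8 : g * w * g⁻¹ * w⁻¹ = 1 := by rw [← hzdef]; exact h5
    exact mul_inv_eq_one.1 h8
  exact (eq_mul_of_mul_inv_eq h7).symm

end FrN

end Cfsg.Agent.Omega.KL.TwoZ
end

-- part: Mrg/Omega/KL/TwoZ/GE
section
section


/-!
# THEOREM G* (bb #24006 (3), #24444 (B), (F4)) with a `C_i`-invariant `Z i ≤ E ≤ V i` (`Z i` or a line)

* `PreY`, **`PreY.inp`** : the input of THEOREM KL*(q) with `N_H(T)`-fixed vectors;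
* `FrE T V Z i E` : the frame; `FrE.no_E` : (NO) on `N_i E / E`; `FrE.le_E` : exactness on `N_i E / E`;
* `KE V Z i E = C_{C(E)}(X_i / N_i E)`; `FrE.exists_fix` : the vectors `w₀`;
* **`FrE.g1`** : `A ≤ C_G(E)` a 2-group, `[X_i, A] ≤ N_i E` : `[N_i, A] = 1`; **`FrN.gOne`** : the case `E = Z i`.
-/

set_option autoImplicit false
set_option linter.unusedSectionVars false

namespace Cfsg.Agent.Omega.KL.TwoZ

open Subgroup Cfsg Cfsg.Agent.Omega.MinPar
open Cfsg.Agent.ZN (o2 zc)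
open Cfsg.Agent.ClassTwoFusion.Quad Cfsg.Agent.Omega.ML.MinFrame
open Cfsg.Agent.Omega.OM.KTwo (ne_add_one eq_add_one add_one_add_one le_normalizer_V le_V exists_mul_of_mem_sup)
open Cfsg.Agent.MinSimple.MinParabolic (IsMinPar)
open Cfsg.Agent.Omega.NoFF.Basic (conj_conj mem_conj conj_le_iff comm_symm comm_mono Z_le_V V_le)
open Cfsg.Agent.ZN.ChoiceSit (Syl exists_syl syl_conj o2_le_syl syl_not_dvd)
open Cfsg.Agent.MinSimple.VModule (mem_zc zc_le normalizer_le_normalizer_zc le_o2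
  o2_isPGroup o2_le zc_le_centralizer le_centralizer_zc le_normalizer_o2)
open Cfsg.Agent.Omega.TC (kgroup_mono)
open Cfsg.Agent.Omega.TC.LemZ (card_eq le_norm_of norm_cent norm_inf)
open Cfsg.Agent.Omega.KL.Quo (norm_lift)
open Cfsg.Agent.Omega.KL.StarQ (InpY)
open Cfsg.Agent.Omega.KL.TwoS (Mx relIndex_anti relIndex_mono relIndex_le_of_sup)
open Cfsg.Agent.Omega.ML.Final (conjAct)
open scoped Pointwise

universe u v

/-- the input of THEOREM KL*(q), `N_C(T)` fixes `Y` pointwise -/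
structure PreY {C : Type u} [Group C] {M : Type v} [Group M] [MulDistribMulAction C M] (T A : Subgroup C)
    (Z Y : Subgroup M) : Prop where
  sq : ∀ m : M, m * m = 1
  two : IsPGroup 2 T
  syl : ¬ 2 ∣ T.index
  tZ : ∀ z ∈ Z, ∀ t ∈ T, t • z = z
  NZ : ∀ g ∈ normalizer (T : Set C), ∀ z ∈ Z, g • z ∈ Z
  NY : ∀ g ∈ normalizer (T : Set C), ∀ w ∈ Y, g • w = w
  par : ∀ P : Subgroup C, IsMinPar T P → (∀ z ∈ Z, ∀ p ∈ P, p • z = z) ∨
    ∀ g ∈ P, Odd (orderOf g) → ∀ w ∈ Y, g • w = w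
  el : ∀ a ∈ A, a * a = 1
  AZ : A ≤ o2 (fxr C Z)
  AY : A ≤ o2 (fxr C Y ⊔ T)
  /-- `A` is faithful on `⟨Z^C⟩` modulo the kernel -/
  nk : ∀ a ∈ A, (∀ (c : C), ∀ z ∈ Z, a • c • z = c • z) → ∀ m : M, a • m = m
  mv : ∃ a ∈ A, ∃ m : M, a • m ≠ m
  no : ∀ B : Subgroup C, B ≤ A → (fxr C (⊤ : Subgroup M)).relIndex B ≤ (cv M (B : Set C)).index
  le : (cv M (A : Set C)).index ≤ (fxr C (⊤ : Subgroup M)).relIndex A
  KC : IsKGroup C

section pre

variable {C : Type u} [Group C] [Finite C] {M : Type v} [Group M] [Finite M] [MulDistribMulAction C M]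
  {T A : Subgroup C} {Z Y : Subgroup M}

theorem PreY.inp (h : PreY T A Z Y) :
    ∃ (H : Type u) (_ : Group H) (_ : Finite H) (_ : MulDistribMulAction H M) (T' A' : Subgroup H),
      InpY T' A' Z Y := by
  have htriv : ∀ k ∈ fxr C (⊤ : Subgroup M), ∀ m : M, k • m = m := fun k hk m => hk m (mem_top m)
  have hN : (fxr C (⊤ : Subgroup M)).Normal := fxr_normal fun _ _ _ => mem_top _
  set N := fxr C (⊤ : Subgroup M) with hNdef
  let _ : MulDistribMulAction (C ⧸ N) M := quoAct N htriv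
  let π : C →* C ⧸ N := QuotientGroup.mk' N
  have hπ : Function.Surjective π := QuotientGroup.mk'_surjective N
  have he : ∀ (g : C) (v : M), π g • v = g • v := fun _ _ => rfl
  have hker : ∀ k : C, (∀ v : M, k • v = v) → π k = 1 := fun k hk =>
    (QuotientGroup.eq_one_iff k).2 fun v _ => hk v
  have hker2 : ∀ k : C, π k = 1 → ∀ v : M, k • v = v := fun k hk v =>
    (QuotientGroup.eq_one_iff k).1 hk v (mem_top v)
  -- stabilisers
  have hfx : ∀ Y' : Subgroup M, (fxr C Y').map π = fxr (C ⧸ N) Y' := by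
    intro Y'
    ext g
    constructor
    · rintro ⟨c, hc, rfl⟩
      exact hc
    · intro hg
      obtain ⟨c, rfl⟩ := hπ g
      exact ⟨c, hg, rfl⟩
  have ho2 : ∀ S : Subgroup C, A ≤ o2 S → A.map π ≤ o2 (S.map π) := by
    intro S hS
    refine (map_mono hS).trans (le_o2 (map_mono (o2_le _)) ((o2_isPGroup _).map π) ?_)
    exact (map_mono (le_normalizer_o2 _)).trans (le_normalizer_map π)
  have hx : A.map π ≤ o2 (fxr (C ⧸ N) Z) := by
    rw [← hfx]
    exact ho2 _ h.AZ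
  have hy : A.map π ≤ o2 (fxr (C ⧸ N) Y ⊔ T.map π) := by
    rw [← hfx, ← Subgroup.map_sup]
    exact ho2 _ h.AY
  have hsyl : ¬ 2 ∣ (T.map π).index := fun h2 => h.syl (h2.trans (index_map_dvd T hπ))
  have hKH : IsKGroup (C ⧸ N) := ML.Final.sec_KG.quo C h.KC N
  have hel : ∀ a ∈ A.map π, a * a = 1 := by
    rintro _ ⟨a, ha, rfl⟩
    rw [← map_mul, h.el a ha, map_one]
  -- `A.map π` is faithful on `⟨Z^C⟩`
  have hfa : ∀ g ∈ A.map π, (∀ (c : C ⧸ N), ∀ z ∈ Z, g • c • z = c • z) → g = 1 := by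
    rintro _ ⟨a, ha, rfl⟩ hg
    exact hker a (h.nk a ha fun c z hz => hg (π c) z hz)
  -- (NO)
  have hcv : ∀ B : Subgroup C, cv M (B.map π : Set (C ⧸ N)) = cv M (B : Set C) := by
    intro B
    ext v
    constructor
    · exact fun hv a ha => hv _ ⟨a, ha, rfl⟩
    · rintro hv _ ⟨a, ha, rfl⟩
      exact hv a ha
  have hcard : ∀ B : Subgroup C, Nat.card (B.map π) = N.relIndex B := by
    intro B
    rw [← relIndex_bot_left, ← relIndex_comap, MonoidHom.comap_bot, QuotientGroup.ker_mk']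
  have hno : ∀ B : Subgroup (C ⧸ N), B ≤ A.map π → Nat.card B ≤ (cv M (B : Set (C ⧸ N))).index := by
    intro B hB
    have e : (A ⊓ B.comap π).map π = B := by
      apply le_antisymm
      · rintro _ ⟨a, ha, rfl⟩
        exact ha.2
      · intro g hg
        obtain ⟨a, ha, rfl⟩ := hB hg
        exact ⟨a, ⟨ha, hg⟩, rfl⟩
    rw [← e, hcv, hcard]
    exact h.no _ inf_le_left
  have hex : (cv M (A.map π : Set (C ⧸ N))).index = Nat.card (A.map π) := by
    refine le_antisymm ?_ (hno _ le_rfl)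
    rw [hcv, hcard]
    exact h.le
  have hA1 : A.map π ≠ ⊥ := by
    intro h1
    obtain ⟨a, ha, m, hm⟩ := h.mv
    apply hm
    refine hker2 a ?_ m
    rw [← mem_bot, ← h1]
    exact ⟨a, ha, rfl⟩
  -- an atom
  obtain ⟨B, ⟨hBA, hB1, hBe⟩, hmin⟩ : ∃ B : Subgroup (C ⧸ N), (B ≤ A.map π ∧ B ≠ ⊥ ∧
      (cv M (B : Set (C ⧸ N))).index = Nat.card B) ∧ ∀ B' : Subgroup (C ⧸ N), (B' ≤ A.map π ∧ B' ≠ ⊥ ∧
      (cv M (B' : Set (C ⧸ N))).index = Nat.card B') → B' ≤ B → B' = B := by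
    obtain ⟨B, hB⟩ := (Set.toFinite {B : Subgroup (C ⧸ N) | B ≤ A.map π ∧ B ≠ ⊥ ∧
      (cv M (B : Set (C ⧸ N))).index = Nat.card B}).exists_minimal ⟨A.map π, le_rfl, hA1, hex⟩
    exact ⟨B, hB.prop, fun B' hB' hle => le_antisymm hle (hB.le_of_le hB' hle)⟩
  have htZ : ∀ z ∈ Z, ∀ t ∈ T.map π, t • z = z := by
    rintro z hz _ ⟨t, ht, rfl⟩
    exact h.tZ z hz t ht
  refine ⟨C ⧸ N, inferInstance, inferInstance, inferInstance, T.map π, B, ?_⟩
  refine ⟨h.sq, h.two.map π, hsyl, htZ, ?_, ?_, ?_, fun a ha => hel a (hBA ha), hBe, ?_, ?_, hBA.trans hx,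
    hBA.trans hy, hKH⟩
  · intro g hg z hz
    obtain ⟨t, ht, n, hn, rfl⟩ := norm_lift π hπ h.two h.syl hg
    rw [he, mul_smul]
    exact h.NZ t (le_normalizer ht) _ (h.NZ n hn z hz)
  · intro g hg z hz
    obtain ⟨t, ht, n, hn, rfl⟩ := norm_lift π hπ h.two h.syl hg
    rw [he, mul_smul, h.NY n hn z hz]
    exact h.NY t (le_normalizer ht) z hz
  · intro P hP
    obtain ⟨R, hR, rfl⟩ := Quo.exists_minPar π hπ hP
    rcases h.par R hR with h1 | h1
    · left
      rintro z hz _ ⟨r, hr, rfl⟩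
      exact h1 z hz r hr
    · right
      intro g hg hog w hw
      obtain ⟨c, hc, hco, rfl⟩ := exists_odd π hg hog
      exact h1 c hc hco w hw
  · intro B' hB' hB1' hne
    refine lt_of_le_of_ne (hno B' (hB'.trans hBA)) fun h1 => hne ?_
    exact hmin B' ⟨hB'.trans hBA, hB1', h1.symm⟩ hB'
  · -- `O₂(H)` centralises `⟨Z^H⟩`
    intro hle
    apply hB1
    rw [eq_bot_iff]
    intro b hb
    rw [mem_bot]
    refine hfa b (hBA hb) fun c z hz => ?_
    have h1 : c⁻¹ * b * c ∈ o2 (⊤ : Subgroup (C ⧸ N)) := by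
      have := (mem_normalizer_iff.1 (le_normalizer_o2 (⊤ : Subgroup (C ⧸ N)) (mem_top c⁻¹)) b).1 (hle hb)
      rwa [inv_inv] at this
    have h2 : o2 (⊤ : Subgroup (C ⧸ N)) ≤ T.map π :=
      Cfsg.Agent.MinSimple.VModule.o2_le_of_sylow (h.two.map π) (by rwa [relIndex_top_right])
    have h3 := htZ z hz _ (h2 h1)
    rw [mul_smul, mul_smul, inv_smul_eq_iff] at h3
    exact h3

end pre

variable {G : Type u} [Group G]

/-- `{x ∈ W | [a, x] ∈ Y for a ∈ A}` -/
def tE (W Y : Subgroup G) (A : Set G) (hW : ∀ x ∈ W, ∀ y ∈ Y, x * y = y * x) : Subgroup G where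
  carrier := {x | x ∈ W ∧ ∀ a ∈ A, a * x * a⁻¹ * x⁻¹ ∈ Y}
  one_mem' := ⟨one_mem _, fun a _ => by simp⟩
  mul_mem' := by
    rintro x y ⟨hx, hx'⟩ ⟨hy, hy'⟩
    refine ⟨mul_mem hx hy, fun a ha => ?_⟩
    have h1 := hW x hx _ (hy' a ha)
    have e : a * (x * y) * a⁻¹ * (x * y)⁻¹ = (a * x * a⁻¹) * (a * y * a⁻¹ * y⁻¹) * x⁻¹ := by group
    have e2 : (a * x * a⁻¹) * (a * y * a⁻¹ * y⁻¹) * x⁻¹ = (a * x * a⁻¹ * x⁻¹) * (a * y * a⁻¹ * y⁻¹) := by
      calc (a * x * a⁻¹) * (a * y * a⁻¹ * y⁻¹) * x⁻¹ = (a * x * a⁻¹ * x⁻¹) * (x * (a * y * a⁻¹ * y⁻¹)) * x⁻¹ := by group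
        _ = (a * x * a⁻¹ * x⁻¹) * (a * y * a⁻¹ * y⁻¹) := by rw [h1]; group
    rw [e, e2]
    exact mul_mem (hx' a ha) (hy' a ha)
  inv_mem' := by
    rintro x ⟨hx, hx'⟩
    refine ⟨inv_mem hx, fun a ha => ?_⟩
    have h1 := inv_mem (hx' a ha)
    have h2 := hW x hx _ h1
    have e : a * x⁻¹ * a⁻¹ * x⁻¹⁻¹ = x⁻¹ * ((a * x * a⁻¹ * x⁻¹)⁻¹ * x) := by group
    rw [e, ← h2, inv_mul_cancel_left]
    exact h1

/-- **a fixed vector modulo `Y`**: the product of an odd orbit -/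
theorem exists_fix_sec [Finite G] {C X Y N T : Subgroup G} (hX : C ≤ normalizer (X : Set G))
    (hY : C ≤ normalizer (Y : Set G)) (hXY : X ≤ normalizer (Y : Set G)) (YN : Y ≤ N)
    (sq : ∀ x ∈ X, x * x ∈ Y) (hT : ¬ 2 ∣ T.relIndex C) {w : G} (hw : w ∈ X)
    (tw : ∀ t ∈ T, t * w * t⁻¹ * w⁻¹ ∈ Y) (hN : ∀ g ∈ C, g * w * g⁻¹ * w⁻¹ ∈ N) :
    ∃ w0 ∈ X, w0 * w⁻¹ ∈ N ∧ ∀ g ∈ C, g * w0 * g⁻¹ * w0⁻¹ ∈ Y := by
  have hNm : (Y.subgroupOf X).Normal := normal_subgroupOf_of_le_normalizer hXY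
  let _ := conjAct hX hY
  let mk : X →* X ⧸ Y.subgroupOf X := QuotientGroup.mk' (Y.subgroupOf X)
  have hmk : Function.Surjective mk := QuotientGroup.mk'_surjective _
  have hsm : ∀ (g : C) (x : X) (hx : (g : G) * x * (g : G)⁻¹ ∈ X), g • mk x = mk ⟨(g : G) * x * (g : G)⁻¹, hx⟩ :=
    fun _ _ _ => rfl
  have hmem : ∀ (g : C) (x : X), (g : G) * x * (g : G)⁻¹ ∈ X := fun g x =>
    (mem_normalizer_iff.1 (hX g.2) x).1 x.2
  have hone : ∀ x y : X, mk x = mk y ↔ (x : G) * (y : G)⁻¹ ∈ Y := by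
    intro x y
    rw [← mul_inv_eq_one, ← map_inv, ← map_mul, ← MonoidHom.mem_ker, QuotientGroup.ker_mk']
    exact Iff.rfl
  have hfix : ∀ (g : C) (x : X), g • mk x = mk x ↔ (g : G) * x * (g : G)⁻¹ * (x : G)⁻¹ ∈ Y := by
    intro g x
    rw [hsm g x (hmem g x), hone]
  obtain ⟨m0, h0, h1⟩ := Cfsg.Agent.Omega.NO3S.EMany.Low.exists_fix_coset (H := C) (M := X ⧸ Y.subgroupOf X)
    (T := T.subgroupOf C) (R := ⊤) (m := mk ⟨w, hw⟩) (I := (N.subgroupOf X).map mk)
    (by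
      intro v
      obtain ⟨x, rfl⟩ := hmk v
      rw [← map_mul, ← map_one mk, hone]
      simpa using sq x x.2)
    (by rw [relIndex_top_right]; exact hT)
    (fun t ht => (hfix t _).2 (tw _ (mem_subgroupOf.1 ht)))
    (by
      intro g _
      rw [hsm g _ (hmem g _), ← map_inv, ← map_mul]
      exact mem_map_of_mem mk (mem_subgroupOf.2 (hN g g.2)))
  obtain ⟨x0, rfl⟩ := hmk m0
  refine ⟨x0, x0.2, ?_, fun g hg => (hfix ⟨g, hg⟩ x0).1 (h0 ⟨g, hg⟩ (mem_top _))⟩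
  rw [← map_inv, ← map_mul] at h1
  obtain ⟨n, hn, hne⟩ := h1
  have h2 := YN ((hone _ _).1 hne)
  have h3 := mem_subgroupOf.1 hn
  have e : (x0 : G) * w⁻¹ = ((n : G) * ((x0 * (⟨w, hw⟩ : X)⁻¹ : X) : G)⁻¹)⁻¹ * n := by
    push_cast
    group
  rw [e]
  exact mul_mem (inv_mem h2) h3

/-- **the frame of THEOREM G*** with a `C_i`-invariant `Z i ≤ E ≤ V i` -/
structure FrE [Finite G] (T : Subgroup G) (V Z : Fin 2 → Subgroup G) (i : Fin 2) (E : Subgroup G) : Prop where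
  fr : Fr T V Z
  ZE : Z i ≤ E
  EV : E ≤ V i
  CE : CC Z i ≤ normalizer (E : Set G)
  sep : ∀ c ∈ CC Z i, ∀ m ∈ Z (i + 1), c * m * c⁻¹ * m⁻¹ ∈ E → c * m * c⁻¹ = m
  dis : V i ⊓ (NN Z i ⊔ E) ≤ E
  fix : ∀ c ∈ centralizer (E : Set G), (∀ w ∈ V i, (∀ t ∈ T, t * w * t⁻¹ * w⁻¹ ∈ E) → c * w * c⁻¹ * w⁻¹ ∈ E) →
    c ∈ HH T V i
  lem0 : ∀ K A : Subgroup G, K ≤ CC Z i → CC Z i ≤ normalizer (K : Set G) → A ≤ K → IsPGroup 2 A →
    ¬ A ≤ centralizer (NN Z i : Set G) → NN Z i ≤ NH Z i K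

namespace FrE

variable [Finite G] {T E : Subgroup G} {V Z : Fin 2 → Subgroup G} {i : Fin 2} (D : FrE T V Z i E)

include D

theorem E_le_X : E ≤ XX V Z i := (D.EV.trans (le_V _ _)).trans le_sup_left

theorem NE_le_X : NN Z i ⊔ E ≤ XX V Z i := sup_le le_sup_right D.E_le_X

theorem X_le_C : XX V Z i ≤ CC Z i := ((D.fr.X_facts i).1.trans (D.fr.Q_le_T i)).trans (D.fr.T_le_C i)

theorem X_sq : ∀ x ∈ XX V Z i, x ^ 2 = 1 := (D.fr.X_facts i).2.1

theorem X_comm {x y : G} (hx : x ∈ XX V Z i) (hy : y ∈ XX V Z i) : x * y = y * x :=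
  mem_centralizer_iff.1 (Cfsg.Agent.Omega.KL.TwoS.comm_of_sq D.X_sq hy) x hx

theorem XE : ∀ x ∈ XX V Z i, ∀ y ∈ E, x * y = y * x := fun _ hx _ hy => D.X_comm hx (D.E_le_X hy)

theorem C_norm_X : CC Z i ≤ normalizer (XX V Z i : Set G) := (D.fr.X_facts i).2.2.1

theorem X_norm_E : XX V Z i ≤ normalizer (E : Set G) := D.X_le_C.trans D.CE

theorem conj_E {c e : G} (hc : c ∈ CC Z i) (he : e ∈ E) : c * e * c⁻¹ ∈ E := (mem_normalizer_iff.1 (D.CE hc) e).1 he

theorem C_norm_NE : CC Z i ≤ normalizer ((NN Z i ⊔ E : Subgroup G) : Set G) := by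
  refine le_norm_of fun c hc x hx => ?_
  obtain ⟨n, hn, e, he, rfl⟩ := exists_mul_of_mem_sup ((D.E_le_X.trans D.X_le_C).trans (le_normalizer_V _ _)) hx
  have e1 : c * (n * e) * c⁻¹ = (c * n * c⁻¹) * (c * e * c⁻¹) := by group
  rw [e1]
  exact mul_mem (mem_sup_left ((mem_normalizer_iff.1 (le_normalizer_V (Z (i + 1)) (CC Z i) hc) n).1 hn))
    (mem_sup_right (D.conj_E hc he))

/-- (0.2) for the conjugates -/
theorem sep' {c l m : G} (hc : c ∈ CC Z i) (hl : l ∈ CC Z i) (hm : m ∈ Z (i + 1))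
    (h : c * (l * m * l⁻¹) * c⁻¹ * (l * m * l⁻¹)⁻¹ ∈ E) : c * (l * m * l⁻¹) * c⁻¹ = l * m * l⁻¹ := by
  have h1 := D.sep (l⁻¹ * c * l) (mul_mem (mul_mem (inv_mem hl) hc) hl) m hm (by
    have e : l⁻¹ * c * l * m * (l⁻¹ * c * l)⁻¹ * m⁻¹ = l⁻¹ * (c * (l * m * l⁻¹) * c⁻¹ * (l * m * l⁻¹)⁻¹) * l⁻¹⁻¹ := by group
    rw [e]
    exact D.conj_E (inv_mem hl) h)
  calc c * (l * m * l⁻¹) * c⁻¹ = l * (l⁻¹ * c * l * m * (l⁻¹ * c * l)⁻¹) * l⁻¹ := by group
    _ = l * m * l⁻¹ := by rw [h1]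

/-- an element of `C_i` which centralises `⟨Z (i+1)^L⟩ E / E` centralises `⟨Z (i+1)^L⟩` -/
theorem cent_of_mod {L : Subgroup G} (hL : L ≤ CC Z i) {c : G} (hc : c ∈ CC Z i)
    (h : ∀ l ∈ L, ∀ m ∈ Z (i + 1), c * (l * m * l⁻¹) * c⁻¹ * (l * m * l⁻¹)⁻¹ ∈ E) :
    c ∈ centralizer (NH Z i L : Set G) := by
  have h1 : NH Z i L ≤ centralizer ({c} : Set G) := by
    refine V_le fun l hl z hz => ?_
    rw [mem_conj] at hz
    have h2 := D.sep' hc (hL hl) hz (h l hl _ hz)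
    have e : l * (l⁻¹ * z * l) * l⁻¹ = z := by group
    rw [e] at h2
    rw [mem_centralizer_singleton_iff]
    have h3 := eq_mul_of_mul_inv_eq h2
    exact h3.symm
  rw [mem_centralizer_iff]
  exact fun x hx => mem_centralizer_singleton_iff.1 (h1 hx)

/-- `{x ∈ N_i E : [x, A] ≤ E}` -/
abbrev tN (A : Set G) : Subgroup G := tE (NN Z i ⊔ E) E A fun x hx y hy => D.XE x (D.NE_le_X hx) y hy

/-- **(NO)** on `N_i E / E` -/
theorem no_E (hML : ML.Final.MLK.{u, u}) {A : Subgroup G} (hK : IsKGroup (CC Z i))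
    (hA : A ≤ o2 (centralizer (zc T : Set G))) (hA2 : ∀ a ∈ A, a ^ 2 = 1) :
    (centralizer (NN Z i : Set G)).relIndex A ≤ (D.tN (A : Set G)).relIndex (NN Z i ⊔ E) := by
  have hAC : A ≤ CC Z i := (hA.trans D.fr.O_le_T).trans (D.fr.T_le_C i)
  obtain ⟨w, hw, hw1⟩ : ∃ w ∈ Z (i + 1), w ≠ 1 := by
    by_contra hc
    push Not at hc
    exact D.fr.ne (i + 1) (eq_bot_iff.2 fun x hx => mem_bot.2 (hc x hx))
  set W : Subgroup G := NoFF.Basic.V (zpowers w) (CC Z i) with hW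
  set WP : Subgroup G := W ⊔ E with hWP
  have hwW : w ∈ W := le_V _ _ (mem_zpowers w)
  have hCW : CC Z i ≤ normalizer (W : Set G) := le_normalizer_V _ _
  have hWN : W ≤ NN Z i := V_le_of ((zpowers_le.2 hw).trans (le_V _ _)) (le_normalizer_V _ _)
  have hWPN : WP ≤ NN Z i ⊔ E := sup_le_sup_right hWN _
  have hWPX : WP ≤ XX V Z i := hWPN.trans D.NE_le_X
  have hcW : ∀ x ∈ WP, ∀ y ∈ E, x * y = y * x := fun x hx y hy => D.XE x (hWPX hx) y hy
  have hst : ∀ g ∈ CC Z i, g * w * g⁻¹ * w⁻¹ ∈ E →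
      g ∈ normalizer ((centralizer (zc T : Set G) : Subgroup G) : Set G) := by
    intro g hg h
    have h1 := D.sep g hg w hw h
    have h2 : g ∈ centralizer ({w} : Set G) := by
      rw [mem_centralizer_singleton_iff]
      calc g * w = (g * w * g⁻¹) * g := by group
        _ = w * g := by rw [h1]
    exact D.fr.norm_D i ⟨hg, D.fr.sti hw hw1 ⟨hg, h2⟩⟩
  have hker : A ⊓ centralizer (W : Set G) ≤ centralizer (NN Z i : Set G) := by
    -- as in `no_H`
    set H₁ : Subgroup G := CC Z i ⊓ centralizer ({w} : Set G) with hH₁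
    have hTH₁ : T ≤ H₁ := le_inf (D.fr.T_le_C i)
      ((D.fr.T_le_C (i + 1)).trans (centralizer_le (Set.singleton_subset_iff.2 hw)))
    have h1 : A ≤ o2 H₁ := by
      have h2 : o2 (centralizer (zc T : Set G)) ⊓ H₁ ≤ o2 H₁ := by
        refine le_o2 inf_le_right ((o2_isPGroup _).to_le inf_le_left) ?_
        refine le_norm_of fun g hg q hq => ?_
        have h3 : g ∈ normalizer ((o2 (centralizer (zc T : Set G)) : Subgroup G) : Set G) :=
          norm_o2_of (D.fr.norm_D i ⟨hg.1, D.fr.sti hw hw1 hg⟩)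
        exact ⟨(mem_normalizer_iff.1 h3 q).1 hq.1, H₁.mul_mem (H₁.mul_mem hg hq.2) (H₁.inv_mem hg)⟩
      exact (le_inf hA ((hA.trans D.fr.O_le_T).trans hTH₁)).trans h2
    have h2 := GenTool.o2_inf_le (L := CC Z i) (N := CC Z i ⊓ centralizer (W : Set G)) (R := H₁) inf_le_left
      (fun g hg x hx => ⟨(CC Z i).mul_mem ((CC Z i).mul_mem hg hx.1) ((CC Z i).inv_mem hg),
        (mem_normalizer_iff.1 (norm_cent hCW hg) x).1 hx.2⟩)
      (le_inf inf_le_left (inf_le_right.trans (centralizer_le (Set.singleton_subset_iff.2 hwW))))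
    exact ((le_inf (inf_le_left.trans h1) (le_inf (inf_le_left.trans hAC) inf_le_right)).trans h2).trans
      (D.fr.Q_le_cent_N i)
  -- an element of `C_i` trivial on `W E / E` centralises `W`
  have hmod : ∀ a ∈ CC Z i, (∀ x ∈ WP, a * x * a⁻¹ * x⁻¹ ∈ E) → a ∈ centralizer (W : Set G) := by
    intro a ha h
    have h1 : W ≤ centralizer ({a} : Set G) := by
      refine V_le fun l hl z hz => ?_
      rw [mem_conj] at hz
      obtain ⟨n, hn⟩ := mem_zpowers_iff.1 hz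
      have hz2 : l⁻¹ * z * l ∈ Z (i + 1) := by
        rw [← hn]; exact zpow_mem hw n
      have hz3 : z ∈ W := by
        have := (mem_normalizer_iff.1 (hCW hl) _).1 ((zpowers_le.2 hwW) (by rw [← hn]; exact ⟨n, rfl⟩ :
          l⁻¹ * z * l ∈ zpowers w))
        have e : l * (l⁻¹ * z * l) * l⁻¹ = z := by group
        rwa [e] at this
      have e : l * (l⁻¹ * z * l) * l⁻¹ = z := by group
      have h2 := D.sep' ha hl hz2 (by rw [e]; exact h z (mem_sup_left hz3))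
      rw [e] at h2
      rw [mem_centralizer_singleton_iff]
      exact (eq_mul_of_mul_inv_eq h2).symm
    rw [mem_centralizer_iff]
    exact fun x hx => mem_centralizer_singleton_iff.1 (h1 hx)
  have hmain : (A ⊓ centralizer (W : Set G)).relIndex A ≤ (tE WP E (A : Set G) hcW).relIndex WP := by
    refine hML.grp (C := CC Z i) (W := WP) (Y := E) (T := T) (Q := o2 (centralizer (zc T : Set G))) (A := A)
      (w := w) hK ?_ (KA := A ⊓ centralizer (W : Set G)) (CW := tE WP E (A : Set G) hcW) ?_ ?_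
    · refine ⟨?_, D.CE, le_sup_right, hWPX.trans D.X_norm_E, ?_, mem_sup_left hwW, ?_, D.fr.T_le_C i,
        D.fr.T_isPGroup, syl_not_dvd (D.fr.syl i), ?_, D.fr.O_le_T.trans (D.fr.T_le_C i), o2_isPGroup _, ?_, ?_, hA, ?_⟩
      · refine le_norm_of fun c hc x hx => ?_
        obtain ⟨n, hn, e, he, rfl⟩ := exists_mul_of_mem_sup ((D.E_le_X.trans D.X_le_C).trans hCW) hx
        have e1 : c * (n * e) * c⁻¹ = (c * n * c⁻¹) * (c * e * c⁻¹) := by group
        rw [e1]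
        exact mul_mem (mem_sup_left ((mem_normalizer_iff.1 (hCW hc) n).1 hn)) (mem_sup_right (D.conj_E hc he))
      · intro x hx
        have h1 := D.X_sq x (hWPX hx)
        rw [pow_two] at h1
        rw [h1]
        exact one_mem _
      · intro U hU hYU hHU
        exact sup_le (V_le_of (zpowers_le.2 hU) hHU) hYU
      · intro t ht
        have h1 := mem_centralizer_iff.1 (D.fr.T_le_C (i + 1) ht) w hw
        rw [← h1, mul_inv_cancel_right, mul_inv_cancel]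
        exact one_mem _
      · intro q hq
        have h1 := mem_centralizer_iff.1 (D.fr.cent_zc_le (i + 1) (o2_le _ hq)) w hw
        rw [← h1, mul_inv_cancel_right, mul_inv_cancel]
        exact one_mem _
      · intro g hg hgY q hq
        exact (mem_normalizer_iff.1 (norm_o2_of (hst g hg hgY)) q).1 hq
      · intro a ha x _
        have h1 : a * a = 1 := by rw [← pow_two]; exact hA2 a ha
        have e : a * (a * x * a⁻¹) * a⁻¹ * x⁻¹ = (a * a) * x * (a * a)⁻¹ * x⁻¹ := by group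
        rw [e, h1]
        simp
    · intro a
      constructor
      · rintro ⟨h1, h2⟩
        refine ⟨h1, fun x hx => ?_⟩
        have h3 : WP ≤ tE WP E ({a} : Set G) hcW := by
          refine sup_le (fun y hy => ⟨mem_sup_left hy, ?_⟩) fun y hy => ⟨mem_sup_right hy, ?_⟩
          · rintro _ rfl
            rw [← mem_centralizer_iff.1 h2 y hy, mul_inv_cancel_right, mul_inv_cancel]
            exact one_mem _
          · rintro _ rfl
            exact mul_mem (D.conj_E (hAC h1) hy) (inv_mem hy)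
        exact (h3 hx).2 a rfl
      · rintro ⟨h1, h2⟩
        exact ⟨h1, hmod a (hAC h1) h2⟩
    · intro x
      exact Iff.rfl
  rw [inf_relIndex_left] at hmain
  have h1 : (centralizer (NN Z i : Set G)).relIndex A ≤ (centralizer (W : Set G)).relIndex A := by
    rw [← inf_relIndex_left A (centralizer (W : Set G))]
    exact relIndex_anti hker
  refine h1.trans (hmain.trans ?_)
  have h2 : (tE WP E (A : Set G) hcW).relIndex WP = (D.tN (A : Set G)).relIndex WP := by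
    have e : (tE WP E (A : Set G) hcW) ⊓ WP = D.tN (A : Set G) ⊓ WP := by
      ext x
      constructor
      · rintro ⟨⟨h3, h4⟩, h5⟩
        exact ⟨⟨hWPN h3, h4⟩, h5⟩
      · rintro ⟨⟨h3, h4⟩, h5⟩
        exact ⟨⟨h5, h4⟩, h5⟩
    rw [← inf_relIndex_right, e, inf_relIndex_right]
  rw [h2]
  exact relIndex_mono hWPN

/-- exactness on `N_i E / E` -/
theorem le_E {B : Subgroup G} (hBC : B ≤ CC Z i) :
    (D.tN (B : Set G)).relIndex (NN Z i ⊔ E) ≤ (centralizer (B : Set G)).relIndex (NN Z i) := by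
  have hXc : NN Z i ⊔ E ≤ centralizer ((NN Z i ⊔ E : Subgroup G) : Set G) :=
    Cfsg.Agent.Omega.KL.TwoS.comm_of_sq fun x hx => D.X_sq x (D.NE_le_X hx)
  have hEt : E ≤ D.tN (B : Set G) := fun e he =>
    ⟨mem_sup_right he, fun b hb => mul_mem (D.conj_E (hBC hb) he) (inv_mem he)⟩
  refine (relIndex_le_of_sup le_sup_left hXc (sup_le le_sup_left (le_trans (le_inf le_sup_right hEt) le_sup_right))).trans ?_
  rw [← inf_relIndex_left (NN Z i) (centralizer (B : Set G))]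
  refine relIndex_anti fun x hx => ⟨mem_sup_left hx.1, fun b hb => ?_⟩
  rw [mem_centralizer_iff.1 hx.2 b hb, mul_inv_cancel_right, mul_inv_cancel]
  exact one_mem _

/-- `K = C_{C_G(E)}(X_i / N_i E)` -/
def KE : Subgroup G where
  carrier := {g | g ∈ centralizer (E : Set G) ∧ ∀ x ∈ XX V Z i, g * x * g⁻¹ * x⁻¹ ∈ NN Z i ⊔ E}
  one_mem' := ⟨one_mem _, fun x _ => by simp⟩
  mul_mem' := by
    rintro a b ⟨ha, ha'⟩ ⟨hb, hb'⟩
    refine ⟨mul_mem ha hb, fun x hx => ?_⟩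
    have haC : a ∈ CC Z i := centralizer_le D.ZE ha
    have e : a * b * x * (a * b)⁻¹ * x⁻¹ = (a * (b * x * b⁻¹ * x⁻¹) * a⁻¹) * (a * x * a⁻¹ * x⁻¹) := by group
    rw [e]
    exact mul_mem ((mem_normalizer_iff.1 (D.C_norm_NE haC) _).1 (hb' x hx)) (ha' x hx)
  inv_mem' := by
    rintro a ⟨ha, ha'⟩
    refine ⟨inv_mem ha, fun x hx => ?_⟩
    have haC : a⁻¹ ∈ CC Z i := inv_mem (centralizer_le D.ZE ha)
    have e : a⁻¹ * x * a⁻¹⁻¹ * x⁻¹ = a⁻¹ * (a * x * a⁻¹ * x⁻¹)⁻¹ * a⁻¹⁻¹ := by group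
    rw [e]
    exact (mem_normalizer_iff.1 (D.C_norm_NE haC) _).1 (inv_mem (ha' x hx))

theorem KE_le : D.KE ≤ CC Z i := fun _ h => centralizer_le D.ZE h.1

theorem C_norm_KE : CC Z i ≤ normalizer (D.KE : Set G) := by
  refine le_norm_of fun c hc g hg => ?_
  refine ⟨(mem_normalizer_iff.1 (norm_cent D.CE hc) g).1 hg.1, fun x hx => ?_⟩
  have e : c * g * c⁻¹ * x * (c * g * c⁻¹)⁻¹ * x⁻¹ = c * (g * (c⁻¹ * x * c⁻¹⁻¹) * g⁻¹ * (c⁻¹ * x * c⁻¹⁻¹)⁻¹) * c⁻¹ := by group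
  rw [e]
  exact (mem_normalizer_iff.1 (D.C_norm_NE hc) _).1
    (hg.2 _ ((mem_normalizer_iff.1 (D.C_norm_X (inv_mem hc)) x).1 hx))

/-- `H = K T` -/
abbrev HE : Subgroup G := D.KE ⊔ T

theorem HE_le : D.HE ≤ CC Z i := sup_le D.KE_le (D.fr.T_le_C i)

theorem T_norm_KE : T ≤ normalizer (D.KE : Set G) := (D.fr.T_le_C i).trans D.C_norm_KE

theorem exists_kt {g : G} (hg : g ∈ D.HE) : ∃ k ∈ D.KE, ∃ t ∈ T, k * t = g := by
  obtain ⟨k, hk, t, ht, e⟩ := exists_mul_of_mem_sup D.T_norm_KE hg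
  exact ⟨k, hk, t, ht, e.symm⟩

theorem syl_HE : Syl T D.HE :=
  ⟨le_sup_right, D.fr.T_isPGroup, fun R hR hR2 hTR => (D.fr.syl i).2.2 R (hR.trans D.HE_le) hR2 hTR⟩

/-- `w ∈ V i` fixed by `T` modulo `E` -/
def Vf (_ : FrE T V Z i E) (w : G) : Prop := w ∈ V i ∧ ∀ t ∈ T, t * w * t⁻¹ * w⁻¹ ∈ E

theorem Vf_X {w : G} (h : D.Vf w) : w ∈ XX V Z i := mem_sup_left (le_V _ _ h.1)

/-- `w₀ ≡ w` modulo `N_i E`, fixed by `H` modulo `E` -/
def IsV (w w0 : G) : Prop := w0 ∈ XX V Z i ∧ w0 * w⁻¹ ∈ NN Z i ⊔ E ∧ ∀ g ∈ D.HE, g * w0 * g⁻¹ * w0⁻¹ ∈ E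

/-- **the vectors `w₀`** -/
theorem exists_isV {w : G} (hw : D.Vf w) : ∃ w0, D.IsV w w0 := by
  obtain ⟨w0, h1, h2, h3⟩ := exists_fix_sec (C := D.HE) (X := XX V Z i) (Y := E) (N := NN Z i ⊔ E) (T := T)
    (D.HE_le.trans D.C_norm_X) (D.HE_le.trans D.CE) D.X_norm_E le_sup_right
    (fun x hx => by
      have h1 := D.X_sq x hx
      rw [pow_two] at h1
      rw [h1]
      exact one_mem _)
    (syl_not_dvd D.syl_HE) (D.Vf_X hw) hw.2 (fun g hg => by
      obtain ⟨k, hk, t, ht, rfl⟩ := D.exists_kt hg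
      have e : k * t * w * (k * t)⁻¹ * w⁻¹ = (k * (t * w * t⁻¹ * w⁻¹) * k⁻¹) * (k * w * k⁻¹ * w⁻¹) := by group
      rw [e]
      exact mul_mem (mem_sup_right (D.conj_E (D.KE_le hk) (hw.2 t ht))) (hk.2 w (D.Vf_X hw)))
  exact ⟨w0, h1, h2, h3⟩

/-- `{x ∈ X_i : [c, x] ∈ E}` -/
abbrev tX (c : G) : Subgroup G := tE (XX V Z i) E ({c} : Set G) D.XE

theorem mem_tX {c x : G} : x ∈ D.tX c ↔ x ∈ XX V Z i ∧ c * x * c⁻¹ * x⁻¹ ∈ E :=
  ⟨fun h => ⟨h.1, h.2 c rfl⟩, fun h => ⟨h.1, by rintro _ rfl; exact h.2⟩⟩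

/-- **the input of THEOREM KL*(q)** -/
theorem preY (hML : ML.Final.MLK.{u, u}) (hK : IsKGroup (CC Z i)) {A : Subgroup G}
    (hA : Mx (o2 (centralizer (zc T : Set G))) A)
    (hm : ¬ A ⊓ centralizer (UU V Z i : Set G) ≤ centralizer (NN Z i : Set G)) (hN : NN Z i ≤ NH Z i D.KE) :
    ∃ (C M : Type u) (_ : Group C) (_ : Finite C) (_ : Group M) (_ : Finite M) (_ : MulDistribMulAction C M)
      (T' A' : Subgroup C) (Z' Y' : Subgroup M), PreY T' A' Z' Y' := by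
  obtain ⟨h5, h6, -⟩ := D.fr.ex_U hML hK hA
  set B : Subgroup G := A ⊓ centralizer (UU V Z i : Set G) with hB
  set H : Subgroup G := D.HE with hHdef
  set NE : Subgroup G := NN Z i ⊔ E with hNE
  have hHC : H ≤ CC Z i := D.HE_le
  have hTH : T ≤ H := le_sup_right
  have hKH : D.KE ≤ H := le_sup_left
  have hBO : B ≤ o2 (centralizer (zc T : Set G)) := inf_le_left.trans hA.le
  have hBT : B ≤ T := hBO.trans D.fr.O_le_T
  have hBH : B ≤ H := hBT.trans hTH
  have hBC : B ≤ CC Z i := hBH.trans hHC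
  have hB2 : ∀ b ∈ B, b ^ 2 = 1 := fun b hb => hA.sq b hb.1
  have hX : H ≤ normalizer (NE : Set G) := hHC.trans D.C_norm_NE
  have hY : H ≤ normalizer (E : Set G) := hHC.trans D.CE
  have hXY : NE ≤ normalizer (E : Set G) := D.NE_le_X.trans D.X_norm_E
  have hNm : (E.subgroupOf NE).Normal := normal_subgroupOf_of_le_normalizer hXY
  let _ := conjAct hX hY
  let mk : NE →* NE ⧸ E.subgroupOf NE := QuotientGroup.mk' (E.subgroupOf NE)
  have hmk : Function.Surjective mk := QuotientGroup.mk'_surjective _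
  have hsm : ∀ (g : H) (x : NE) (hx : (g : G) * x * (g : G)⁻¹ ∈ NE), g • mk x = mk ⟨(g : G) * x * (g : G)⁻¹, hx⟩ :=
    fun _ _ _ => rfl
  have hmem : ∀ (g : H) (x : NE), (g : G) * x * (g : G)⁻¹ ∈ NE := fun g x =>
    (mem_normalizer_iff.1 (hX g.2) x).1 x.2
  have hone : ∀ x y : NE, mk x = mk y ↔ (x : G) * (y : G)⁻¹ ∈ E := by
    intro x y
    rw [← mul_inv_eq_one, ← map_inv, ← map_mul, ← MonoidHom.mem_ker, QuotientGroup.ker_mk']
    exact Iff.rfl
  have hfix : ∀ (g : H) (x : NE), g • mk x = mk x ↔ (g : G) * x * (g : G)⁻¹ * (x : G)⁻¹ ∈ E := by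
    intro g x
    rw [hsm g x (hmem g x), hone]
  have hZN : Z (i + 1) ≤ NE := (le_V _ _).trans le_sup_left
  -- `Z'`, `Y'`
  let Z' : Subgroup (NE ⧸ E.subgroupOf NE) := ((Z (i + 1)).subgroupOf NE).map mk
  let YS : Set (NE ⧸ E.subgroupOf NE) := {m | ∃ w w0, ∃ (_ : D.Vf w) (_ : D.IsV w w0) (h : w0 * w⁻¹ ∈ NE), m = mk ⟨w0 * w⁻¹, h⟩}
  let Y' : Subgroup (NE ⧸ E.subgroupOf NE) := closure YS
  have hYfix : ∀ g : H, (∀ w, D.Vf w → (g : G) * w * (g : G)⁻¹ * w⁻¹ ∈ E) → ∀ y ∈ Y', g • y = y := by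
    intro g hg y hy
    have h1 : Y' ≤ cv (NE ⧸ E.subgroupOf NE) ({g} : Set H) := by
      change closure YS ≤ _
      rw [closure_le]
      rintro _ ⟨w, w0, hw, hw0, hh, rfl⟩ a ha
      rw [Set.mem_singleton_iff.1 ha, hfix]
      have h2 : w ∈ D.tX g := D.mem_tX.2 ⟨D.Vf_X hw, hg w hw⟩
      have h3 : w0 ∈ D.tX g := D.mem_tX.2 ⟨hw0.1, hw0.2.2 g g.2⟩
      exact (D.mem_tX.1 (mul_mem h3 (inv_mem h2))).2
    exact h1 hy g rfl
  have hYfix2 : ∀ g : H, (∀ y ∈ Y', g • y = y) → ∀ w, D.Vf w → (g : G) * w * (g : G)⁻¹ * w⁻¹ ∈ E := by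
    intro g hg w hw
    obtain ⟨w0, hw0⟩ := D.exists_isV hw
    have h1 := hg (mk ⟨w0 * w⁻¹, hw0.2.1⟩) (subset_closure ⟨w, w0, hw, hw0, hw0.2.1, rfl⟩)
    rw [hfix] at h1
    have h2 : w0 * w⁻¹ ∈ D.tX g := D.mem_tX.2 ⟨D.NE_le_X hw0.2.1, h1⟩
    have h3 : w0 ∈ D.tX g := D.mem_tX.2 ⟨hw0.1, hw0.2.2 g g.2⟩
    have h4 : w ∈ D.tX g := by
      have e : w = (w0 * w⁻¹)⁻¹ * w0 := by group
      rw [e]
      exact mul_mem (inv_mem h2) h3
    exact (D.mem_tX.1 h4).2
  have hnT : ∀ g : H, g ∈ normalizer ((T.subgroupOf H : Subgroup H) : Set H) → (g : G) ∈ normalizer (T : Set G) := by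
    intro g hg
    rw [mem_normalizer_iff]
    intro t
    constructor
    · intro ht
      exact (mem_normalizer_iff.1 hg ⟨t, hTH ht⟩).1 ht
    · intro ht
      have h1 : (g : G)⁻¹ * ((g : G) * t * (g : G)⁻¹) * (g : G)⁻¹⁻¹ ∈ T :=
        (mem_normalizer_iff.1 (inv_mem hg) ⟨(g : G) * t * (g : G)⁻¹, hTH ht⟩).1 ht
      have e : (g : G)⁻¹ * ((g : G) * t * (g : G)⁻¹) * (g : G)⁻¹⁻¹ = t := by group
      rwa [e] at h1
  -- the kernel
  have hfxt : fxr H (⊤ : Subgroup (NE ⧸ E.subgroupOf NE)) = (centralizer (NN Z i : Set G)).subgroupOf H := by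
    ext c
    rw [mem_subgroupOf]
    constructor
    · intro h
      refine D.cent_of_mod (L := CC Z i) le_rfl (hHC c.2) fun l hl m hmm => ?_
      have h1 : l * m * l⁻¹ ∈ NE := mem_sup_left (Z_le_V hl (mem_conj.2 (by
        have e : l⁻¹ * (l * m * l⁻¹) * l = m := by group
        rwa [e])))
      exact (hfix c ⟨_, h1⟩).1 (h _ (mem_top _))
    · intro h m _
      obtain ⟨x, rfl⟩ := hmk m
      rw [hfix]
      have h1 : NE ≤ D.tX (c : G) := by
        refine sup_le (fun y hy => D.mem_tX.2 ⟨mem_sup_right hy, ?_⟩) fun y hy => D.mem_tX.2 ⟨D.E_le_X hy, ?_⟩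
        · rw [← mem_centralizer_iff.1 h y hy, mul_inv_cancel_right, mul_inv_cancel]
          exact one_mem _
        · exact mul_mem (D.conj_E (hHC c.2) hy) (inv_mem hy)
      exact (D.mem_tX.1 (h1 x.2)).2
  have hcv : ∀ S : Subgroup H, (cv (NE ⧸ E.subgroupOf NE) (S : Set H)).index =
      (D.tN ((S.map H.subtype : Subgroup G) : Set G)).relIndex NE := by
    intro S
    rw [← index_comap_of_surjective _ hmk]
    change _ = ((D.tN ((S.map H.subtype : Subgroup G) : Set G)).subgroupOf NE).index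
    congr 1
    ext x
    rw [mem_subgroupOf, mem_comap]
    constructor
    · intro h
      refine ⟨x.2, ?_⟩
      rintro _ ⟨s, hs, rfl⟩
      exact (hfix s x).1 (h s hs)
    · rintro ⟨-, h⟩ s hs
      exact (hfix s x).2 (h s ⟨s, hs, rfl⟩)
  refine ⟨H, NE ⧸ E.subgroupOf NE, inferInstance, inferInstance, inferInstance, inferInstance, inferInstance,
    T.subgroupOf H, B.subgroupOf H, Z', Y', ?_⟩
  refine ⟨?_, ?_, ?_, ?_, ?_, ?_, ?_, ?_, ?_, ?_, ?_, ?_, ?_, ?_, kgroup_mono hK hHC⟩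
  · intro m
    obtain ⟨x, rfl⟩ := hmk m
    rw [← map_mul, ← map_one mk, hone]
    have h1 := D.X_sq x (D.NE_le_X x.2)
    rw [pow_two] at h1
    simp [h1]
  · exact D.fr.T_isPGroup.comap_of_injective H.subtype H.subtype_injective
  · exact syl_not_dvd D.syl_HE
  · rintro _ ⟨z, hz, rfl⟩ t ht
    rw [hfix, ← mem_centralizer_iff.1 (D.fr.T_le_C (i + 1) (mem_subgroupOf.1 ht)) z (mem_subgroupOf.1 hz),
      mul_inv_cancel_right, mul_inv_cancel]
    exact one_mem _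
  · rintro g hg _ ⟨z, hz, rfl⟩
    rw [hsm g z (hmem g z)]
    exact mem_map_of_mem mk (mem_subgroupOf.2 ((mem_normalizer_iff.1 (D.fr.nT i ⟨hHC g.2, hnT g hg⟩).1.1 _).1
      (mem_subgroupOf.1 hz)))
  · intro g hg
    refine hYfix g fun w hw => ?_
    obtain ⟨k, hk, t, ht, hkt⟩ := D.exists_kt g.2
    have hkT : k ∈ normalizer (T : Set G) := by
      have e : k = (g : G) * t⁻¹ := by rw [← hkt]; group
      rw [e]
      exact mul_mem (hnT g hg) (inv_mem (le_normalizer ht))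
    have hkV := (D.fr.nT i ⟨D.KE_le hk, hkT⟩).1.2
    have h1 : k * w * k⁻¹ * w⁻¹ ∈ E :=
      D.dis (mem_inf.2 ⟨mul_mem ((mem_normalizer_iff.1 hkV w).1 hw.1) (inv_mem hw.1), hk.2 w (D.Vf_X hw)⟩)
    rw [← hkt]
    have e : k * t * w * (k * t)⁻¹ * w⁻¹ = (k * (t * w * t⁻¹ * w⁻¹) * k⁻¹) * (k * w * k⁻¹ * w⁻¹) := by group
    rw [e]
    exact mul_mem (D.conj_E (D.KE_le hk) (hw.2 t ht)) h1
  · intro P hP
    have hR := Plug.minPar_map hTH hP
    have hRC : P.map H.subtype ≤ CC Z i := (map_subtype_le P).trans hHC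
    by_cases hRm : P.map H.subtype ≤ CC Z (i + 1)
    · left
      rintro _ ⟨z, hz, rfl⟩ p hp
      have h1 : (z : G) * (p : G) = p * z :=
        mem_centralizer_iff.1 (hRm (mem_map_of_mem H.subtype hp)) z (mem_subgroupOf.1 hz)
      rw [hfix, ← h1, mul_inv_cancel_right, mul_inv_cancel]
      exact one_mem _
    · right
      intro g hg hog
      refine hYfix g fun w hw => ?_
      have h1 := D.fr.odd (i + 1) i (ne_add_one i).symm _ hR hRC hRm g (mem_map_of_mem H.subtype hg)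
        (by rwa [orderOf_coe])
      rw [← mem_centralizer_iff.1 h1 w hw.1, mul_inv_cancel_right, mul_inv_cancel]
      exact one_mem _
  · intro a ha
    apply Subtype.ext
    have h := hB2 a (mem_subgroupOf.1 ha)
    rw [pow_two] at h
    exact h
  · refine Plug.sub_o2 (S := centralizer (zc T : Set G)) (fun c => ?_) hBO
    constructor
    · intro h
      refine D.fr.mem_D (i := i) (hHC c.2) ?_
      rw [mem_centralizer_iff]
      intro z hz
      have h1 := (hfix c ⟨z, hZN hz⟩).1 (h _ (mem_map_of_mem mk (mem_subgroupOf.2 hz)))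
      exact (eq_mul_of_mul_inv_eq (D.sep c (hHC c.2) z hz h1)).symm
    · rintro h _ ⟨z, hz, rfl⟩
      rw [hfix, ← mem_centralizer_iff.1 (D.fr.cent_zc_le (i + 1) h) z (mem_subgroupOf.1 hz), mul_inv_cancel_right,
        mul_inv_cancel]
      exact one_mem _
  · refine Plug.sub_o2 (S := HH T V i) (fun c => ?_) h5
    have hS : fxr H Y' ⊔ T.subgroupOf H = (HH T V i).subgroupOf H := by
      apply le_antisymm
      · refine sup_le (fun g hg => mem_subgroupOf.2 ?_) fun t ht => mem_subgroupOf.2 (D.fr.T_le_H i (mem_subgroupOf.1 ht))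
        obtain ⟨k, hk, t, ht, hkt⟩ := D.exists_kt g.2
        have h1 := hYfix2 g hg
        rw [← hkt]
        refine mul_mem (D.fix k hk.1 fun w hw hwT => ?_) (D.fr.T_le_H i ht)
        have h2 := h1 w ⟨hw, hwT⟩
        rw [← hkt] at h2
        have e : k * w * k⁻¹ * w⁻¹ = (k * (t * w * t⁻¹ * w⁻¹) * k⁻¹)⁻¹ * (k * t * w * (k * t)⁻¹ * w⁻¹) := by group
        rw [e]
        exact mul_mem (inv_mem (D.conj_E (D.KE_le hk) (hwT t ht))) h2
      · intro g hg
        obtain ⟨c, hc, t, ht, hct⟩ := exists_mul_of_mem_sup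
          ((D.fr.nV i).trans (norm_cent (A := normalizer (V i : Set G)) le_rfl)) (mem_subgroupOf.1 hg)
        have hcH : c ∈ H := by
          have e : c = (g : G) * t⁻¹ := by rw [hct]; group
          rw [e]
          exact H.mul_mem g.2 (H.inv_mem (hTH ht))
        have e : g = (⟨c, hcH⟩ : H) * ⟨t, hTH ht⟩ := Subtype.ext hct
        rw [e]
        refine mul_mem (mem_sup_left ?_) (mem_sup_right (mem_subgroupOf.2 ht))
        refine hYfix _ fun w hw => ?_
        change c * w * c⁻¹ * w⁻¹ ∈ E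
        rw [← mem_centralizer_iff.1 hc w hw.1, mul_inv_cancel_right, mul_inv_cancel]
        exact one_mem _
    rw [hS, mem_subgroupOf]
  · intro a ha hc m
    have h1 : (a : G) ∈ centralizer (NN Z i : Set G) := by
      refine centralizer_le (hN.trans (V_le_of (le_V _ _) (hKH.trans (le_normalizer_V _ _)) : NH Z i D.KE ≤ NH Z i H)) ?_
      refine D.cent_of_mod hHC (hHC a.2) fun l hl z hz => ?_
      have h2 := hc ⟨l, hl⟩ (mk ⟨z, hZN hz⟩) (mem_map_of_mem mk (mem_subgroupOf.2 hz))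
      rw [hsm ⟨l, hl⟩ _ (hmem _ _), hfix] at h2
      exact h2
    have h3 : a ∈ fxr H (⊤ : Subgroup (NE ⧸ E.subgroupOf NE)) := by
      rw [hfxt]
      exact mem_subgroupOf.2 h1
    exact h3 m (mem_top _)
  · by_contra hc
    push Not at hc
    apply hm
    intro b hb
    have h3 : (⟨b, hBH hb⟩ : H) ∈ fxr H (⊤ : Subgroup (NE ⧸ E.subgroupOf NE)) := fun m _ =>
      hc ⟨b, hBH hb⟩ (mem_subgroupOf.2 hb) m
    rw [hfxt] at h3
    exact mem_subgroupOf.1 h3
  · intro S hS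
    have hSB : S.map H.subtype ≤ B := by
      rintro _ ⟨a, ha, rfl⟩
      exact mem_subgroupOf.1 (hS ha)
    have e1 : (fxr H (⊤ : Subgroup (NE ⧸ E.subgroupOf NE))).relIndex S =
        (centralizer (NN Z i : Set G)).relIndex (S.map H.subtype) := by
      rw [hfxt, subgroupOf, relIndex_comap]
    rw [e1, hcv]
    exact D.no_E hML hK (hSB.trans hBO) fun b hb => hB2 b (hSB hb)
  · have e : (B.subgroupOf H).map H.subtype = B := by
      rw [subgroupOf_map_subtype, inf_eq_left.2 hBH]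
    rw [hcv, hfxt, relIndex_subgroupOf hBH, e]
    exact (D.le_E hBC).trans h6.ge

/-- **THEOREM G*, (G1)** -/
theorem g1 (hML : ML.Final.MLK.{u, u}) (hE : ML.Ex.Two.Ext.{u, u}) (hK : IsKGroup (CC Z i)) (hF : ¬ Fail T V Z i)
    {A : Subgroup G} (hA : A ≤ centralizer (E : Set G)) (hA2 : IsPGroup 2 A)
    (h : ∀ a ∈ A, ∀ x ∈ XX V Z i, a * x * a⁻¹ * x⁻¹ ∈ NN Z i ⊔ E) : A ≤ centralizer (NN Z i : Set G) := by
  by_contra hm
  have hN := D.lem0 D.KE A D.KE_le D.C_norm_KE (fun a ha => ⟨hA ha, h a ha⟩) hA2 hm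
  unfold Fail at hF
  push Not at hF
  obtain ⟨B, hB, -, hmB⟩ := hF
  obtain ⟨C, M, _, _, _, _, _, T', A', Z', Y', hP⟩ := D.preY hML hK hB hmB hN
  obtain ⟨H, _, _, _, T'', A'', hI⟩ := hP.inp
  exact hI.false_of hML hE

end FrE

end Cfsg.Agent.Omega.KL.TwoZ

end

section


/-!
# THEOREM G* modulo a `C_i`-invariant `E` (lines), over `TwoZ.Fr`; (G2), (G3)

* **`FrE.of`** : `FrE T V Z i E` over `Fr` : `sep` = `Fr.stab`, `lem0` = `Fr.lem0` (`Low.lean`, helper70);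
* `GOneM T V Z i` : (G1) for the maximal `A ≤ O` with `[X_i, A] ≤ N_i`; `FrE.gOneM`;
* `Fr.g2M`, `Fr.g_conjM`, **`Fr.g3M`** : (G2), (G3) from `GOneM` (as in `GThree.lean`, helper812).
-/

set_option autoImplicit false
set_option linter.unusedSectionVars false

namespace Cfsg.Agent.Omega.KL.TwoZ

open Subgroup Cfsg Cfsg.Agent.Omega.MinPar
open Cfsg.Agent.ZN (o2 zc)
open Cfsg.Agent.Omega.OM.KTwo (ne_add_one eq_add_one add_one_add_one le_normalizer_V le_V exists_mul_of_mem_sup)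
open Cfsg.Agent.Omega.NoFF.Basic (conj_conj mem_conj conj_le_iff comm_symm comm_mono Z_le_V V_le)
open Cfsg.Agent.Omega.NOThreeL.Pair (conj_eq_of_mem conj_le_normalizer)
open Cfsg.Agent.Omega.NoFF.ThmJFam (card_sup_inf card_conj conj_cent conj_inf)
open Cfsg.Agent.MinSimple.VModule (mem_zc zc_le normalizer_le_normalizer_zc le_o2
  o2_isPGroup o2_le zc_le_centralizer le_centralizer_zc le_normalizer_o2)
open Cfsg.Agent.Omega.TC.LemZ (card_eq le_norm_of norm_cent norm_inf)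
open Cfsg.Agent.Omega.KL.TwoS (Mx comm_of_sq sq_sup relIndex_le_of_sup sup_of_relIndex_le relIndex_pos relIndex_mono
  relIndex_anti relIndex_split)
open scoped Pointwise

universe u

variable {G : Type u} [Group G] [Finite G] {T : Subgroup G} {V Z : Fin 2 → Subgroup G}

/-- **`FrE` over `Fr`** -/
theorem FrE.of (D : Fr T V Z) {i : Fin 2} {E : Subgroup G} (ZE : Z i ≤ E) (EV : E ≤ V i)
    (CE : CC Z i ≤ normalizer (E : Set G)) (dis : V i ⊓ (NN Z i ⊔ E) ≤ E)
    (fix : ∀ c ∈ centralizer (E : Set G), (∀ w ∈ V i, (∀ t ∈ T, t * w * t⁻¹ * w⁻¹ ∈ E) → c * w * c⁻¹ * w⁻¹ ∈ E) →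
      c ∈ HH T V i) (tr : Trn T Z i) : FrE T V Z i E := by
  refine ⟨D, ZE, EV, CE, ?_, dis, fix, ?_⟩
  · intro c hc m hm h
    have h1 := D.stab CE (fun z hz hzE => D.dis i z (EV hzE) hz) hm hc h
    rw [h1, mul_inv_cancel_right]
  · intro K A hK hn hAK hA hm
    obtain ⟨a, ha, ham⟩ := SetLike.not_le_iff_exists.1 hm
    exact (D.lem0 tr hK hn ⟨a, hAK ha, hA.to_le (zpowers_le.2 ha), ham⟩).2.2.le

/-- (G1) for the maximal `A ≤ O` with `[X_i, A] ≤ N_i` -/
def GOneM (T : Subgroup G) (V Z : Fin 2 → Subgroup G) (i : Fin 2) : Prop :=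
  ∀ A : Subgroup G, Mx (o2 (centralizer (zc T : Set G))) A →
    (∀ a ∈ A, ∀ x ∈ WW V Z i ⊔ NN Z i, a * x * a⁻¹ * x⁻¹ ∈ NN Z i) → A ≤ centralizer (NN Z i : Set G)

namespace Fr

/-- **(G2)** `A` maximal in `O` moves `N_i` : `C_A(N_i)` moves `W_i` -/
theorem g2M (D : Fr T V Z) (hML : ML.Final.MLK.{u, u}) {i : Fin 2} (hK : IsKGroup (CC Z i)) (hG : GOneM T V Z i)
    {A : Subgroup G} (hA : Mx (o2 (centralizer (zc T : Set G))) A) (hm : ¬ A ≤ centralizer (NN Z i : Set G)) :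
    ¬ A ⊓ centralizer (NN Z i : Set G) ≤ centralizer (WW V Z i : Set G) := by
  intro hc0
  apply hm
  obtain ⟨h1, h2, h3, -⟩ := D.X_facts i
  have hc : A ⊓ centralizer (NN Z i : Set G) ≤ centralizer ((WW V Z i ⊔ NN Z i : Subgroup G) : Set G) :=
    comm_symm (sup_le (comm_symm hc0) (comm_symm inf_le_right))
  have hXc : WW V Z i ⊔ NN Z i ≤ centralizer ((WW V Z i ⊔ NN Z i : Subgroup G) : Set G) := comm_of_sq h2
  have h7 : (centralizer (A : Set G)).relIndex (WW V Z i ⊔ NN Z i) ≤ (centralizer (A : Set G)).relIndex (NN Z i) := by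
    refine (hA.thom (h1.trans (D.Q_le_O i)) h2).trans ?_
    rw [← (D.mx hML hK hA).1]
    have e1 : (A ⊓ centralizer (NN Z i : Set G)).relIndex A = (centralizer (NN Z i : Set G)).relIndex A :=
      inf_relIndex_left _ _
    rw [← e1]
    exact relIndex_anti hc
  have h8 := sup_of_relIndex_le le_sup_right hXc h7
  have hAC : A ≤ CC Z i := (hA.le.trans D.O_le_T).trans (D.T_le_C i)
  refine hG A hA fun a ha x hx => ?_
  have hNX : NN Z i ≤ WW V Z i ⊔ NN Z i := le_sup_right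
  exact comm_le_of_sup (N := NN Z i) (hAC.trans (le_normalizer_V (Z (i + 1)) (CC Z i))) h8
    ((hXc.trans (centralizer_le hNX)).trans (centralizer_le_normalizer _)) a ha x hx

/-- `A` maximal in `O` moves `N_i` : some maximal `A' ≤ Q_i` moves `V i` -/
theorem g_conjM (D : Fr T V Z) (hML : ML.Final.MLK.{u, u}) {i : Fin 2} (hK : IsKGroup (CC Z i)) (hG : GOneM T V Z i)
    {A : Subgroup G} (hA : Mx (o2 (centralizer (zc T : Set G))) A) (hm : ¬ A ≤ centralizer (NN Z i : Set G)) :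
    ∃ B : Subgroup G, Mx (o2 (centralizer (zc T : Set G))) B ∧ B ≤ QQ Z i ∧ ¬ B ≤ centralizer (V i : Set G) := by
  by_contra hcon
  push Not at hcon
  apply D.g2M hML hK hG hA hm
  obtain ⟨-, h1, h2⟩ := D.mx hML hK hA
  have h3 : WW V Z i ≤ centralizer ((A ⊓ centralizer (NN Z i : Set G) ⊔ NN Z i : Subgroup G) : Set G) := by
    refine V_le fun c hc => ?_
    have e1 : MulAut.conj c⁻¹ • QQ Z i = QQ Z i := conj_eq_of_mem (le_normalizer_o2 _ (inv_mem hc))
    have h4 : MulAut.conj c⁻¹ • (A ⊓ centralizer (NN Z i : Set G) ⊔ NN Z i) ≤ QQ Z i := by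
      rw [← e1]; exact conj_le_iff.2 h2
    have h5 := comm_symm (hcon _ (h1.conj (h4.trans (D.Q_le_O i))) h4)
    have h6 : MulAut.conj c • V i ≤ MulAut.conj c • centralizer
        ((MulAut.conj c⁻¹ • (A ⊓ centralizer (NN Z i : Set G) ⊔ NN Z i) : Subgroup G) : Set G) := conj_le_iff.2 h5
    rwa [conj_cent, conj_conj, mul_inv_cancel, map_one, one_smul] at h6
  exact le_sup_left.trans (comm_symm h3)

/-- **(G3)** for both `i` some maximal `A ≤ Q_i` moves `V i` -/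
theorem g3M (D : Fr T V Z) (hML : ML.Final.MLK.{u, u}) (hK : ∀ i, IsKGroup (CC Z i)) (hG : ∀ i, GOneM T V Z i)
    (i : Fin 2) :
    ∃ A : Subgroup G, Mx (o2 (centralizer (zc T : Set G))) A ∧ A ≤ QQ Z i ∧ ¬ A ≤ centralizer (V i : Set G) := by
  obtain ⟨j, A, hA, hm⟩ := D.exists_move_N
  obtain ⟨B, hB, hBQ, hBm⟩ := D.g_conjM hML (hK j) (hG j) hA hm
  by_cases hij : i = j
  · subst hij; exact ⟨B, hB, hBQ, hBm⟩
  · obtain rfl : i = j + 1 := eq_add_one (Ne.symm hij)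
    exact D.g_conjM hML (hK (j + 1)) (hG (j + 1)) hB (D.move_N_of_V hBm)

end Fr

end Cfsg.Agent.Omega.KL.TwoZ

end
end
end

-- part: Mrg/Omega/KL/TwoZ/NFInter
section
set_option linter.all false
open scoped Cfsg.Agent.FastGrp

-- merged: Cfsg.Agent.Mrg.Omega.KL.TwoZ.ThmI
section

/-!
# THEOREM I(q) over the frame `NF` (helper918 #24006 (4)): `N_0 ∩ N_1 ≤ Z_0 Z_1`

* `NF.exists_gen` : a maximal `A ≤ O` which moves `V i` induces all of `T` on `V i`;
* `NF.gdat` : the data `ThmIq.GDat` of one side;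
* **`NF.inter_le`**.
-/

set_option autoImplicit false
set_option linter.unusedSectionVars false

namespace Cfsg.Agent.Omega.KL.TwoZ

open Subgroup Cfsg Cfsg.Agent.Omega.MinPar
open Cfsg.Agent.ZN (o2 zc)
open Cfsg.Agent.Omega.OM.KTwo (ne_add_one eq_add_one add_one_add_one le_normalizer_V le_V)
open Cfsg.Agent.MinSimple.MinParabolic (IsMinPar)
open Cfsg.Agent.Omega.NoFF.Basic (conj_conj mem_conj conj_le_iff comm_symm)
open Cfsg.Agent.ZN.ChoiceSit (Syl syl_not_dvd)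
open Cfsg.Agent.MinSimple.VModule (mem_zc zc_le o2_isPGroup o2_le le_normalizer_o2)
open Cfsg.Agent.Omega.TC.LemZ (card_eq)
open Cfsg.Agent.Omega.KL.TwoS (Mx comm_of_sq)
open scoped Pointwise Matrix

universe u

variable {G : Type u} [Group G]

namespace NF

variable [Finite G] {T : Subgroup G} {V Z : Fin 2 → Subgroup G} (D : NF T V Z)

include D

/-- a maximal `A ≤ O` which moves `V i` : `C_{V i}(A) = Z i` and `A` induces all of `T` on `V i` -/
theorem exists_gen {i : Fin 2} {A : Subgroup G} (hA : Mx (o2 (centralizer (zc T : Set G))) A)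
    (hm : ¬ A ≤ centralizer (V i : Set G)) :
    (∀ t ∈ T, ∃ a ∈ A, a⁻¹ * t ∈ centralizer (V i : Set G)) ∧
      Nat.card A = Nat.card (Z i) * Nat.card (A ⊓ centralizer (V i : Set G) : Subgroup G) := by
  obtain ⟨F, iF, iF', e, hN, h1, -, -⟩ := D.exists_crd i
  have hAT : A ≤ T := hA.le.trans D.O_le_T
  have hVO : V i ≤ o2 (centralizer (zc T : Set G)) := (D.VQ i).trans (D.Q_le_O i)
  choose β hβ using fun t : A => h1 t (hAT t.2)
  -- `C_{V i}(A) = Z i`
  have hfix : V i ⊓ centralizer (A : Set G) = Z i := by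
    apply le_antisymm
    · rintro x ⟨hx, hxA⟩
      by_contra hxZ
      exact hm fun a ha => D.free i a (hAT ha) x hx hxZ (mem_centralizer_iff.1 hxA a ha)
    · exact le_inf (D.ZV i) ((D.Z_cent_T i).trans (centralizer_le hAT))
  have hrel : (centralizer (A : Set G)).relIndex (V i) = Nat.card (Z i) := by
    have c1 := card_eq (V i) (centralizer (A : Set G))
    rw [hfix, D.card i] at c1
    exact (Nat.eq_of_mul_eq_mul_left Nat.card_pos c1).symm
  have hge : Nat.card F ≤ (centralizer (V i : Set G)).relIndex A := by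
    rw [← hN.card_Z, ← hrel]
    exact hA.thom hVO (D.sqV i)
  -- `β` separates the cosets
  have key : ∀ a a' : A, β a = β a' → (a : G)⁻¹ * a' ∈ centralizer (V i : Set G) := by
    intro a a' h
    refine mem_centralizer_iff.2 fun x hx => ?_
    obtain ⟨v, rfl⟩ := (hN.mem x).1 hx
    have h2 := hβ a v
    have h3 := hβ a' v
    rw [← h, ← h2] at h3
    calc e v * ((a : G)⁻¹ * a') = (a : G)⁻¹ * ((a : G) * e v * (a : G)⁻¹) * a' := by group
      _ = (a : G)⁻¹ * ((a' : G) * e v * (a' : G)⁻¹) * a' := by rw [h3]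
      _ = _ := by group
  set C : Subgroup A := (centralizer (V i : Set G)).subgroupOf A with hC
  let g : A ⧸ C → F := fun q => β q.out
  have hg : Function.Injective g := by
    intro q q' h
    have h2 := key q.out q'.out h
    rw [← Quotient.out_eq' q, ← Quotient.out_eq' q']
    exact QuotientGroup.eq.2 (mem_subgroupOf.2 h2)
  have hcard : Nat.card (A ⧸ C) = (centralizer (V i : Set G)).relIndex A := rfl
  have hle : Nat.card (A ⧸ C) ≤ Nat.card F := Nat.card_le_card_of_injective g hg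
  have hbij : Function.Bijective g := hg.bijective_of_nat_card_le (by rw [hcard]; exact hge)
  have heq : (centralizer (V i : Set G)).relIndex A = Nat.card (Z i) := by
    rw [hN.card_Z]
    exact le_antisymm (hcard ▸ hle) hge
  refine ⟨fun t ht => ?_, ?_⟩
  · obtain ⟨b, hb⟩ := h1 t ht
    obtain ⟨q, hq⟩ := hbij.2 b
    refine ⟨(q.out : A), (q.out : A).2, mem_centralizer_iff.2 fun x hx => ?_⟩
    obtain ⟨v, rfl⟩ := (hN.mem x).1 hx
    have h2 := hβ q.out v
    have h3 := hb v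
    have h4 : β q.out = b := hq
    rw [h4, ← h3] at h2
    calc e v * (((q.out : A) : G)⁻¹ * t)
        = ((q.out : A) : G)⁻¹ * (((q.out : A) : G) * e v * ((q.out : A) : G)⁻¹) * t := by group
      _ = ((q.out : A) : G)⁻¹ * (t * e v * t⁻¹) * t := by rw [h2]
      _ = _ := by group
  · have c1 := card_eq A (centralizer (V i : Set G))
    rw [heq, mul_comm] at c1
    exact c1

/-- an element of `R` which maps some `z ∈ Z i#` into `Z i` normalises `Z i` -/
theorem norm_of {i j : Fin 2} (hij : j ≠ i) {R : Subgroup G} (hR : IsMinPar T R) (hRj : R ≤ centralizer (Z j : Set G))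
    (hRi : ¬ R ≤ centralizer (Z i : Set G)) {g z : G} (hg : g ∈ R) (hz : z ∈ Z i) (hz1 : z ≠ 1)
    (h : g * z * g⁻¹ ∈ Z i) : g ∈ normalizer (Z i : Set G) := by
  obtain ⟨F, iF, iF', e, hN, hA⟩ := D.nat i
  obtain ⟨M, hM⟩ := (hA j hij R hR hRj hRi).1 g hg
  obtain ⟨a, rfl⟩ := (hN.pt z).1 hz
  rw [hM, hN.mem_Z, mulVec_two] at h
  have ha : a ≠ 0 := by
    rintro rfl
    apply hz1
    rw [hN.eq_one]
    ext k
    fin_cases k <;> rfl
  have h10 : M.1 1 0 = 0 := by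
    have h2 : M.1 1 0 * a = 0 := by simpa using h
    exact (mul_eq_zero.1 h2).resolve_right ha
  have h3 : MulAut.conj g • Z i ≤ Z i := by
    intro x hx
    rw [mem_conj] at hx
    obtain ⟨b, hb⟩ := (hN.pt _).1 hx
    have h4 := hM ![b, 0]
    rw [hb] at h4
    have e1 : g * (g⁻¹ * x * g) * g⁻¹ = x := by group
    rw [e1] at h4
    rw [h4, hN.mem_Z, mulVec_two]
    simp [h10]
  have h5 : MulAut.conj g • Z i = Z i :=
    Subgroup.eq_of_le_of_card_ge h3 (Cfsg.Agent.Omega.NoFF.ThmJFam.card_conj g (Z i)).ge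
  rw [mem_normalizer_iff]
  intro x
  have e1 : g⁻¹ * (g * x * g⁻¹) * g = x := by group
  constructor
  · intro hx
    rw [← h5, mem_conj, e1]
    exact hx
  · intro hx
    rw [← h5, mem_conj, e1] at hx
    exact hx

/-- **the data of THEOREM I(q)** on one side -/
theorem gdat (hML : ML.Final.MLK.{u, u}) {i : Fin 2} (hK : IsKGroup (CC Z i))
    (hk3 : ∀ B : Subgroup G, B ≤ o2 (centralizer (zc T : Set G)) → (∀ b ∈ B, b ^ 2 = 1) →
      (centralizer (B : Set G)).relIndex (NN Z i) ≤ (centralizer (NN Z i : Set G)).relIndex B →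
      ∀ n ∈ NN Z i, (∀ b ∈ B, b * n * b⁻¹ * n⁻¹ ∈ Z i) → ∀ b ∈ B, b * n = n * b)
    {A : Subgroup G} (hA : Mx (o2 (centralizer (zc T : Set G))) A) (hm : ¬ A ≤ centralizer (V (i + 1) : Set G))
    {R : Subgroup G} (hR : IsMinPar T R) (hRC : R ≤ CC Z i) (hRm : ¬ R ≤ CC Z (i + 1)) :
    ThmIq.GDat R T A R (NN Z i) (V (i + 1)) (Z i) (Z (i + 1)) := by
  have hij := ne_add_one i
  have hAT : A ≤ T := hA.le.trans D.O_le_T
  obtain ⟨hgen, hcard⟩ := D.exists_gen hA hm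
  have hmv : ¬ R ≤ normalizer (Z (i + 1) : Set G) := by
    intro h
    obtain ⟨r, hr, -, h2⟩ := D.exists_mv hij hR hRC hRm
    rw [NOThreeL.Pair.conj_eq_of_mem (h hr), inf_idem] at h2
    exact D.ne (i + 1) h2
  have hRV : R ≤ normalizer (V (i + 1) : Set G) := D.uni (i + 1) i hij.symm R hR hRC hRm (i + 1)
  have hsyl : Syl T R := D.sylH hR.le
  refine
    { sqN := D.N_sq i
      sqZ := D.Z_sq i
      NZ := D.N_le_C i i
      PN := hRC.trans (le_normalizer_V _ _)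
      PV := hRV
      PZ := hRC.trans (centralizer_le_normalizer _)
      VN := D.V_le_N i
      SP := hR.le
      two := D.T_isPGroup
      syl := syl_not_dvd hsyl
      fix := hAT.trans (D.T_le_C i)
      disj := ?_
      le := D.ZV (i + 1)
      ti := fun g hg hgn z hz hgz => by
        by_contra hz1
        exact hgn (D.norm_of hij hR hRC hRm hg hz hz1 hgz)
      mv := hmv
      AS := hAT
      AE := hAT.trans hR.le
      EP := le_rfl
      nE := le_normalizer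
      comm := fun a ha v hv => D.com (i + 1) a (hAT ha) v hv
      cent := hAT.trans (D.T_le_C (i + 1))
      gen := fun s hs _ => hgen s hs
      nrm := ?_
      reg := fun a ha ham v hv hav => by
        by_contra hvZ
        exact ham (D.free (i + 1) a (hAT ha) v hv hvZ hav)
      ab := comm_of_sq hA.sq
      cardV := D.card (i + 1)
      cardA := hcard
      no := fun C hC => D.no_N hML hK (hC.trans hA.le) fun a ha => hA.sq a (hC ha)
      ex := (D.mx hML hK hA).1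
      k3 := fun C hC he => hk3 C (hC.trans hA.le) (fun a ha => hA.sq a (hC ha)) he.ge }
  · rw [eq_bot_iff]
    rintro x ⟨hx, hx'⟩
    rw [mem_bot]
    refine D.dis (i + 1) x hx ?_
    rw [add_one_add_one]
    exact hx'
  · -- `C_T(V) = O₂(R) ∩ C(V)`
    have hf : Fact (Nat.Prime 2) := ⟨Nat.prime_two⟩
    have hn : R ≤ normalizer ((R ⊓ centralizer (V (i + 1) : Set G) : Subgroup G) : Set G) :=
      ThmIq.le_norm_of_conj fun g hg x hx => ⟨R.mul_mem (R.mul_mem hg hx.1) (R.inv_mem hg),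
        (mem_normalizer_iff.1 (Cfsg.Agent.Omega.TC.LemZ.norm_cent hRV hg) x).1 hx.2⟩
    rcases hR.sup_eq_or_inf_le D.T_isPGroup (syl_not_dvd hsyl) inf_le_left hn with h | h
    · exfalso
      apply hRm
      rw [← h]
      exact sup_le (inf_le_right.trans (centralizer_le (D.ZV (i + 1)))) (D.T_le_C (i + 1))
    · have h2 : T ⊓ centralizer (V (i + 1) : Set G) = o2 R ⊓ centralizer (V (i + 1) : Set G) := by
        apply le_antisymm
        · exact le_inf ((le_inf inf_le_left (le_inf (inf_le_left.trans hR.le) inf_le_right)).trans h) inf_le_right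
        · exact inf_le_inf_right _ (Cfsg.Agent.ZN.ChoiceSit.o2_le_syl hsyl)
      rw [h2]
      exact ThmIq.le_norm_of_conj fun g hg x hx =>
        ⟨(mem_normalizer_iff.1 (le_normalizer_o2 _ hg) x).1 hx.1,
          (mem_normalizer_iff.1 (Cfsg.Agent.Omega.TC.LemZ.norm_cent hRV hg) x).1 hx.2⟩

/-- **THEOREM I(q)** (helper918 #24006 (4)): `N_0 ∩ N_1 ≤ Z_0 Z_1` -/
theorem inter_le (hML : ML.Final.MLK.{u, u}) (hK : ∀ i, IsKGroup (CC Z i))
    (hg3 : ∀ i, ∃ A : Subgroup G, Mx (o2 (centralizer (zc T : Set G))) A ∧ A ≤ QQ Z i ∧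
      ¬ A ≤ centralizer (V i : Set G))
    (hk3 : ∀ (i : Fin 2) (B : Subgroup G), B ≤ o2 (centralizer (zc T : Set G)) → (∀ b ∈ B, b ^ 2 = 1) →
      (centralizer (B : Set G)).relIndex (NN Z i) ≤ (centralizer (NN Z i : Set G)).relIndex B →
      ∀ n ∈ NN Z i, (∀ b ∈ B, b * n * b⁻¹ * n⁻¹ ∈ Z i) → ∀ b ∈ B, b * n = n * b) :
    NN Z 0 ⊓ NN Z 1 ≤ Z 0 ⊔ Z 1 := by
  have h10 : (1 : Fin 2) + 1 = 0 := rfl
  have h01 : (0 : Fin 2) + 1 = 1 := rfl
  obtain ⟨A, hA, hAQ, hAm⟩ := hg3 1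
  obtain ⟨A', hA', hAQ', hAm'⟩ := hg3 0
  obtain ⟨R, hR, hRC, hRm⟩ := D.par 0
  obtain ⟨R', hR', hRC', hRm'⟩ := D.par 1
  have E := D.gdat hML (hK 0) (hk3 0) hA (by rw [h01]; exact hAm) hR hRC hRm
  have E' := D.gdat hML (hK 1) (hk3 1) hA' (by rw [h10]; exact hAm') hR' hRC' hRm'
  rw [h01] at E
  rw [h10] at E'
  refine ThmIq.inter_le E E' (hAQ.trans (D.Q_le_cent_N 1)) (hAQ'.trans (D.Q_le_cent_N 0))
    ((D.T_le_C 0).trans (centralizer_le_normalizer _)) ((D.T_le_C 1).trans (centralizer_le_normalizer _)) ?_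
  intro x hx hxT
  rw [← D.zT, mem_zc]
  have h1 : (NN Z 0 ⊓ NN Z 1) ⊔ (Z 0 ⊔ Z 1) ≤ NN Z 0 ⊔ Z 0 :=
    sup_le (inf_le_left.trans le_sup_left) (sup_le le_sup_right ((le_V (Z (0 + 1)) (CC Z 0)).trans le_sup_left))
  have h2 : NN Z 0 ⊔ Z 0 ≤ T := sup_le ((D.N_le_Q 0).trans (D.Q_le_T 0)) (D.Z_le_T 0)
  exact ⟨h2 (h1 hx), fun b hb => mem_centralizer_iff.1 hxT b hb,
    ThmIq.sq_sup_of (D.N_le_C 0 0) (D.N_sq 0) (D.Z_sq 0) x (h1 hx)⟩

end NF

end Cfsg.Agent.Omega.KL.TwoZ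

end

-- merged: Cfsg.Agent.Mrg.Omega.KL.TwoZ.NFFrN
section

/-!
# TEXT W2 (helper918 #24006 (0)): the frame `NF` gives `FrN`

* `NF.frN_fus` : Burnside : a conjugate of an element of `Z 0 Z 1` in `Z 0 Z 1` is its conjugate under `N_G(T)`;
* `NF.frN_ab` : (0.2) no `ab`, `a ∈ Z i#`, `b ∈ Z (i+1)#`, is conjugate into `Z (i+1)`;
* **`NF.frN`** : `FrN T V Z`.
-/

set_option autoImplicit false
set_option linter.unusedSectionVars false

namespace Cfsg.Agent.Omega.KL.TwoZ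

open Subgroup Cfsg Cfsg.Agent.Omega.MinPar
open Cfsg.Agent.ZN (o2 zc)
open Cfsg.Agent.Omega.OM.KTwo (ne_add_one eq_add_one add_one_add_one)
open Cfsg.Agent.MinSimple.MinParabolic (IsMinPar)
open Cfsg.Agent.Omega.NoFF.Basic (conj_conj mem_conj conj_le_iff)
open Cfsg.Agent.MinSimple.VModule (mem_zc zc_le)
open Cfsg.Agent.ZN.ChoiceSit (Syl exists_syl syl_conj)
open scoped Pointwise Matrix

universe u

variable {G : Type u} [Group G]

namespace NF

variable [Finite G] {T : Subgroup G} {V Z : Fin 2 → Subgroup G} (D : NF T V Z)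

include D

/-- **Burnside** : conjugate elements of `C_G(T)` are conjugate under `N_G(T)` -/
theorem frN_fus {g x : G} (hx : x ∈ centralizer (T : Set G)) (hgx : g * x * g⁻¹ ∈ centralizer (T : Set G)) :
    ∃ n ∈ normalizer (T : Set G), n * x * n⁻¹ = g * x * g⁻¹ := by
  set H : Subgroup G := centralizer ({g * x * g⁻¹} : Set G) with hH
  have hT : T ≤ H := by
    intro t ht
    rw [hH, mem_centralizer_singleton_iff]
    exact mem_centralizer_iff.1 hgx t ht
  have hT' : MulAut.conj g • T ≤ H := by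
    intro s hs
    rw [mem_conj] at hs
    rw [hH, mem_centralizer_singleton_iff]
    have h1 := mem_centralizer_iff.1 hx _ hs
    calc s * (g * x * g⁻¹) = g * ((g⁻¹ * s * g) * x) * g⁻¹ := by group
      _ = g * (x * (g⁻¹ * s * g)) * g⁻¹ := by rw [h1]
      _ = g * x * g⁻¹ * s := by group
  have hS : Syl T H := D.sylH hT
  obtain ⟨S, hS', hTS⟩ := exists_syl (D.T_isPGroup.map (MulAut.conj g).toMonoidHom) hT'
  obtain ⟨c, hc, hcS⟩ := syl_conj hS' hS
  have h1 : MulAut.conj (c * g) • T ≤ T := by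
    rw [← conj_conj]
    have h2 : MulAut.conj c • S = T := hcS
    have h3 : MulAut.conj g • T ≤ S := hTS
    exact (conj_le_iff.2 h3).trans h2.le
  have hn : c * g ∈ normalizer (T : Set G) := by
    have h2 : MulAut.conj (c * g) • T = T := by
      refine Subgroup.eq_of_le_of_card_ge h1 (le_of_eq ?_)
      exact (NoFF.ThmJFam.card_conj _ _).symm
    rw [mem_normalizer_iff]
    intro t
    constructor
    · intro ht
      have h3 : t = (c * g)⁻¹ * (c * g * t * (c * g)⁻¹) * (c * g) := by group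
      rw [← h2, mem_conj, ← h3]
      exact ht
    · intro ht
      rw [← h2, mem_conj] at ht
      have h3 : t = (c * g)⁻¹ * (c * g * t * (c * g)⁻¹) * (c * g) := by group
      rw [h3]
      exact ht
  refine ⟨c * g, hn, ?_⟩
  have h3 := mem_centralizer_singleton_iff.1 hc
  calc c * g * x * (c * g)⁻¹ = (c * (g * x * g⁻¹)) * c⁻¹ := by group
    _ = g * x * g⁻¹ := by rw [h3]; group

/-- (0.2) : `z m`, `m ∈ Z (i+1)`, `z ∈ Z i`, conjugate to `m` is `m` -/
theorem frN_ab (i : Fin 2) {g z m : G} (hz : z ∈ Z i) (hm : m ∈ Z (i + 1)) (h : g * m * g⁻¹ = z * m) : z = 1 := by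
  have hcz : ∀ j, Z j ≤ centralizer (T : Set G) := fun j => D.Z_cent_T j
  have h1 : g * m * g⁻¹ ∈ centralizer (T : Set G) := by
    rw [h]
    exact mul_mem (hcz i hz) (hcz _ hm)
  obtain ⟨n, hn, he⟩ := D.frN_fus (hcz _ hm) h1
  have h2 : n * m * n⁻¹ ∈ Z (i + 1) ∨ n * m * n⁻¹ ∈ Z i := by
    rcases D.nrm n hn with h3 | h3
    · left
      rw [← (h3 (i + 1)).1]
      exact ⟨m, hm, rfl⟩
    · right
      have h4 := (h3 (i + 1)).1
      rw [add_one_add_one] at h4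
      rw [← h4]
      exact ⟨m, hm, rfl⟩
  rw [he, h] at h2
  rcases h2 with h3 | h3
  · refine D.dis i z (D.ZV i hz) ?_
    have := mul_mem h3 (inv_mem hm)
    rwa [mul_inv_cancel_right] at this
  · have h4 : m ∈ Z i := by
      have := mul_mem (inv_mem hz) h3
      rwa [inv_mul_cancel_left] at this
    have h5 : m = 1 := D.dis i m (D.ZV i h4) hm
    rw [h5] at h
    rw [mul_one, mul_inv_cancel, mul_one] at h
    exact h.symm

/-- **the frame `FrN` of TEXT W2** -/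
theorem frN : FrN T V Z where
  toFr := D.toFr
  com := fun i w hw t ht => D.com i t ht w hw
  sep := by
    intro i c _ m hm h
    have h1 := D.frN_ab i (g := c) h hm (by group)
    exact mul_inv_eq_one.1 h1
  same := by
    intro i j hij R hR hRj hRi R' hR' hR'j hR'i r' hr'
    obtain ⟨F, iF, iF', e, hN, hA⟩ := D.nat i
    obtain ⟨M, hM⟩ := (hA j hij.symm R' hR' hR'j hR'i).1 r' hr'
    obtain ⟨r, hr, hrM⟩ := (hA j hij.symm R hR hRj hRi).2 M
    refine ⟨r, hr, fun z hz => ?_⟩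
    obtain ⟨a, rfl⟩ := (hN.pt z).1 hz
    rw [hM, hrM]

end NF

end Cfsg.Agent.Omega.KL.TwoZ

end

-- merged: Cfsg.Agent.Mrg.Omega.KL.TwoZ.NFInter
section

/-!
# (4) of TEXT W2 (helper918 #24006) over `NF` from (G1): `N_0 ∩ N_1 ≤ Z_0 Z_1`
-/

set_option autoImplicit false
set_option linter.unusedSectionVars false

namespace Cfsg.Agent.Omega.KL.TwoZ

open Subgroup Cfsg
open Cfsg.Agent.ZN (o2 zc)

universe u

variable {G : Type u} [Group G] [Finite G] {T : Subgroup G} {V Z : Fin 2 → Subgroup G}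

namespace NF

/-- (K3) on `N_i` over `NF` -/
theorem k3N (D : NF T V Z) (hML : ML.Final.MLK.{u, u}) {i : Fin 2} {B : Subgroup G} (hK : IsKGroup (CC Z i))
    (hB : B ≤ o2 (centralizer (zc T : Set G))) (hB2 : ∀ b ∈ B, b ^ 2 = 1)
    (he : (centralizer (B : Set G)).relIndex (NN Z i) ≤ (centralizer (NN Z i : Set G)).relIndex B) :
    ∀ n ∈ NN Z i, (∀ b ∈ B, b * n * b⁻¹ * n⁻¹ ∈ Z i) → ∀ b ∈ B, b * n = n * b := by
  intro n hn hnB b hb
  exact mem_centralizer_iff.1 (D.frN.k3 hML hK hB hB2 he ⟨mem_sup_left hn, hnB⟩) b hb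

/-- **(4) of TEXT W2** -/
theorem inter (D : NF T V Z) (hML : ML.Final.MLK.{u, u}) (hK : ∀ i, IsKGroup (CC Z i)) (hG : ∀ i, GOne V Z i) :
    NN Z 0 ⊓ NN Z 1 ≤ Z 0 ⊔ Z 1 :=
  D.inter_le hML hK (D.toFr.g3 hML hK hG) fun i _ hB hB2 he => D.k3N hML (hK i) hB hB2 he

end NF

end Cfsg.Agent.Omega.KL.TwoZ

end
end

-- part: Mrg/Omega/KL/TwoZ/ThmG
section
prune_inst 0x1040003c0292000000002b000000c0000204840d0100000720f0c0060001002064003a8000000000490038000020008a0041180481040220c28008b00001000040c803180c00000000000000000000000000000000200000000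
set_option linter.all false
open scoped Cfsg.Agent.FastGrp

-- merged: Cfsg.Agent.Mrg.Omega.KL.StarQ.Gst
section

/-!
# THEOREM KL*(q) with the odd centre killed by lifts (helper918 #24006 (1) (z)); the abstract half of THEOREM G*

`Y` is pointwise `T`-fixed (but not central), `cG` replaces 'the `T`-fixed vectors of `Y` are fixed by `H`': an odd
`g ∈ N_L(T)` such that `[g, T]` centralises `⟨x^L⟩` centralises `Y`.

* `exists_of_coreG` : the end of the machine over `LB`, with `O(H) = 1`;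
* `InpG T A Z Y` : this situation; **`InpG.exists_sysW`**, **`InpG.exists_sysT`**, **`InpG.false_of`**;
* `PreG` : the same for an `A` which is exact modulo the kernel; **`PreG.inp`** : `PreG → InpG`.
-/

set_option autoImplicit false
set_option linter.unusedSectionVars false

namespace Cfsg.Agent.Omega.KL.StarQ

open Subgroup Cfsg Cfsg.Agent.ZN Cfsg.Agent.ClassTwoFusion.Quad
open Cfsg.Agent.Omega.ML.MinFrame hiding comm_of_sq
open Cfsg.Agent.Omega.ML.Final Cfsg.Agent.Omega.NO3S.EMany.Low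
open Cfsg.Agent.Omega.KL.Star.Core
open Cfsg.Agent.MinSimple.VModule (o2_isPGroup o2_le le_o2 le_normalizer_o2 o2_le_of_sylow oddGen oddGen_le oddGen_def)
open Cfsg.Agent.MinSimple.MinParabolic (IsMinPar le_of_forall)

universe u v

section

variable {H : Type u} [Group H] [Finite H] {M : Type v} [Group M] [Finite M] [MulDistribMulAction H M]
  {T A : Subgroup H}

/-- **the end over `LB`** -/
theorem exists_of_coreG (h : LB H M T A) (hM : MLK.{u, v}) {x : M} (tx : ∀ t ∈ T, t • x = x)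
    {Y : Subgroup M} (tY : ∀ t ∈ T, ∀ w ∈ Y, t • w = w)
    (cG : ∀ g ∈ normalizer (T : Set H), Odd (orderOf g) →
      (∀ t ∈ T, ∀ l : H, (g * t * g⁻¹ * t⁻¹) • l • x = l • x) →
      (∀ w ∈ Y, ∃ w0 : M, (∀ l : H, l • w0 = w0) ∧ w * w0 ∈ orb (⊤ : Subgroup H) x) → ∀ w ∈ Y, g • w = w)
    (hY : ¬ ∀ g : H, Odd (orderOf g) → ∀ w ∈ Y, g • w = w)
    (par : ∀ P : Subgroup H, IsMinPar T P → (∀ p ∈ P, p • x = x) ∨ ∀ g ∈ P, Odd (orderOf g) → ∀ w ∈ Y, g • w = w)
    (mv : ∃ P : Subgroup H, IsMinPar T P ∧ ∃ p ∈ P, p • x ≠ x) :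
    ∃ (H' : Type u) (_ : Group H') (_ : Finite H') (N : Type v) (_ : Group N) (_ : Finite N)
      (_ : MulDistribMulAction H' N) (T' A' : Subgroup H') (x' y' : N), SysW T' A' x' y' ∧
      ∀ K : Subgroup H', K.Normal → Odd (Nat.card K) → K = ⊥ := by
  have hx : ¬ ∀ g : H, g • x = x := by
    obtain ⟨P, -, p, -, hp⟩ := mv
    exact fun hc => hp (hc p)
  have TY : ∀ t ∈ T, ∀ w ∈ Y, t • w ∈ Y := fun t ht w hw => by rw [tY t ht w hw]; exact hw
  obtain ⟨N, i1, i2, i3, A', x', u', c⟩ := core h hM tx hx TY hY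
  -- minimal parabolics
  have hP : ∀ P : Subgroup H, IsMinPar T P → (∀ p ∈ P, p • x' = x') ∨ ∀ p ∈ P, p • u' = u' := by
    intro P hP
    rcases par P hP with h1 | h2
    · exact Or.inl ((c.sx P hP.le).2 h1)
    · right
      have h3 : oddGen P ⊔ T = P := oddGen_sup hP.le
        fun h2 => h.syl (h2.trans (relIndex_dvd_index_of_le hP.le))
      have h4 : P ≤ MulAction.stabilizer H u' := by
        rw [← h3]
        refine sup_le ?_ fun t ht => c.tu t ht
        rw [oddGen_def, closure_le]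
        rintro g ⟨hgP, hgo⟩
        exact c.su g hgo fun w hw => h2 g hgP hgo w hw
      exact fun p hp => h4 hp
  obtain ⟨P, hPm, p, hp, hpx⟩ := mv
  have hPx' : ∃ p ∈ P, p • x' ≠ x' := by
    by_contra hc
    push Not at hc
    exact hpx ((c.sx P hPm.le).1 hc p hp)
  have hPu : ∀ p ∈ P, p • u' = u' := (hP P hPm).resolve_left fun h1 => by
    obtain ⟨q, hq, hqx⟩ := hPx'
    exact hqx (h1 q hq)
  -- shift
  obtain ⟨x1, hx1, hxs⟩ := c.lb.shift c.tx
  obtain ⟨u1, hu1, hus⟩ := c.lb.shift c.tu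
  have tx1 : ∀ t ∈ T, t • x1 = x1 := fun t ht => (hxs t).2 (c.tx t ht)
  have tu1 : ∀ t ∈ T, t • u1 = u1 := fun t ht => (hus t).2 (c.tu t ht)
  have mx1 : ¬ ∀ g : H, g • x1 = x1 := fun hc => c.mx fun g => (hxs g).1 (hc g)
  have mu1 : ¬ ∀ g : H, g • u1 = u1 := fun hc => c.mu fun g => (hus g).1 (hc g)
  obtain ⟨H', j1, j2, N', j3, j4, j5, π, f, B, o, hs⟩ := c.lb.exists_sysW₀ hM tx1 tu1 hx1 hu1 mu1
    (by
      obtain ⟨q, hq, hqx⟩ := hPx'
      exact ⟨P, hPm, ⟨q, hq, fun hc => hqx ((hxs q).1 hc)⟩, fun q hq => (hus q).2 (hPu q hq)⟩)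
    (fun P hP' => by
      rcases hP P hP' with h1 | h1
      · exact ⟨x1, hx1, mx1, fun q hq => (hxs q).2 (h1 q hq)⟩
      · exact ⟨u1, hu1, mu1, fun q hq => (hus q).2 (h1 q hq)⟩)
  refine ⟨H', j1, j2, N', j3, j4, j5, _, B, _, _, hs, fun K hK hKo => ?_⟩
  have hcen := odd_le_center hs hK hKo
  by_contra hne
  obtain ⟨⟨ν, hν⟩, hν1'⟩ := (Subgroup.ne_bot_iff_exists_ne_one).1 hne
  have hν1 : ν ≠ 1 := fun h1 => hν1' (Subtype.ext h1)
  have hνc : ∀ g : H', g * ν = ν * g := fun g => mem_center_iff.1 (hcen hν) g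
  have hνT : ν ∈ normalizer ((T.map π : Subgroup H') : Set H') := by
    rw [mem_normalizer_iff]
    intro g
    rw [← hνc g, mul_inv_cancel_right]
  obtain ⟨_, ⟨t, ht, rfl⟩, n, hn, hνn⟩ := KL.GenTool.exists_normalizer_map π o.πs h.two h.syl hνT
  obtain ⟨a, ha1, ha2⟩ := exists_pow h.two ht n
  set g : H := n ^ 2 ^ a with hg
  have hgN : g ∈ normalizer (T : Set H) := (normalizer (T : Set H)).pow_mem hn _
  have hπg : π g = ν ^ 2 ^ a := by
    have h1 : Commute (π t) ν := hνc _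
    have h2 : π n = (π t)⁻¹ * ν := by rw [hνn]; group
    have h3 : Commute (π t)⁻¹ ν := h1.inv_left
    rw [hg, map_pow, h2, h3.mul_pow, inv_pow, ← map_pow, ha1, map_one, inv_one, one_mul]
  have hπg1 : π g ≠ 1 := by
    rw [hπg]
    intro h1
    apply hν1
    have h2 : orderOf ν ∣ 2 ^ a := orderOf_dvd_of_pow_eq_one h1
    have h3 : orderOf ν ∣ Nat.card K := by
      have := orderOf_dvd_natCard (⟨ν, hν⟩ : K)
      rwa [orderOf_mk] at this
    have h4 : Odd (orderOf ν) := hKo.of_dvd_nat h3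
    have h5 : (2 ^ a).Coprime (orderOf ν) := Nat.Coprime.pow_left a (Nat.coprime_two_left.mpr h4)
    exact orderOf_eq_one_iff.1 (Nat.eq_one_of_dvd_coprimes h5 h2 dvd_rfl)
  have hπc : ∀ k ∈ zpowers g, ∀ s : H', s * π k = π k * s := by
    intro k hk s
    have h1 : zpowers g ≤ (center H').comap π := by
      rw [zpowers_le, mem_comap, hπg]
      exact (center H').pow_mem (hcen hν) _
    exact mem_center_iff.1 (h1 hk) s
  -- the kernel of `π` fixes `x`
  have hkx' : ∀ k ∈ π.ker ⊔ T, k • x1 = x1 := by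
    refine c.lb.fix_of_mod tx1 le_sup_right (I := cv N (Km A' : Set H))
      (fun w hw tw g _ => c.lb.fix_of_cvKm tw hw g) fun k hk => ?_
    have h1 : π k • f ⟨x1, hx1⟩ = f ⟨x1, hx1⟩ := by
      obtain ⟨k1, hk1, s, hs', rfl⟩ := mem_sup_of_normal_left.1 hk
      rw [map_mul, (MonoidHom.mem_ker).1 hk1, one_mul, ← o.eqv s ⟨x1, hx1⟩]
      exact congrArg f (Subtype.ext (tx1 s hs'))
    rw [← o.eqv k ⟨x1, hx1⟩, ← mul_inv_eq_one, ← map_inv, ← map_mul, o.ker] at h1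
    exact h1
  have hkx : ∀ k ∈ π.ker, k • x = x := by
    have h1 : ∀ k ∈ π.ker ⊔ T, k • x' = x' := fun k hk => (hxs k).1 (hkx' k hk)
    exact fun k hk => (c.sx _ le_sup_right).1 h1 k (mem_sup_left hk)
  have hkO : ∀ k ∈ π.ker, ∀ l : H, k • l • x = l • x := by
    intro k hk s
    have h2 := hkx (s⁻¹ * k * s) (by
      have := (inferInstance : (π.ker).Normal).conj_mem k hk s⁻¹
      rwa [inv_inv] at this)
    rwa [mul_smul, mul_smul, inv_smul_eq_iff] at h2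
  -- `g` centralises `Y`
  have hgY : ∀ w ∈ Y, g • w = w := by
    refine cG g hgN ha2 (fun t ht l => hkO _ ?_ l) fun w hw => ?_
    · rw [MonoidHom.mem_ker, map_mul, map_mul, map_mul, map_inv, map_inv, ← hπc g (mem_zpowers g) (π t),
        mul_inv_cancel_right, mul_inv_cancel]
    · obtain ⟨w0, h1, h2⟩ := exists_fix_coset h.sq (R := (⊤ : Subgroup H)) (by rw [relIndex_top_right]; exact h.syl)
        (fun t ht => tY t ht w hw) (fun k _ => h.orb_eq (fun t ht => tY t ht w hw) k)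
      refine ⟨w0, fun l => h1 l (mem_top l), ?_⟩
      have h3 := h.cmm_le hM tx hx h2
      have e : w * w0 = w0 * w⁻¹ := by
        have h4 : w⁻¹ = w := inv_eq_of_mul_eq_one_right (h.sq w)
        rw [h4]
        exact Cfsg.Agent.Omega.NO3S.EMany.Low.comm_of_sq h.sq _ _
      rw [e]
      exact h3
  -- so `π g` fixes the second vector
  have hgu : g • u1 = u1 := (hus g).2 (c.su g ha2 hgY)
  have hfix : π g • f ⟨u1, hu1⟩ = f ⟨u1, hu1⟩ := by
    rw [← o.eqv g ⟨u1, hu1⟩]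
    exact congrArg f (Subtype.ext hgu)
  have hnor : (zpowers (π g)).Normal := by
    refine ⟨fun k hk s => ?_⟩
    have h1 : k ∈ center H' := by
      have h2 : zpowers (π g) ≤ center H' := by
        rw [zpowers_le, hπg]
        exact (center H').pow_mem (hcen hν) _
      exact h2 hk
    rw [mem_center_iff.1 h1 s, mul_inv_cancel_right]
    exact hk
  have h1 := hs.bot_of_fix hnor hs.y1 fun k hk => by
    have h2 : zpowers (π g) ≤ MulAction.stabilizer H' (f ⟨u1, hu1⟩) := by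
      rw [zpowers_le]
      exact hfix
    exact h2 hk
  exact hπg1 (by
    have h2 := mem_zpowers (π g)
    rw [h1] at h2
    exact mem_bot.1 h2)

end

/-- **The input**: `Y` pointwise `T`-fixed, the odd centre is controlled by `cG` -/
structure InpG {H : Type u} [Group H] {M : Type v} [Group M] [MulDistribMulAction H M] (T A : Subgroup H)
    (Z Y : Subgroup M) : Prop where
  sq : ∀ m : M, m * m = 1
  two : IsPGroup 2 T
  syl : ¬ 2 ∣ T.index
  tZ : ∀ z ∈ Z, ∀ t ∈ T, t • z = z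
  NZ : ∀ g ∈ normalizer (T : Set H), ∀ z ∈ Z, g • z ∈ Z
  tY : ∀ t ∈ T, ∀ w ∈ Y, t • w = w
  /-- a `T`-minimal `P` fixes `Z` pointwise, or its elements of odd order centralise `Y` -/
  par : ∀ P : Subgroup H, IsMinPar T P → (∀ z ∈ Z, ∀ p ∈ P, p • z = z) ∨
    ∀ g ∈ P, Odd (orderOf g) → ∀ w ∈ Y, g • w = w
  cG : ∀ L : Subgroup H, T ≤ L → ∀ x ∈ Z, ∀ g ∈ L, g ∈ normalizer (T : Set H) → Odd (orderOf g) →
    (∀ t ∈ T, ∀ l ∈ L, (g * t * g⁻¹ * t⁻¹) • l • x = l • x) →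
    (∀ w ∈ Y, ∃ w0 : M, (∀ l ∈ L, l • w0 = w0) ∧ w * w0 ∈ orb L x) → ∀ w ∈ Y, g • w = w
  el : ∀ a ∈ A, a * a = 1
  exact : (cv M (A : Set H)).index = Nat.card A
  atom : ∀ C : Subgroup H, C ≤ A → C ≠ ⊥ → C ≠ A → Nat.card C < (cv M (C : Set H)).index
  nT : ¬ A ≤ o2 (⊤ : Subgroup H)
  AZ : A ≤ o2 (fxr H Z)
  AY : A ≤ o2 (fxr H Y ⊔ T)
  KH : IsKGroup H

namespace InpG

variable {H : Type u} [Group H] [Finite H] {M : Type v} [Group M] [Finite M] [MulDistribMulAction H M]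
  {T A : Subgroup H} {Z Y : Subgroup M}

omit [Finite M] in
theorem AT (i : InpG T A Z Y) : A ≤ T :=
  i.AZ.trans (o2_le_of_sylow i.two fun h2 => i.syl (h2.trans (relIndex_dvd_index_of_le fun t ht z hz => i.tZ z hz t ht)))

/-- **THEOREM KL*(q).** -/
theorem exists_sysW (i : InpG T A Z Y) (hM : MLK.{u, v}) :
    ∃ (H' : Type u) (_ : Group H') (_ : Finite H') (N : Type v) (_ : Group N) (_ : Finite N)
      (_ : MulDistribMulAction H' N) (T' A' : Subgroup H') (x' y' : N), SysW T' A' x' y' ∧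
      ∀ K : Subgroup H', K.Normal → Odd (Nat.card K) → K = ⊥ := by
  -- `L` minimal
  obtain ⟨L, ⟨hTL, hAL⟩, hmin⟩ : ∃ L : Subgroup H, (T ≤ L ∧ ¬ A ≤ o2 L) ∧
      ∀ R : Subgroup H, (T ≤ R ∧ ¬ A ≤ o2 R) → R ≤ L → R = L := by
    have hfin : {L : Subgroup H | T ≤ L ∧ ¬ A ≤ o2 L}.Finite := Set.toFinite _
    obtain ⟨B, hB⟩ := hfin.exists_minimal ⟨⊤, le_top, i.nT⟩
    exact ⟨B, hB.1, fun C hC hCB => le_antisymm hCB (hB.2 hC hCB)⟩
  have hAT := i.AT
  have hAL' : A ≤ L := hAT.trans hTL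
  have e1 : ∀ {C : Subgroup H}, C ≤ L → (C.subgroupOf L).map L.subtype = C := fun {C} hC => by
    rw [subgroupOf_map_subtype, inf_eq_left.2 hC]
  have hcv : ∀ C : Subgroup L, cv M (C : Set L) = cv M ((C.map L.subtype : Subgroup H) : Set H) := by
    intro C
    ext m
    constructor
    · rintro hm _ ⟨c, hc, rfl⟩
      exact hm c hc
    · exact fun hm c hc => hm _ ⟨c, hc, rfl⟩
  have hcard : ∀ C : Subgroup L, Nat.card (C.map L.subtype) = Nat.card C := fun C =>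
    card_map_of_injective L.subtype_injective
  have hlb : LB L M (T.subgroupOf L) (A.subgroupOf L) := by
    refine ⟨i.sq, i.two.comap_subtype, fun h2 => ?_, fun x hx => hAT hx, fun b hb => Subtype.ext (i.el b hb), ?_, ?_, ?_, ?_,
      sec_KG.sub H i.KH L⟩
    · exact i.syl (h2.trans (relIndex_dvd_index_of_le hTL))
    · rw [hcv, e1 hAL', i.exact, ← hcard, e1 hAL']
    · intro C hC hC1 hCF
      rw [hcv, ← hcard]
      refine i.atom _ ?_ ?_ ?_
      · rintro _ ⟨c, hc, rfl⟩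
        exact hC hc
      · intro h1
        exact hC1 ((Subgroup.map_eq_bot_iff_of_injective _ L.subtype_injective).1 h1)
      · intro h1
        apply hCF
        rw [← h1]
        exact (comap_map_eq_self_of_injective L.subtype_injective C).symm
    · intro R hTR hR
      have h1 : R.map L.subtype ≠ L := by
        intro h2
        apply hR
        rw [eq_top_iff]
        intro r _
        have h3 : (r : H) ∈ R.map L.subtype := by
          rw [h2]
          exact r.2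
        obtain ⟨s, hs, hsr⟩ := h3
        rwa [← (Subtype.ext hsr : s = r)]
      have h2 : T ≤ R.map L.subtype := fun t ht => ⟨⟨t, hTL ht⟩, hTR ht, rfl⟩
      have h3 : A ≤ o2 (R.map L.subtype) := by
        by_contra hc
        exact h1 (hmin _ ⟨h2, hc⟩ (map_subtype_le R))
      exact fun x hx => KL.GenTool.o2_subgroupOf_le R (h3 hx)
    · intro hc
      apply hAL
      have h1 := (map_mono (f := L.subtype) hc).trans (KL.GenTool.o2_map_le L.subtype ⊤)
      rw [e1 hAL', ← MonoidHom.range_eq_map, L.range_subtype] at h1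
      exact h1
  -- normalizers of `T`
  have hNN : ∀ g : L, g ∈ normalizer ((T.subgroupOf L : Subgroup L) : Set L) → (g : H) ∈ normalizer (T : Set H) := by
    intro g hg
    rw [mem_normalizer_iff] at hg ⊢
    intro t
    constructor
    · intro ht
      exact (hg ⟨t, hTL ht⟩).1 ht
    · intro ht
      have h1 : t ∈ L := by
        have h2 := L.mul_mem (L.mul_mem (L.inv_mem g.2) (hTL ht)) g.2
        have e : (g : H)⁻¹ * (g * t * (g : H)⁻¹) * g = t := by group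
        rwa [e] at h2
      exact (hg ⟨t, h1⟩).2 ht
  -- a `T`-minimal subgroup of `L` which moves `Z`
  obtain ⟨P, hPm, hPZ⟩ : ∃ P : Subgroup L, IsMinPar (T.subgroupOf L) P ∧
      ¬ ∀ z ∈ Z, ∀ p ∈ P, p • z = z := by
    by_contra hc
    push Not at hc
    apply hAL
    -- `C_L(Z)` is normal in `L`
    let F : Subgroup H := fxr H Z ⊓ L
    have hTF : T ≤ F := le_inf (fun t ht z hz => i.tZ z hz t ht) hTL
    have h1 : (⊤ : Subgroup L) ≤ (normalizer (F : Set H)).subgroupOf L := by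
      refine le_of_forall (S := T.subgroupOf L) le_top (fun g hg => ?_) fun P hP _ p hp => ?_
      · rw [mem_subgroupOf]
        have hg1 := hNN g hg.2
        have hconj : ∀ k : H, k ∈ normalizer (T : Set H) → k ∈ L → ∀ w ∈ F, k * w * k⁻¹ ∈ F := by
          intro k hk hkL w hw
          refine ⟨fun z hz => ?_, L.mul_mem (L.mul_mem hkL hw.2) (L.inv_mem hkL)⟩
          have h2 := hw.1 _ (i.NZ k⁻¹ (inv_mem hk) z hz)
          rw [mul_smul, mul_smul, h2, smul_inv_smul]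
        rw [mem_normalizer_iff]
        intro w
        refine ⟨hconj g hg1 g.2 w, fun hw => ?_⟩
        have h2 := hconj (g : H)⁻¹ (inv_mem hg1) (L.inv_mem g.2) _ hw
        have e : (g : H)⁻¹ * (g * w * (g : H)⁻¹) * (g : H)⁻¹⁻¹ = w := by group
        rwa [e] at h2
      · rw [mem_subgroupOf]
        exact le_normalizer (show (p : H) ∈ F from ⟨fun z hz => hc P hP z hz p hp, p.2⟩)
    have h2 : L ≤ normalizer (F : Set H) := fun g hg => h1 (mem_top (⟨g, hg⟩ : L))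
    exact (le_inf i.AZ (hAT.trans hTF)).trans
      ((InpG.o2_le_o2_of_le inf_le_left).trans (o2_le_o2 inf_le_right h2))
  push Not at hPZ
  obtain ⟨x, hxZ, p, hp, hpx⟩ := hPZ
  have htx : ∀ t ∈ T.subgroupOf L, t • x = x := fun t ht => i.tZ x hxZ _ ht
  -- `L ≠ C_L(Y) T`
  have hY : ¬ ∀ g : L, Odd (orderOf g) → ∀ w ∈ Y, g • w = w := by
    intro hc
    apply hAL
    have h1 : oddGen L ⊔ T = L := oddGen_sup hTL fun h2 => i.syl (h2.trans (relIndex_dvd_index_of_le hTL))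
    have h2 : L ≤ fxr H Y ⊔ T := by
      rw [← h1]
      refine sup_le_sup_right ?_ T
      rw [oddGen_def, closure_le]
      rintro g ⟨hgL, hgo⟩ w hw
      exact hc ⟨g, hgL⟩ (by rwa [orderOf_mk]) w hw
    exact (le_inf i.AY hAL').trans (InpG.o2_le_o2_of_le h2)
  have horb : orb (⊤ : Subgroup L) x = orb L x := by
    apply le_antisymm
    · exact orb_le fun g _ => smul_mem_orb_self (g := (g : H)) g.2
    · exact orb_le fun g hg => smul_mem_orb_self (R := (⊤ : Subgroup L)) (g := (⟨g, hg⟩ : L)) (mem_top _)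
  refine exists_of_coreG hlb hM htx (Y := Y) (fun t ht w hw => i.tY _ ht w hw)
    (fun g hg hgo h1 h2 w hw => ?_) hY (fun R hR => ?_) ⟨P, hPm, p, hp, hpx⟩
  · refine i.cG L hTL x hxZ g g.2 (hNN g hg) (by rwa [orderOf_coe]) (fun t ht l hl => ?_) (fun w hw => ?_) w hw
    · exact h1 ⟨t, hTL ht⟩ ht ⟨l, hl⟩
    · obtain ⟨w0, h3, h4⟩ := h2 w hw
      exact ⟨w0, fun l hl => h3 ⟨l, hl⟩, by rw [← horb]; exact h4⟩
  rcases i.par _ (KL.GenTool.minPar_map_subtype hTL hR) with h1 | h2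
  · exact Or.inl fun q hq => h1 x hxZ _ ⟨q, hq, rfl⟩
  · refine Or.inr fun g hg hgo w hw => h2 _ ⟨g, hg, rfl⟩ ?_ w hw
    rwa [Subgroup.coe_subtype, orderOf_coe]

/-- **THEOREM KL*(q)**, with the output `Two.SysT` -/
theorem exists_sysT (i : InpG T A Z Y) (hM : MLK.{u, v}) :
    ∃ (H' : Type u) (_ : Group H') (_ : Finite H') (N : Type v) (_ : Group N) (_ : Finite N)
      (_ : MulDistribMulAction H' N) (T' A' : Subgroup H') (x' y' : N), ML.Ex.Two.SysT H' N T' A' x' y' := by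
  obtain ⟨H', i1, i2, N, i3, i4, i5, T', A', x', y', h, ho⟩ := i.exists_sysW hM
  exact ⟨H', i1, i2, N, i3, i4, i5, T', A', x', y', h.sysT ho⟩

/-- **THEOREM KL*(q)**, with EXT -/
theorem false_of (hM : MLK.{u, v}) (hE : ML.Ex.Two.Ext.{u, v}) (i : InpG T A Z Y) : False := by
  obtain ⟨H', i1, i2, N, i3, i4, i5, T', A', x', y', h⟩ := i.exists_sysT hM
  exact hE H' N T' A' x' y' h

end InpG

/-- the input of THEOREM KL*(q) for `C` acting on `M`, with an `A` which is exact modulo the kernel -/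
structure PreG {C : Type u} [Group C] {M : Type v} [Group M] [MulDistribMulAction C M] (T A : Subgroup C)
    (Z Y : Subgroup M) : Prop where
  sq : ∀ m : M, m * m = 1
  two : IsPGroup 2 T
  syl : ¬ 2 ∣ T.index
  tZ : ∀ z ∈ Z, ∀ t ∈ T, t • z = z
  NZ : ∀ g ∈ normalizer (T : Set C), ∀ z ∈ Z, g • z ∈ Z
  tY : ∀ t ∈ T, ∀ w ∈ Y, t • w = w
  par : ∀ P : Subgroup C, IsMinPar T P → (∀ z ∈ Z, ∀ p ∈ P, p • z = z) ∨
    ∀ g ∈ P, Odd (orderOf g) → ∀ w ∈ Y, g • w = w
  cG : ∀ L : Subgroup C, T ≤ L → ∀ x ∈ Z, ∀ g ∈ L, g ∈ normalizer (T : Set C) → Odd (orderOf g) →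
    (∀ t ∈ T, ∀ l ∈ L, (g * t * g⁻¹ * t⁻¹) • l • x = l • x) →
    (∀ w ∈ Y, ∃ w0 : M, (∀ l ∈ L, l • w0 = w0) ∧ w * w0 ∈ orb L x) → ∀ w ∈ Y, g • w = w
  el : ∀ a ∈ A, a * a = 1
  AZ : A ≤ o2 (fxr C Z)
  AY : A ≤ o2 (fxr C Y ⊔ T)
  /-- `A` is faithful on `⟨Z^C⟩` modulo the kernel -/
  nk : ∀ a ∈ A, (∀ (c : C), ∀ z ∈ Z, a • c • z = c • z) → ∀ m : M, a • m = m
  mv : ∃ a ∈ A, ∃ m : M, a • m ≠ m
  no : ∀ B : Subgroup C, B ≤ A → (fxr C (⊤ : Subgroup M)).relIndex B ≤ (cv M (B : Set C)).index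
  le : (cv M (A : Set C)).index ≤ (fxr C (⊤ : Subgroup M)).relIndex A
  KC : IsKGroup C

section pre

variable {C : Type u} [Group C] [Finite C] {M : Type v} [Group M] [Finite M] [MulDistribMulAction C M]
  {T A : Subgroup C} {Z Y : Subgroup M}

theorem PreG.inp (h : PreG T A Z Y) :
    ∃ (H : Type u) (_ : Group H) (_ : Finite H) (_ : MulDistribMulAction H M) (T' A' : Subgroup H),
      InpG T' A' Z Y := by
  have htriv : ∀ k ∈ fxr C (⊤ : Subgroup M), ∀ m : M, k • m = m := fun k hk m => hk m (mem_top m)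
  have hN : (fxr C (⊤ : Subgroup M)).Normal := fxr_normal fun _ _ _ => mem_top _
  set N := fxr C (⊤ : Subgroup M) with hNdef
  let _ : MulDistribMulAction (C ⧸ N) M := quoAct N htriv
  let π : C →* C ⧸ N := QuotientGroup.mk' N
  have hπ : Function.Surjective π := QuotientGroup.mk'_surjective N
  have he : ∀ (g : C) (v : M), π g • v = g • v := fun _ _ => rfl
  have hker : ∀ k : C, (∀ v : M, k • v = v) → π k = 1 := fun k hk =>
    (QuotientGroup.eq_one_iff k).2 fun v _ => hk v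
  have hker2 : ∀ k : C, π k = 1 → ∀ v : M, k • v = v := fun k hk v =>
    (QuotientGroup.eq_one_iff k).1 hk v (mem_top v)
  -- stabilisers
  have hfx : ∀ Y' : Subgroup M, (fxr C Y').map π = fxr (C ⧸ N) Y' := by
    intro Y'
    ext g
    constructor
    · rintro ⟨c, hc, rfl⟩
      exact hc
    · intro hg
      obtain ⟨c, rfl⟩ := hπ g
      exact ⟨c, hg, rfl⟩
  have ho2 : ∀ S : Subgroup C, A ≤ o2 S → A.map π ≤ o2 (S.map π) := by
    intro S hS
    refine (map_mono hS).trans (MinSimple.VModule.le_o2 (map_mono (MinSimple.VModule.o2_le _)) ((o2_isPGroup _).map π) ?_)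
    exact (map_mono (MinSimple.VModule.le_normalizer_o2 _)).trans (le_normalizer_map π)
  have hx : A.map π ≤ o2 (fxr (C ⧸ N) Z) := by
    rw [← hfx]
    exact ho2 _ h.AZ
  have hy : A.map π ≤ o2 (fxr (C ⧸ N) Y ⊔ T.map π) := by
    rw [← hfx, ← Subgroup.map_sup]
    exact ho2 _ h.AY
  have hsyl : ¬ 2 ∣ (T.map π).index := fun h2 => h.syl (h2.trans (index_map_dvd T hπ))
  have hKH : IsKGroup (C ⧸ N) := ML.Final.sec_KG.quo C h.KC N
  have hel : ∀ a ∈ A.map π, a * a = 1 := by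
    rintro _ ⟨a, ha, rfl⟩
    rw [← map_mul, h.el a ha, map_one]
  -- `A.map π` is faithful on `⟨Z^C⟩`
  have hfa : ∀ g ∈ A.map π, (∀ (c : C ⧸ N), ∀ z ∈ Z, g • c • z = c • z) → g = 1 := by
    rintro _ ⟨a, ha, rfl⟩ hg
    exact hker a (h.nk a ha fun c z hz => hg (π c) z hz)
  -- (NO)
  have hcv : ∀ B : Subgroup C, cv M (B.map π : Set (C ⧸ N)) = cv M (B : Set C) := by
    intro B
    ext v
    constructor
    · exact fun hv a ha => hv _ ⟨a, ha, rfl⟩
    · rintro hv _ ⟨a, ha, rfl⟩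
      exact hv a ha
  have hcard : ∀ B : Subgroup C, Nat.card (B.map π) = N.relIndex B := by
    intro B
    rw [← relIndex_bot_left, ← relIndex_comap, MonoidHom.comap_bot, QuotientGroup.ker_mk']
  have hno : ∀ B : Subgroup (C ⧸ N), B ≤ A.map π → Nat.card B ≤ (cv M (B : Set (C ⧸ N))).index := by
    intro B hB
    have e : (A ⊓ B.comap π).map π = B := by
      apply le_antisymm
      · rintro _ ⟨a, ha, rfl⟩
        exact ha.2
      · intro g hg
        obtain ⟨a, ha, rfl⟩ := hB hg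
        exact ⟨a, ⟨ha, hg⟩, rfl⟩
    rw [← e, hcv, hcard]
    exact h.no _ inf_le_left
  have hex : (cv M (A.map π : Set (C ⧸ N))).index = Nat.card (A.map π) := by
    refine le_antisymm ?_ (hno _ le_rfl)
    rw [hcv, hcard]
    exact h.le
  have hA1 : A.map π ≠ ⊥ := by
    intro h1
    obtain ⟨a, ha, m, hm⟩ := h.mv
    apply hm
    refine hker2 a ?_ m
    rw [← mem_bot, ← h1]
    exact ⟨a, ha, rfl⟩
  -- an atom
  obtain ⟨B, ⟨hBA, hB1, hBe⟩, hmin⟩ : ∃ B : Subgroup (C ⧸ N), (B ≤ A.map π ∧ B ≠ ⊥ ∧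
      (cv M (B : Set (C ⧸ N))).index = Nat.card B) ∧ ∀ B' : Subgroup (C ⧸ N), (B' ≤ A.map π ∧ B' ≠ ⊥ ∧
      (cv M (B' : Set (C ⧸ N))).index = Nat.card B') → B' ≤ B → B' = B := by
    obtain ⟨B, hB⟩ := (Set.toFinite {B : Subgroup (C ⧸ N) | B ≤ A.map π ∧ B ≠ ⊥ ∧
      (cv M (B : Set (C ⧸ N))).index = Nat.card B}).exists_minimal ⟨A.map π, le_rfl, hA1, hex⟩
    exact ⟨B, hB.prop, fun B' hB' hle => le_antisymm hle (hB.le_of_le hB' hle)⟩
  have htZ : ∀ z ∈ Z, ∀ t ∈ T.map π, t • z = z := by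
    rintro z hz _ ⟨t, ht, rfl⟩
    exact h.tZ z hz t ht
  refine ⟨C ⧸ N, inferInstance, inferInstance, inferInstance, T.map π, B, ?_⟩
  refine ⟨h.sq, h.two.map π, hsyl, htZ, ?_, ?_, ?_, ?_, fun a ha => hel a (hBA ha), hBe, ?_, ?_, hBA.trans hx,
    hBA.trans hy, hKH⟩
  · intro g hg z hz
    obtain ⟨t, ht, n, hn, rfl⟩ := KL.Quo.norm_lift π hπ h.two h.syl hg
    rw [he, mul_smul]
    exact h.NZ t (le_normalizer ht) _ (h.NZ n hn z hz)
  · rintro _ ⟨t, ht, rfl⟩ w hw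
    exact h.tY t ht w hw
  · intro P hP
    obtain ⟨R, hR, rfl⟩ := Quo.exists_minPar π hπ hP
    rcases h.par R hR with h1 | h1
    · left
      rintro z hz _ ⟨r, hr, rfl⟩
      exact h1 z hz r hr
    · right
      intro g hg hog w hw
      obtain ⟨c, hc, hco, rfl⟩ := TwoZ.exists_odd π hg hog
      exact h1 c hc hco w hw
  · intro L hTL x hx' g hgL hgN hgo h1 h2 w hw
    have h3 : g ∈ (normalizer (T : Set C)).map π := by
      obtain ⟨t, ht, n, hn, rfl⟩ := KL.Quo.norm_lift π hπ h.two h.syl hgN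
      exact ⟨t * n, mul_mem (le_normalizer ht) hn, rfl⟩
    obtain ⟨c, hc, hco, rfl⟩ := TwoZ.exists_odd π h3 hgo
    have horb : orb (L.comap π) x = orb L x := by
      apply le_antisymm
      · exact orb_le fun k hk => smul_mem_orb_self (g := π k) hk
      · refine orb_le fun k hk => ?_
        obtain ⟨k', rfl⟩ := hπ k
        exact smul_mem_orb_self (R := L.comap π) (g := k') hk
    refine h.cG (L.comap π) (map_le_iff_le_comap.1 hTL) x hx' c hgL hc hco (fun t ht l hl => ?_) (fun w hw => ?_) w hw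
    · have := h1 (π t) ⟨t, ht, rfl⟩ (π l) hl
      rwa [← map_inv, ← map_inv, ← map_mul, ← map_mul, ← map_mul] at this
    · obtain ⟨w0, h4, h5⟩ := h2 w hw
      exact ⟨w0, fun l hl => h4 (π l) hl, by rw [horb]; exact h5⟩
  · intro B' hB' hB1' hne
    refine lt_of_le_of_ne (hno B' (hB'.trans hBA)) fun h1 => hne ?_
    exact hmin B' ⟨hB'.trans hBA, hB1', h1.symm⟩ hB'
  · -- `O₂(H)` centralises `⟨Z^H⟩`
    intro hle
    apply hB1
    rw [eq_bot_iff]
    intro b hb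
    rw [mem_bot]
    refine hfa b (hBA hb) fun c z hz => ?_
    have h1 : c⁻¹ * b * c ∈ o2 (⊤ : Subgroup (C ⧸ N)) := by
      have := (mem_normalizer_iff.1 (MinSimple.VModule.le_normalizer_o2 (⊤ : Subgroup (C ⧸ N)) (mem_top c⁻¹)) b).1 (hle hb)
      rwa [inv_inv] at this
    have h2 : o2 (⊤ : Subgroup (C ⧸ N)) ≤ T.map π :=
      MinSimple.VModule.o2_le_of_sylow (h.two.map π) (by rwa [relIndex_top_right])
    have h3 := htZ z hz _ (h2 h1)
    rw [mul_smul, mul_smul, inv_smul_eq_iff] at h3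
    exact h3

end pre

end Cfsg.Agent.Omega.KL.StarQ

end

-- merged: Cfsg.Agent.Mrg.Omega.KL.TwoZ.ThmG
section

/-!
# THEOREM G* (helper918 TEXT W2 #24006 (3))

* `exists_fix_group` : the product of an odd orbit, for sections of a group;
* `FrN.core` : `T ≤ H ≤ C_i`, `N_i = ⟨Z (i+1) ^ H⟩`, every `w ∈ V i` is `H`-fixed modulo `Z_i` up to an element of `N_i Z_i`,
  not `Fail i` : impossible;
* `FrN.no_le` : `V i ≰ N_i Z_i`; **`FrN.g1`** : a 2-subgroup of `C_i` which centralises `X_i / N_i Z_i` centralises `N_i`;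
* `FrN.g2` : `A` maximal in `O` moves `N_i` ⟹ `C_A(N_i)` moves `X_i`;
* **`FrN.g3`** : some maximal `A ≤ Q_i` moves `V i`, both `i`.
-/

set_option autoImplicit false
set_option linter.unusedSectionVars false
set_option linter.unusedVariables false

namespace Cfsg.Agent.Omega.KL.TwoZ

open Subgroup Cfsg Cfsg.Agent.Omega.MinPar
open Cfsg.Agent.ZN (o2 zc)
open Cfsg.Agent.ClassTwoFusion.Quad Cfsg.Agent.Omega.ML.MinFrame
open Cfsg.Agent.Omega.OM.KTwo (ne_add_one eq_add_one add_one_add_one le_normalizer_V le_V exists_mul_of_mem_sup)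
open Cfsg.Agent.MinSimple.MinParabolic (IsMinPar)
open Cfsg.Agent.Omega.NoFF.Basic (conj_conj mem_conj conj_le_iff comm_symm comm_mono Z_le_V V_le)
open Cfsg.Agent.Omega.NOThreeL.Pair (conj_eq_of_mem conj_le_normalizer)
open Cfsg.Agent.Omega.NoFF.ThmJFam (card_sup_inf card_conj conj_cent conj_inf)
open Cfsg.Agent.ZN.ChoiceSit (Syl exists_syl syl_conj o2_le_syl syl_not_dvd)
open Cfsg.Agent.MinSimple.VModule (mem_zc zc_le normalizer_le_normalizer_zc le_o2
  o2_isPGroup o2_le zc_le_centralizer le_centralizer_zc le_normalizer_o2)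
open Cfsg.Agent.Omega.TC (kgroup_mono)
open Cfsg.Agent.Omega.TC.LemZ (card_eq le_norm_of norm_cent norm_inf)
open Cfsg.Agent.Omega.KL.TwoS (Mx sq_sup relIndex_le_of_sup sup_of_relIndex_le relIndex_pos relIndex_mono
  relIndex_anti relIndex_split)
open scoped Pointwise

universe u

variable {G : Type u} [Group G]

/-- the product of an odd orbit, for the section `W / Y` -/
theorem exists_fix_group [Finite G] {C W Y N T : Subgroup G} (nW : C ≤ normalizer (W : Set G))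
    (nY : C ≤ normalizer (Y : Set G)) (WY : W ≤ normalizer (Y : Set G)) (sq : ∀ x ∈ W, x * x ∈ Y) (hYN : Y ≤ N)
    (hTC : ¬ 2 ∣ T.relIndex C) {w : G} (hw : w ∈ W) (hwT : ∀ t ∈ T, t * w * t⁻¹ * w⁻¹ ∈ Y)
    (hwC : ∀ c ∈ C, c * w * c⁻¹ * w⁻¹ ∈ N) : ∃ f ∈ W, (∀ c ∈ C, c * f * c⁻¹ * f⁻¹ ∈ Y) ∧ f * w⁻¹ ∈ N := by
  have hN : (Y.subgroupOf W).Normal := normal_subgroupOf_of_le_normalizer WY
  let _ := ML.Final.conjAct nW nY
  let mk : W →* W ⧸ Y.subgroupOf W := QuotientGroup.mk' (Y.subgroupOf W)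
  have hmk : Function.Surjective mk := QuotientGroup.mk'_surjective _
  have hsm : ∀ (g : C) (x : W) (hx : (g : G) * x * (g : G)⁻¹ ∈ W), g • mk x = mk ⟨(g : G) * x * (g : G)⁻¹, hx⟩ :=
    fun _ _ _ => rfl
  have hmem : ∀ (g : C) (x : W), (g : G) * x * (g : G)⁻¹ ∈ W := fun g x =>
    (mem_normalizer_iff.1 (nW g.2) x).1 x.2
  have hone : ∀ x y : W, mk x = mk y ↔ (x : G) * (y : G)⁻¹ ∈ Y := by
    intro x y
    rw [← mul_inv_eq_one, ← map_inv, ← map_mul, ← MonoidHom.mem_ker, QuotientGroup.ker_mk']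
    exact Iff.rfl
  have hfix : ∀ (g : C) (x : W), g • mk x = mk x ↔ (g : G) * x * (g : G)⁻¹ * (x : G)⁻¹ ∈ Y := by
    intro g x
    rw [hsm g x (hmem g x), hone]
  obtain ⟨m0, h1, h2⟩ := NO3S.EMany.Low.exists_fix_coset (H := C) (M := W ⧸ Y.subgroupOf W) (fun m => by
      obtain ⟨x, rfl⟩ := hmk m
      rw [← map_mul, ← map_one mk, hone]
      simpa using sq x x.2) (T := T.subgroupOf C) (R := ⊤) (by rwa [relIndex_top_right]) (m := mk ⟨w, hw⟩)
    (fun t ht => (hfix t _).2 (hwT _ (mem_subgroupOf.1 ht))) (I := (N.subgroupOf W).map mk)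
    (fun g _ => by
      rw [hsm g ⟨w, hw⟩ (hmem g _), ← map_inv, ← map_mul]
      exact mem_map_of_mem mk (mem_subgroupOf.2 (hwC _ g.2)))
  obtain ⟨f, rfl⟩ := hmk m0
  refine ⟨f, f.2, fun c hc => (hfix ⟨c, hc⟩ f).1 (h1 _ (mem_top _)), ?_⟩
  rw [← map_inv, ← map_mul] at h2
  obtain ⟨n, hn, hnf⟩ := h2
  rw [eq_comm, hone] at hnf
  have h3 := mul_mem (hYN hnf) (mem_subgroupOf.1 hn)
  rw [inv_mul_cancel_right] at h3
  exact h3

namespace FrN

variable [Finite G] {T : Subgroup G} {V Z : Fin 2 → Subgroup G}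

/-- `{x ∈ X_i : [x, h] ∈ Z_i}` -/
def te (D : FrN T V Z) (i : Fin 2) (h : G) : Subgroup G where
  carrier := {x | x ∈ XX V Z i ∧ h * x * h⁻¹ * x⁻¹ ∈ Z i}
  one_mem' := ⟨one_mem _, by simp⟩
  mul_mem' := by
    rintro x y ⟨hx, hx'⟩ ⟨hy, hy'⟩
    refine ⟨mul_mem hx hy, ?_⟩
    have h1 := D.Z_cent_C i (D.X_le_C i hx) hy'
    have e : h * (x * y) * h⁻¹ * (x * y)⁻¹ = (h * x * h⁻¹ * x⁻¹) * (x * (h * y * h⁻¹ * y⁻¹)) * x⁻¹ := by group
    rw [e, h1, ← mul_assoc, mul_inv_cancel_right]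
    exact mul_mem hx' hy'
  inv_mem' := by
    rintro x ⟨hx, hx'⟩
    refine ⟨inv_mem hx, ?_⟩
    have h1 := inv_mem hx'
    have h2 := D.Z_cent_C i (D.X_le_C i hx) h1
    have e : h * x⁻¹ * h⁻¹ * x⁻¹⁻¹ = x⁻¹ * ((h * x * h⁻¹ * x⁻¹)⁻¹ * x) := by group
    rw [e, ← h2, inv_mul_cancel_left]
    exact h1

/-- `{c ∈ C_i : [X_i, c] ≤ N_i Z_i}` -/
def KX (D : FrN T V Z) (i : Fin 2) : Subgroup G where
  carrier := {c | c ∈ CC Z i ∧ ∀ x ∈ XX V Z i, c * x * c⁻¹ * x⁻¹ ∈ NP Z i}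
  one_mem' := ⟨one_mem _, fun x _ => by simp⟩
  mul_mem' := by
    rintro a b ⟨ha, ha'⟩ ⟨hb, hb'⟩
    refine ⟨mul_mem ha hb, fun x hx => ?_⟩
    have e : a * b * x * (a * b)⁻¹ * x⁻¹ = (a * (b * x * b⁻¹ * x⁻¹) * a⁻¹) * (a * x * a⁻¹ * x⁻¹) := by group
    rw [e]
    exact mul_mem ((mem_normalizer_iff.1 (D.C_norm_NP i ha) _).1 (hb' x hx)) (ha' x hx)
  inv_mem' := by
    rintro a ⟨ha, ha'⟩
    refine ⟨inv_mem ha, fun x hx => ?_⟩
    have e : a⁻¹ * x * a⁻¹⁻¹ * x⁻¹ = a⁻¹ * (a * x * a⁻¹ * x⁻¹)⁻¹ * a⁻¹⁻¹ := by group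
    rw [e]
    exact (mem_normalizer_iff.1 (D.C_norm_NP i (inv_mem ha)) _).1 (inv_mem (ha' x hx))

theorem KX_le (D : FrN T V Z) (i : Fin 2) : D.KX i ≤ CC Z i := fun _ hc => hc.1

theorem norm_KX (D : FrN T V Z) (i : Fin 2) : CC Z i ≤ normalizer (D.KX i : Set G) := by
  refine le_norm_of fun g hg c hc => ⟨mul_mem (mul_mem hg hc.1) (inv_mem hg), fun x hx => ?_⟩
  have h1 : g⁻¹ * x * g⁻¹⁻¹ ∈ XX V Z i := (mem_normalizer_iff.1 (D.C_norm_X i (inv_mem hg)) x).1 hx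
  have h2 := (mem_normalizer_iff.1 (D.C_norm_NP i hg) _).1 (hc.2 _ h1)
  have e : g * (c * (g⁻¹ * x * g⁻¹⁻¹) * c⁻¹ * (g⁻¹ * x * g⁻¹⁻¹)⁻¹) * g⁻¹ =
      g * c * g⁻¹ * x * (g * c * g⁻¹)⁻¹ * x⁻¹ := by group
  rwa [e] at h2

/-- `[f, L] ≤ Z_i` ⟹ `L'` centralises `f` -/
theorem com_van (D : FrN T V Z) {i : Fin 2} {L : Subgroup G} (hL : L ≤ CC Z i) {f : G}
    (hf : ∀ l ∈ L, l * f * l⁻¹ * f⁻¹ ∈ Z i) {a b : G} (ha : a ∈ L) (hb : b ∈ L) :
    (a * b * a⁻¹ * b⁻¹) * f * (a * b * a⁻¹ * b⁻¹)⁻¹ = f := by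
  have key : ∀ x ∈ L, ∀ y ∈ L, (x * y) * f * (x * y)⁻¹ = (y * f * y⁻¹ * f⁻¹) * (x * f * x⁻¹ * f⁻¹) * f := by
    intro x hx y hy
    have h1 := D.Z_cent_C i (hL hx) (hf y hy)
    calc (x * y) * f * (x * y)⁻¹ = (x * (y * f * y⁻¹ * f⁻¹)) * f * x⁻¹ := by group
      _ = (y * f * y⁻¹ * f⁻¹) * (x * f * x⁻¹ * f⁻¹) * f := by rw [h1]; group
  have h1 := key _ (inv_mem ha) _ (inv_mem hb)
  have h2 := key _ (inv_mem hb) _ (inv_mem ha)
  have h3 := D.Z_cent_C i (D.T_le_C i (D.Z_le_T i (hf _ (inv_mem ha)))) (hf _ (inv_mem hb))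
  rw [← h3, ← h2] at h1
  calc (a * b * a⁻¹ * b⁻¹) * f * (a * b * a⁻¹ * b⁻¹)⁻¹ = a * b * (a⁻¹ * b⁻¹ * f * (a⁻¹ * b⁻¹)⁻¹) * (a * b)⁻¹ := by group
    _ = f := by rw [h1]; group

/-- the core of THEOREM G* -/
theorem core (hML : ML.Final.MLK.{u, u}) (hE : ML.Ex.Two.Ext.{u, u}) (D : FrN T V Z) {i : Fin 2} (hK : IsKGroup (CC Z i))
    (hF : ¬ Fail T V Z i) {H : Subgroup G} (hT : T ≤ H) (hH : H ≤ CC Z i) (hNH : NN Z i ≤ NH Z i H)
    (hf : ∀ w ∈ V i, ∃ f ∈ XX V Z i, (∀ h ∈ H, h * f * h⁻¹ * f⁻¹ ∈ Z i) ∧ f * w⁻¹ ∈ NP Z i) : False := by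
  have hji := (ne_add_one i).symm
  unfold Fail at hF
  push Not at hF
  obtain ⟨A, hA, -, hm⟩ := hF
  obtain ⟨hB1, hB2, -⟩ := D.ex_U hML hK hA
  set B : Subgroup G := A ⊓ centralizer (UU V Z i : Set G) with hB
  have hBO : B ≤ o2 (centralizer (zc T : Set G)) := inf_le_left.trans hA.le
  have hBsq : ∀ b ∈ B, b ^ 2 = 1 := fun b hb => hA.sq b hb.1
  have hBT : B ≤ T := hBO.trans D.O_le_T
  have hBH : B ≤ H := hBT.trans hT
  have hBC : B ≤ CC Z i := hBH.trans hH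
  have hXC := D.X_le_C i
  have hVX : V i ≤ XX V Z i := (le_V _ _).trans le_sup_left
  have hZN : Z (i + 1) ≤ NN Z i := le_V _ _
  have hNNP : NN Z i ≤ NP Z i := le_sup_left
  have hZP : Z (i + 1) ≤ NP Z i := hZN.trans hNNP
  have hSH : Syl T H := ⟨hT, D.T_isPGroup, fun R hR hR2 hTR => (D.syl i).2.2 R (hR.trans hH) hR2 hTR⟩
  -- the section
  have nW : H ≤ normalizer (NP Z i : Set G) := hH.trans (D.C_norm_NP i)
  have nY : H ≤ normalizer (Z i : Set G) := hH.trans (D.C_norm_Z i)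
  have WY : NP Z i ≤ normalizer (Z i : Set G) := ((D.NP_le_X i).trans hXC).trans (D.C_norm_Z i)
  have hN : ((Z i).subgroupOf (NP Z i)).Normal := normal_subgroupOf_of_le_normalizer WY
  let _ := ML.Final.conjAct nW nY
  let mk : NP Z i →* NP Z i ⧸ (Z i).subgroupOf (NP Z i) := QuotientGroup.mk' ((Z i).subgroupOf (NP Z i))
  have hmk : Function.Surjective mk := QuotientGroup.mk'_surjective _
  have hsm : ∀ (g : H) (x : NP Z i) (hx : (g : G) * x * (g : G)⁻¹ ∈ NP Z i), g • mk x = mk ⟨(g : G) * x * (g : G)⁻¹, hx⟩ :=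
    fun _ _ _ => rfl
  have hmem : ∀ (g : H) (x : NP Z i), (g : G) * x * (g : G)⁻¹ ∈ NP Z i := fun g x =>
    (mem_normalizer_iff.1 (nW g.2) x).1 x.2
  have hone : ∀ x y : NP Z i, mk x = mk y ↔ (x : G) * (y : G)⁻¹ ∈ Z i := by
    intro x y
    rw [← mul_inv_eq_one, ← map_inv, ← map_mul, ← MonoidHom.mem_ker, QuotientGroup.ker_mk']
    exact Iff.rfl
  have hfix : ∀ (g : H) (x : NP Z i), g • mk x = mk x ↔ (g : G) * x * (g : G)⁻¹ * (x : G)⁻¹ ∈ Z i := by
    intro g x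
    rw [hsm g x (hmem g x), hone]
  -- `F`, `YS`
  let F : Subgroup G := tl (XX V Z i) (Z i) H (fun x hx y hy => D.Z_cent_C i (hXC hx) hy)
    (fun a ha y hy => D.Z_cent_C i (hH ha) hy)
  have hFX : F ≤ XX V Z i := fun x hx => hx.1
  have hFte : ∀ h ∈ H, F ≤ D.te i h := fun h hh x hx => ⟨hx.1, hx.2 h hh⟩
  let YS : Subgroup G := NP Z i ⊓ (V i ⊔ F)
  have hYS : ∀ n ∈ YS, ∃ w ∈ V i, ∃ f ∈ F, n = w * f := fun n hn =>
    exists_mul_of_mem_sup (((comm_mono (TwoS.comm_of_sq (D.X_sq i)) hFX hVX)).trans (centralizer_le_normalizer _)) hn.2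
  have hVY : ∀ w ∈ V i, ∃ f ∈ F, w⁻¹ * f ∈ YS := by
    intro w hw
    obtain ⟨f, h1, h2, h3⟩ := hf w hw
    refine ⟨f, ⟨h1, h2⟩, ?_, mul_mem (mem_sup_left (inv_mem hw)) (mem_sup_right (show f ∈ F from ⟨h1, h2⟩))⟩
    rw [D.X_comm i (inv_mem (hVX hw)) h1]
    exact h3
  set Z' : Subgroup (NP Z i ⧸ (Z i).subgroupOf (NP Z i)) := ((Z (i + 1)).subgroupOf (NP Z i)).map mk with hZ'
  set Y' : Subgroup (NP Z i ⧸ (Z i).subgroupOf (NP Z i)) := (YS.subgroupOf (NP Z i)).map mk with hY'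
  -- `h` fixes `Y'` iff `[V i, h] ≤ Z_i`
  have hfY : ∀ h : H, (∀ w ∈ V i, (h : G) * w * (h : G)⁻¹ * w⁻¹ ∈ Z i) → ∀ y ∈ Y', h • y = y := by
    rintro h hh _ ⟨n, hn, rfl⟩
    rw [hfix]
    obtain ⟨w, hw, f, hf', e⟩ := hYS n (mem_subgroupOf.1 hn)
    have h1 : w * f ∈ D.te i h := mul_mem (show w ∈ D.te i h from ⟨hVX hw, hh w hw⟩) (hFte h h.2 hf')
    rw [← e] at h1
    exact h1.2
  have hfY' : ∀ h : H, (∀ y ∈ Y', h • y = y) → ∀ w ∈ V i, (h : G) * w * (h : G)⁻¹ * w⁻¹ ∈ Z i := by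
    intro h hh w hw
    obtain ⟨f, hf', hn⟩ := hVY w hw
    have h1 := (hfix h ⟨w⁻¹ * f, hn.1⟩).1 (hh _ (mem_map_of_mem mk (mem_subgroupOf.2 hn)))
    have h2 : w⁻¹ * f ∈ D.te i h := ⟨D.NP_le_X i hn.1, h1⟩
    have h3 : w⁻¹ ∈ D.te i h := by
      have := mul_mem h2 (inv_mem (hFte h h.2 hf'))
      rwa [mul_inv_cancel_right] at this
    have h4 := inv_mem h3
    rw [inv_inv] at h4
    exact h4.2
  -- stabilisers
  have hfZ : ∀ h : H, h ∈ fxr H Z' ↔ (h : G) ∈ centralizer (zc T : Set G) := by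
    intro h
    constructor
    · intro hh
      refine D.mem_D (hH h.2) (mem_centralizer_iff.2 fun z hz => ?_)
      have h1 := (hfix h ⟨z, hZP hz⟩).1 (hh _ (mem_map_of_mem mk (mem_subgroupOf.2 hz)))
      have h2 := D.sep i h (hH h.2) z hz h1
      exact (eq_mul_of_mul_inv_eq h2).symm
    · rintro hh _ ⟨z, hz, rfl⟩
      rw [hfix]
      have h1 := mem_centralizer_iff.1 (D.cent_zc_le (i + 1) hh) z (mem_subgroupOf.1 hz)
      rw [← h1, mul_inv_cancel_right, mul_inv_cancel]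
      exact one_mem _
  have hcN : ∀ h : H, (∀ (c : H), ∀ z ∈ Z', h • c • z = c • z) → (h : G) ∈ centralizer (NN Z i : Set G) := by
    intro h hh
    refine centralizer_le hNH (D.cent_of_mod hH (hH h.2) fun l hl m hm' => ?_)
    have h1 := hh ⟨l, hl⟩ _ (mem_map_of_mem mk (mem_subgroupOf.2 (show ((⟨m, hZP hm'⟩ : NP Z i) : G) ∈ Z (i + 1) from hm')))
    rw [hsm ⟨l, hl⟩ ⟨m, hZP hm'⟩ (hmem _ _)] at h1
    exact (hfix h _).1 h1
  have hcM : ∀ h : H, (h : G) ∈ centralizer (NN Z i : Set G) → ∀ m : NP Z i ⧸ (Z i).subgroupOf (NP Z i), h • m = m := by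
    intro h hh m
    obtain ⟨x, rfl⟩ := hmk m
    rw [hfix]
    obtain ⟨n, hn, z, hz, e⟩ := exists_mul_of_mem_sup ((((D.Z_le_X i).trans hXC)).trans (le_normalizer_V _ _)) x.2
    have h1 := mem_centralizer_iff.1 hh n hn
    have h2 := D.Z_cent_C i (hH h.2) hz
    rw [e]
    have e2 : (h : G) * (n * z) * (h : G)⁻¹ * (n * z)⁻¹ = 1 := by
      calc (h : G) * (n * z) * (h : G)⁻¹ * (n * z)⁻¹ = (h * n) * z * (h : G)⁻¹ * (n * z)⁻¹ := by group
        _ = n * (h * z) * (h : G)⁻¹ * (n * z)⁻¹ := by rw [← h1]; group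
        _ = 1 := by rw [h2]; group
    rw [e2]
    exact one_mem _
  have hnT : ∀ g : H, g ∈ normalizer ((T.subgroupOf H : Subgroup H) : Set H) →
      (g : G) ∈ CC Z i ⊓ normalizer (T : Set G) := by
    intro g hg
    refine mem_inf.2 ⟨hH g.2, ?_⟩
    rw [mem_normalizer_iff]
    intro t
    constructor
    · intro ht
      exact (mem_normalizer_iff.1 hg ⟨t, hT ht⟩).1 ht
    · intro ht
      have h1 : (g : G)⁻¹ * ((g : G) * t * (g : G)⁻¹) * (g : G)⁻¹⁻¹ ∈ T :=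
        (mem_normalizer_iff.1 (inv_mem hg) ⟨(g : G) * t * (g : G)⁻¹, hT ht⟩).1 ht
      have e : (g : G)⁻¹ * ((g : G) * t * (g : G)⁻¹) * (g : G)⁻¹⁻¹ = t := by group
      rwa [e] at h1
  have hTt : ∀ t : H, (t : G) ∈ T → ∀ y ∈ Y', t • y = y := fun t ht =>
    hfY t fun w hw => D.com i w hw t ht
  have hcv : ∀ A' : Subgroup H, ∀ hA' : A'.map H.subtype ≤ CC Z i, (cv (NP Z i ⧸ (Z i).subgroupOf (NP Z i)) (A' : Set H)).index =
      (D.tN i hA').relIndex (NP Z i) := by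
    intro A' hA'
    rw [← index_comap_of_surjective _ hmk, relIndex]
    congr 1
    ext x
    rw [mem_subgroupOf, mem_comap]
    constructor
    · intro h1
      refine ⟨x.2, ?_⟩
      rintro _ ⟨a, ha, rfl⟩
      exact (hfix a x).1 (h1 a ha)
    · rintro ⟨-, h2⟩ a ha
      exact (hfix a x).2 (h2 a ⟨a, ha, rfl⟩)
  have hfxt : fxr H (⊤ : Subgroup (NP Z i ⧸ (Z i).subgroupOf (NP Z i))) = (centralizer (NN Z i : Set G)).subgroupOf H := by
    ext h
    rw [mem_subgroupOf]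
    constructor
    · exact fun hh => hcN h fun c z _ => hh _ (mem_top _)
    · exact fun hh m _ => hcM h hh m
  have hrel : ∀ A' : Subgroup H, (fxr H (⊤ : Subgroup (NP Z i ⧸ (Z i).subgroupOf (NP Z i)))).relIndex A' =
      (centralizer (NN Z i : Set G)).relIndex (A'.map H.subtype) := by
    intro A'
    rw [hfxt, subgroupOf, relIndex_comap]
  have eB : (B.subgroupOf H).map H.subtype = B := by
    rw [subgroupOf_map_subtype, inf_eq_left.2 hBH]
  have hP : StarQ.PreG (C := H) (M := NP Z i ⧸ (Z i).subgroupOf (NP Z i)) (T.subgroupOf H) (B.subgroupOf H) Z' Y' := by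
    refine ⟨?_, ?_, ?_, ?_, ?_, ?_, ?_, ?_, ?_, ?_, ?_, ?_, ?_, ?_, ?_, ?_⟩
    · intro m
      obtain ⟨x, rfl⟩ := hmk m
      rw [← map_mul, ← map_one mk, hone]
      have h1 := D.X_sq i x (D.NP_le_X i x.2)
      rw [pow_two] at h1
      change (x : G) * x * (1 : G)⁻¹ ∈ Z i
      rw [h1, inv_one, mul_one]
      exact one_mem _
    · exact D.T_isPGroup.comap_of_injective H.subtype H.subtype_injective
    · exact syl_not_dvd hSH
    · rintro _ ⟨z, hz, rfl⟩ t ht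
      rw [hfix]
      have h1 := mem_centralizer_iff.1 (D.T_le_C (i + 1) (mem_subgroupOf.1 ht)) z (mem_subgroupOf.1 hz)
      rw [← h1, mul_inv_cancel_right, mul_inv_cancel]
      exact one_mem _
    · rintro g hg _ ⟨z, hz, rfl⟩
      rw [hsm g z (hmem g z)]
      refine mem_map_of_mem mk (mem_subgroupOf.2 ?_)
      exact (mem_normalizer_iff.1 (D.nT i (hnT g hg)).1.1 z).1 (mem_subgroupOf.1 hz)
    · exact fun t ht => hTt t (mem_subgroupOf.1 ht)
    · intro P hP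
      have hR := Plug.minPar_map hT hP
      have hRC : P.map H.subtype ≤ CC Z i := (map_subtype_le P).trans hH
      by_cases hRm : P.map H.subtype ≤ CC Z (i + 1)
      · left
        rintro _ ⟨z, hz, rfl⟩ p hp
        rw [hfix]
        have h1 := mem_centralizer_iff.1 (hRm (mem_map_of_mem H.subtype hp)) z (mem_subgroupOf.1 hz)
        have h2 : (z : G) * p = p * z := h1
        rw [← h2, mul_inv_cancel_right, mul_inv_cancel]
        exact one_mem _
      · right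
        intro g hg hog
        have h1 := D.odd (i + 1) i hji _ hR hRC hRm g (mem_map_of_mem H.subtype hg) (by rwa [orderOf_coe])
        refine hfY g fun w hw => ?_
        rw [← mem_centralizer_iff.1 h1 w hw, mul_inv_cancel_right, mul_inv_cancel]
        exact one_mem _
    · -- `cG`
      rintro L hTL _ ⟨z, hz, rfl⟩ g hgL hgN hgo h1 h2
      have hLi : L.map H.subtype ≤ CC Z i := (map_subtype_le L).trans hH
      -- elements of `L` which fix the orbit of `z`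
      have horb : ∀ s : H, (∀ l ∈ L, s • l • mk z = l • mk z) → ∀ n : NP Z i, mk n ∈ orb L (mk z) →
          (n : G) * s = s * n := by
        intro s hs n hn
        have h3 : orb L (mk z) ≤ ((centralizer ({(s : G)} : Set G)).subgroupOf (NP Z i)).map mk := by
          refine orb_le fun l hl => ?_
          have h4 := hs l hl
          rw [hsm l z (hmem l z)] at h4 ⊢
          rw [hfix] at h4
          refine mem_map_of_mem mk (mem_subgroupOf.2 ?_)
          have h5 := D.sep' i (hH s.2) (hH l.2) (mem_subgroupOf.1 hz) h4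
          rw [mem_centralizer_singleton_iff]
          exact (eq_mul_of_mul_inv_eq h5).symm
        obtain ⟨y, hy, hyn⟩ := h3 hn
        have h4 := (hone n y).1 hyn.symm
        have h5 := mem_centralizer_singleton_iff.1 (mem_subgroupOf.1 hy)
        have h6 := D.Z_cent_C i (hH s.2) h4
        have h7 : (y : G) * s = s * y := h5
        calc (n : G) * s = ((n : G) * (y : G)⁻¹) * (y * s) := by group
          _ = (((n : G) * (y : G)⁻¹) * s) * y := by rw [h7]; group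
          _ = s * n := by rw [← h6]; group
      have hgN' := hnT g hgN
      have hgV := (D.nT i hgN').1.2
      -- `s = [g, t]` centralises `V i`
      have hs : ∀ t ∈ T, ∀ w ∈ V i, ((g : G) * t * (g : G)⁻¹ * t⁻¹) * w = w * ((g : G) * t * (g : G)⁻¹ * t⁻¹) := by
        intro t ht w hw
        have htL : (⟨t, hT ht⟩ : H) ∈ L := hTL (mem_subgroupOf.2 ht)
        set s : H := g * ⟨t, hT ht⟩ * g⁻¹ * (⟨t, hT ht⟩ : H)⁻¹ with hsdef
        have hsG : (s : G) = (g : G) * t * (g : G)⁻¹ * t⁻¹ := rfl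
        obtain ⟨f, hf', hn⟩ := hVY w hw
        obtain ⟨w0, h3, h4⟩ := h2 (mk ⟨w⁻¹ * f, hn.1⟩) (mem_map_of_mem mk (mem_subgroupOf.2 hn))
        obtain ⟨n0, rfl⟩ := hmk w0
        rw [← map_mul] at h4
        have h5 := horb s (fun l hl => h1 _ (mem_subgroupOf.2 ht) l hl) _ h4
        have h5' : (w⁻¹ * f * (n0 : G)) * s = s * (w⁻¹ * f * (n0 : G)) := h5
        have h6 : (s : G) * f * (s : G)⁻¹ = f := D.com_van hH hf'.2 g.2 (hT ht)
        have h7 : (s : G) * n0 * (s : G)⁻¹ = n0 := by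
          refine D.com_van (L := L.map H.subtype) hLi ?_ (mem_map_of_mem H.subtype hgL) (mem_map_of_mem H.subtype htL)
          rintro _ ⟨l, hl, rfl⟩
          exact (hfix l n0).1 (h3 l hl)
        have h8 : (s : G) * f = f * s := eq_mul_of_mul_inv_eq h6
        have h9 : (s : G) * n0 = n0 * s := eq_mul_of_mul_inv_eq h7
        have h10 : Commute (s : G) (w⁻¹ * f * (n0 : G)) := h5'.symm
        have h11 : Commute (s : G) w⁻¹ := by
          have e : w⁻¹ = (w⁻¹ * f * (n0 : G)) * (n0 : G)⁻¹ * f⁻¹ := by group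
          rw [e]
          exact (h10.mul_right (show Commute (s : G) n0 from h9).inv_right).mul_right (show Commute (s : G) f from h8).inv_right
        have h12 : Commute (s : G) w := by
          have := h11.inv_right
          rwa [inv_inv] at this
        rw [← hsG]
        exact h12
      -- `g` centralises `V i / Z_i`
      refine hfY g fun w hw => D.cV i _ ?_ ?_
      · exact mul_mem ((mem_normalizer_iff.1 hgV w).1 hw) (inv_mem hw)
      · rw [mem_centralizer_iff]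
        intro t ht
        have hVab := TwoS.comm_of_sq (D.sqV i)
        have hab : ∀ a ∈ V i, ∀ b ∈ V i, a * b = b * a := fun a ha b hb => mem_centralizer_iff.1 (hVab hb) a ha
        have hgw : (g : G) * w * (g : G)⁻¹ ∈ V i := (mem_normalizer_iff.1 hgV w).1 hw
        have htw : t * w * t⁻¹ ∈ V i := (mem_normalizer_iff.1 (D.nV i ht) w).1 hw
        set u : G := (g : G) * w * (g : G)⁻¹ * w⁻¹ with hu
        have huV : u ∈ V i := mul_mem hgw (inv_mem hw)
        have hc := D.com i w hw t ht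
        set c : G := t * w * t⁻¹ * w⁻¹ with hcdef
        -- `g t w t⁻¹ g⁻¹ = t g w g⁻¹ t⁻¹`
        have e1 : (g : G) * t * w * ((g : G) * t)⁻¹ = t * (g * w * (g : G)⁻¹) * t⁻¹ := by
          have h3 := hs t ht (t * (g * w * (g : G)⁻¹) * t⁻¹) ((mem_normalizer_iff.1 (D.nV i ht) _).1 hgw)
          have h4 : ((g : G) * t * (g : G)⁻¹ * t⁻¹) * (t * (g * w * (g : G)⁻¹) * t⁻¹) *
              ((g : G) * t * (g : G)⁻¹ * t⁻¹)⁻¹ = t * (g * w * (g : G)⁻¹) * t⁻¹ := by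
            rw [h3, mul_inv_cancel_right]
          calc (g : G) * t * w * ((g : G) * t)⁻¹ = ((g : G) * t * (g : G)⁻¹ * t⁻¹) * (t * (g * w * (g : G)⁻¹) * t⁻¹) *
              ((g : G) * t * (g : G)⁻¹ * t⁻¹)⁻¹ := by group
            _ = _ := h4
        have hgc : (g : G) * c = c * g := D.Z_cent_C i (hH g.2) hc
        have e2 : (g : G) * t * w * ((g : G) * t)⁻¹ = c * (u * w) := by
          calc (g : G) * t * w * ((g : G) * t)⁻¹ = (g * c) * w * (g : G)⁻¹ := by rw [hcdef]; group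
            _ = c * (u * w) := by rw [hgc, hu]; group
        have e3 : t * (g * w * (g : G)⁻¹) * t⁻¹ = (t * u * t⁻¹) * (c * w) := by rw [hu, hcdef]; group
        have e4 : t * u * t⁻¹ ∈ V i := (mem_normalizer_iff.1 (D.nV i ht) _).1 huV
        have e5 : (t * u * t⁻¹) * (c * w) = u * (c * w) := by
          calc (t * u * t⁻¹) * (c * w) = c * (u * w) := by rw [← e3, ← e1, e2]
            _ = (c * u) * w := (mul_assoc _ _ _).symm
            _ = (u * c) * w := by rw [hab c (D.ZV i hc) u huV]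
            _ = u * (c * w) := mul_assoc _ _ _
        have e6 := mul_right_cancel e5
        calc t * u = (t * u * t⁻¹) * t := by group
          _ = u * t := by rw [e6]
    · intro a ha
      apply Subtype.ext
      have h := hBsq a (mem_subgroupOf.1 ha)
      rw [pow_two] at h
      exact h
    · exact Plug.sub_o2 (S := centralizer (zc T : Set G)) hfZ hBO
    · refine Plug.sub_o2 (S := HH T V i) (fun c => ?_) hB1
      have h1 : fxr H Y' ⊔ T.subgroupOf H = fxr H Y' :=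
        sup_eq_left.2 fun t ht => hTt t (mem_subgroupOf.1 ht)
      rw [h1, D.mem_HH]
      exact ⟨fun h => ⟨hH c.2, hfY' c h⟩, fun h => hfY c h.2⟩
    · exact fun a _ h => hcM a (hcN a h)
    · by_contra hc
      push Not at hc
      exact hm fun b hb => hcN ⟨b, hBH hb⟩ fun c z _ => hc _ (mem_subgroupOf.2 hb) _
    · intro A' hA'
      have h1 : A'.map H.subtype ≤ B := by
        rintro _ ⟨a, ha, rfl⟩
        exact mem_subgroupOf.1 (hA' ha)
      rw [hrel, hcv A' (h1.trans hBC)]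
      exact D.no_t hML hK (h1.trans hBO) fun a ha => hBsq a (h1 ha)
    · have h0 : (B.subgroupOf H).map H.subtype ≤ CC Z i := by rw [eB]; exact hBC
      rw [hrel, hcv _ h0]
      have hXc : NP Z i ≤ centralizer (NP Z i : Set G) := TwoS.comm_of_sq fun x hx => D.X_sq i x (D.NP_le_X i hx)
      have hZB : Z i ≤ centralizer (B : Set G) := comm_symm hBC
      have h2 : (centralizer (B : Set G)).relIndex (NP Z i) ≤ (centralizer (B : Set G)).relIndex (NN Z i) :=
        relIndex_le_of_sup le_sup_left hXc (sup_le le_sup_left (le_trans (le_inf le_sup_right hZB) le_sup_right))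
      have h3 : NP Z i ⊓ centralizer (B : Set G) ≤ D.tN i h0 := by
        rintro x ⟨hx, hx2⟩
        refine ⟨hx, ?_⟩
        rw [eB]
        intro a ha
        rw [mem_centralizer_iff.1 hx2 a ha, mul_inv_cancel_right, mul_inv_cancel]
        exact one_mem _
      calc (D.tN i h0).relIndex (NP Z i) ≤ (NP Z i ⊓ centralizer (B : Set G)).relIndex (NP Z i) := relIndex_anti h3
        _ = (centralizer (B : Set G)).relIndex (NP Z i) := inf_relIndex_left _ _
        _ ≤ (centralizer (B : Set G)).relIndex (NN Z i) := h2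
        _ = _ := by rw [eB]; exact hB2.symm
    · exact kgroup_mono hK hH
  obtain ⟨H', _, _, _, T', A', h⟩ := hP.inp
  exact h.false_of hML hE

/-- **THEOREM G*** -/
theorem g1 (hML : ML.Final.MLK.{u, u}) (hE : ML.Ex.Two.Ext.{u, u}) (D : FrN T V Z) {i : Fin 2} (hK : IsKGroup (CC Z i))
    (hF : ¬ Fail T V Z i) {A : Subgroup G} (hA : A ≤ CC Z i) (hA2 : IsPGroup 2 A)
    (hx : ∀ x ∈ XX V Z i, ∀ a ∈ A, a * x * a⁻¹ * x⁻¹ ∈ NP Z i) : A ≤ centralizer (NN Z i : Set G) := by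
  by_contra hm
  have h0 : NN Z i ≤ NH Z i (D.KX i) :=
    D.lem0 (D.KX_le i) (D.norm_KX i) (fun a ha => ⟨hA ha, fun x hx' => hx x hx' a ha⟩) hA2 hm
  have hKT : D.KX i ⊔ T ≤ CC Z i := sup_le (D.KX_le i) (D.T_le_C i)
  have hSH : Syl T (D.KX i ⊔ T) :=
    ⟨le_sup_right, D.T_isPGroup, fun R hR hR2 hTR => (D.syl i).2.2 R (hR.trans hKT) hR2 hTR⟩
  have hVX : V i ≤ XX V Z i := (le_V _ _).trans le_sup_left
  have hXC := D.X_le_C i
  refine D.core hML hE hK hF le_sup_right hKT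
    (h0.trans (V_le_of (le_V _ _) (le_sup_left.trans (le_normalizer_V _ _)))) fun w hw => ?_
  refine exists_fix_group (C := D.KX i ⊔ T) (hKT.trans (D.C_norm_X i)) (hKT.trans (D.C_norm_Z i))
    (hXC.trans (D.C_norm_Z i)) (fun x hx' => ?_) le_sup_right (syl_not_dvd hSH) (hVX hw) (D.com i w hw) ?_
  · have h1 := D.X_sq i x hx'
    rw [pow_two] at h1
    rw [h1]
    exact one_mem _
  · intro c hc
    obtain ⟨k, hk, t, ht, rfl⟩ := exists_mul_of_mem_sup ((D.T_le_C i).trans (D.norm_KX i)) hc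
    have e : k * t * w * (k * t)⁻¹ * w⁻¹ = (k * (t * w * t⁻¹ * w⁻¹) * k⁻¹) * (k * w * k⁻¹ * w⁻¹) := by group
    rw [e]
    have h1 := D.com i w hw t ht
    rw [D.Z_cent_C i hk.1 h1, mul_inv_cancel_right]
    exact mul_mem (mem_sup_right h1) (hk.2 w (hVX hw))

/-- (G2) -/
theorem g2 (hML : ML.Final.MLK.{u, u}) (hE : ML.Ex.Two.Ext.{u, u}) (D : FrN T V Z) {i : Fin 2} (hK : IsKGroup (CC Z i))
    (hF : ¬ Fail T V Z i) {A : Subgroup G} (hA : Mx (o2 (centralizer (zc T : Set G))) A)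
    (hm : ¬ A ≤ centralizer (NN Z i : Set G)) :
    ¬ A ⊓ centralizer (NN Z i : Set G) ≤ centralizer (XX V Z i : Set G) := by
  intro hc
  apply hm
  obtain ⟨h1, h2, h3, h4⟩ := D.X_facts i
  have hXc : XX V Z i ≤ centralizer (XX V Z i : Set G) := TwoS.comm_of_sq h2
  have h7 : (centralizer (A : Set G)).relIndex (XX V Z i) ≤ (centralizer (A : Set G)).relIndex (NN Z i) := by
    refine (hA.thom (h1.trans (D.Q_le_O i)) h2).trans ?_
    rw [← (D.mx hML hK hA).1]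
    have e1 : (A ⊓ centralizer (NN Z i : Set G)).relIndex A = (centralizer (NN Z i : Set G)).relIndex A :=
      inf_relIndex_left _ _
    rw [← e1]
    exact relIndex_anti hc
  have h8 := sup_of_relIndex_le le_sup_right hXc h7
  have hAC : A ≤ CC Z i := (hA.le.trans D.O_le_T).trans (D.T_le_C i)
  refine D.g1 hML hE hK hF hAC ((o2_isPGroup _).to_le hA.le) fun x hx a ha => mem_sup_left ?_
  obtain ⟨n, hn, y, hy, rfl⟩ := exists_mul_of_mem_sup
    ((inf_le_left.trans (D.X_le_C i)).trans (le_normalizer_V (Z (i + 1)) (CC Z i))) (h8 hx)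
  have h9 : a * y = y * a := mem_centralizer_iff.1 hy.2 a ha
  have h10 : a * n * a⁻¹ ∈ NN Z i := (mem_normalizer_iff.1 (le_normalizer_V (Z (i + 1)) (CC Z i) (hAC ha)) n).1 hn
  have e : a * (n * y) * a⁻¹ * (n * y)⁻¹ = (a * n * a⁻¹) * n⁻¹ := by
    calc a * (n * y) * a⁻¹ * (n * y)⁻¹ = a * n * (y * a⁻¹) * y⁻¹ * n⁻¹ := by group
      _ = a * n * (a⁻¹ * y) * y⁻¹ * n⁻¹ := by
        rw [(show Commute y a⁻¹ from (show Commute y a from h9.symm).inv_right).eq]
      _ = (a * n * a⁻¹) * n⁻¹ := by group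
  rw [e]
  exact mul_mem h10 (inv_mem hn)

end FrN

end Cfsg.Agent.Omega.KL.TwoZ

end
end

-- part: Mrg/Omega/NO3S/SFive/WCPlug
section
set_option linter.all false
open scoped Cfsg.Agent.FastGrp

section


/-!
# GammaFF (S5): `k = 1` natural, `|K| ≥ 4`, is impossible (THEOREM WC1, helper879 #23006)

`five_one` : `FiveP G S P`, `NatP K (zl S P) P`, `4 ≤ |K|` ⟹ `False`; `redH_five`, `wH_five`.
-/

set_option autoImplicit false

namespace Cfsg.Agent.Omega.NO3S.SFive.WCPlug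

open Subgroup Cfsg Cfsg.Agent.ZN Cfsg.Agent.Omega.MinPar Cfsg.Agent.Omega.Frame
open Cfsg.Agent.Omega.NO3S.Level
open Cfsg.Agent.Omega.NO3S.SFive.One (Wv)
open scoped Pointwise

universe u

variable {G : Type u} [Group G] [Finite G]

end Cfsg.Agent.Omega.NO3S.SFive.WCPlug

end

section


/-!
# GammaFF (S5), (3) of helper75 #22081 (helper31 #23010)

`Fv S P V M F`, an active chamber of `F`.

* `Fv.bh_BBB` : `B2 = BBB` is abelian, `BB ≤ BBB ≤ B1`;
* `Fv.inf_BBB_eq` : `V ∩ B2 = V ∩ B`;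
* **`Fv.three`** : some `m ∈ M` has `B1_{F^m} ≤ S`, `B1_{F^m}` moves `L`, `L ≰ E_{F^m}`.
-/

set_option autoImplicit false
set_option linter.unusedSectionVars false

namespace Cfsg.Agent.Omega.NO3S.SFive

open Subgroup Cfsg Cfsg.Agent.ZN Cfsg.Agent.Omega.MinPar Cfsg.Agent.Omega.Frame Cfsg.Agent.Omega.FrameNOFF
open Cfsg.Agent.Omega.NOne.Flat (EE NN BadX conj_eq_of_norm conj_centralizer WW_conj EE_conj conj_eq_of_cent)
open Cfsg.Agent.Omega.NOne.NearFF (c)
open Cfsg.Agent.Omega.NoFF.Basic (conj_conj mem_conj conj_le_iff conj_le_centralizer comm_symm comm_mono)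
open Cfsg.Agent.Omega.FFThm (ElemM OffM NoOverM ConclM)
open Cfsg.Agent.Omega.NOThreeL.Low (Tp)
open Cfsg.Agent.Omega.NOThreeL.Low.Key (BH)
open scoped Pointwise

universe u

variable {G : Type u} [Group G] [Finite G] {S : Sylow 2 G} {P V M F : Subgroup G}

namespace Fv

variable (h : Fv S P V M F)
include h

theorem tp : Tp (S : Subgroup G) P := by
  have h1 := h.concl
  rw [ConclM, h.cvb] at h1
  exact h1

/-- lines of two chambers, `X`-conjugates -/
theorem mutu {m m' x y : G} (hx : x ∈ centralizer (F : Set G)) (hy : y ∈ centralizer (F : Set G))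
    (h1 : ∀ z ∈ centralizer (F : Set G), MulAut.conj (z * m) • zl (S : Subgroup G) P ≤
      MulAut.conj m' • (S : Subgroup G))
    (h2 : ∀ z ∈ centralizer (F : Set G), MulAut.conj (z * m') • zl (S : Subgroup G) P ≤
      MulAut.conj m • (S : Subgroup G)) :
    MulAut.conj (x * m) • zl (S : Subgroup G) P ≤
      centralizer ((MulAut.conj (y * m') • zl (S : Subgroup G) P : Subgroup G) : Set G) := by
  have h3 := h.commL (h1 (y⁻¹ * x) (mul_mem (inv_mem hy) hx)) (h2 _ (inv_mem (mul_mem (inv_mem hy) hx)))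
  have h4 := (cent_conj_iff (g := y)).2 h3
  rw [conj_conj, conj_conj] at h4
  have e : y * (y⁻¹ * x * m) = x * m := by group
  rwa [e] at h4

/-- the lines commute with `F` -/
theorem line_cent {m x : G} (hm : m ∈ M) (hx : x ∈ centralizer (F : Set G)) :
    MulAut.conj (x * m) • zl (S : Subgroup G) P ≤ centralizer (F : Set G) := by
  have h1 := (conj_le_iff (g := x)).2 ((h.conjLV hm).trans h.toHyp.V_le_X)
  rwa [conj_conj, conj_centralizer, conj_eq_of_cent hx] at h1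

theorem BB_le_B1 : BB S P V M F ≤ B1 S P V M F :=
  le_inf h.bh.le_W (h.bh.abel.trans (centralizer_le inf_le_right))

/-- `C_W(B) ≤ B1` -/
theorem le_B1 {U : Subgroup G} (h1 : U ≤ NOne.Flat.WW V F) (h2 : U ≤ centralizer (BB S P V M F : Set G)) :
    U ≤ B1 S P V M F := le_inf h1 (h2.trans (centralizer_le inf_le_right))

/-- a good line whose chamber contains `B` is centralised by `B` -/
theorem line_cent_BB {m x : G} (hmM : m ∈ M) (hB : BB S P V M F ≤ MulAut.conj m • (S : Subgroup G))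
    (hE : MulAut.conj m • zl (S : Subgroup G) P ≤ EE V F) (hx : x ∈ centralizer (F : Set G)) :
    MulAut.conj (x * m) • zl (S : Subgroup G) P ≤ centralizer (BB S P V M F : Set G) := by
  refine comm_symm (BL_le (comm_symm (h.line_cent hmM hx)) fun m' hm' y hy => ?_)
  exact h.mutu hy hx (fun z hz => (le_BL hm' hz).trans hB) fun z hz => (h.conjxL_le_W hz hE).trans hm'.2

theorem DB_line_le {m x : G} (hm : m ∈ DB S P V M F) (hx : x ∈ centralizer (F : Set G)) :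
    MulAut.conj (x * m) • zl (S : Subgroup G) P ≤ B1 S P V M F :=
  h.le_B1 (h.conjxL_le_W hx hm.2.2) (h.line_cent_BB hm.1 (h.BB_le_B1.trans hm.2.1) hm.2.2 hx)

/-- `B2` is abelian -/
theorem bh_BBB : BH V F (BBB S P V M F) :=
  h.bh_of (fun _ hm => hm.2.2) fun _ hm _ hm' _ hx =>
    h.commL ((h.DB_line_le hm hx).trans hm'.2.1) ((h.DB_line_le hm' (inv_mem hx)).trans hm.2.1)

theorem sq_BBB : ∀ b ∈ BBB S P V M F, b ^ 2 = 1 := h.sq_BL (fun _ hm => hm.1) h.bh_BBB.abel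

theorem DW_sub_DB : DW S V M F ⊆ DB S P V M F := fun _ hm => ⟨hm.1, inf_le_left.trans hm.2, h.good_DW hm⟩

theorem BB_le_BBB : BB S P V M F ≤ BBB S P V M F := BL_mono h.DW_sub_DB

/-- a good line whose chamber contains `B2` is centralised by `B2` -/
theorem line_cent_BBB {m x : G} (hmM : m ∈ M) (hB : BBB S P V M F ≤ MulAut.conj m • (S : Subgroup G))
    (hE : MulAut.conj m • zl (S : Subgroup G) P ≤ EE V F) (hx : x ∈ centralizer (F : Set G)) :
    MulAut.conj (x * m) • zl (S : Subgroup G) P ≤ centralizer (BBB S P V M F : Set G) := by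
  refine comm_symm (BL_le (comm_symm (h.line_cent hmM hx)) fun m' hm' y hy => ?_)
  refine h.mutu hy hx (fun z hz => (le_BL hm' hz).trans hB) fun z hz => ?_
  refine (h.le_B1 (h.conjxL_le_W hz hE) ?_).trans hm'.2.1
  exact h.line_cent_BB hmM (h.BB_le_BBB.trans hB) hE hz

/-- **`V ∩ B2 = V ∩ B`** -/
theorem inf_BBB_eq (ha : ∃ m ∈ DW S V M F, ¬ MulAut.conj m • zl (S : Subgroup G) P ≤ F) :
    V ⊓ BBB S P V M F = V ⊓ BB S P V M F := by
  obtain ⟨m, hm, hmS, hmL⟩ := h.exists_chamber h.bh_BBB.le_W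
    (h.not_cent_V h.bh_BBB (h.not_le_F ha h.DW_sub_DB))
  have h' := h.conj hm
  rw [← h.BBB_conj hm] at hmS hmL
  have hLE : ¬ zl (S : Subgroup G) P ≤ EE V (MulAut.conj m • F) := by
    intro h1
    apply hmL
    have h2 := h'.line_cent_BBB (m := 1) (x := 1) (one_mem _) (by rwa [conj_one])
      (by rwa [conj_one]) (one_mem _)
    rw [one_mul, conj_one] at h2
    exact comm_symm h2
  have h3 := Pas.three h'.ct h'.par h'.tp h'.bh_BBB h'.sq_BBB hmS h'.LV hLE
  have h4 : (EE V (MulAut.conj m • F)).relIndex (zl (S : Subgroup G) P) ≤ (EE V (MulAut.conj m • F)).relIndex V :=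
    relIndex_le_of_le_right h'.LV index_ne_zero_of_finite
  have h5 := h'.bh.relIndex_V_le (h'.not_le_F (h.act_conj hm ha) le_rfl)
  have h6 : V ⊓ BB S P V M (MulAut.conj m • F) = V ⊓ BBB S P V M (MulAut.conj m • F) := by
    have hle : V ⊓ BB S P V M (MulAut.conj m • F) ≤ V ⊓ BBB S P V M (MulAut.conj m • F) :=
      inf_le_inf_left _ h'.BB_le_BBB
    refine Subgroup.eq_of_le_of_card_ge hle ?_
    rw [← NOne.Flat.card_mul_relIndex' h'.bh.F_le_I, ← NOne.Flat.card_mul_relIndex' h'.bh_BBB.F_le_I]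
    exact Nat.mul_le_mul_left _ ((h3.trans h4).trans h5)
  rw [h.BB_conj hm, h.BBB_conj hm] at h6
  have h7 := congrArg (fun A : Subgroup G => MulAut.conj m⁻¹ • A) h6
  simp only [Subgroup.smul_inf, h.conj_V (inv_mem hm), conj_conj, inv_mul_cancel, conj_one] at h7
  exact h7.symm

/-- **(3)** -/
theorem three (ha : ∃ m ∈ DW S V M F, ¬ MulAut.conj m • zl (S : Subgroup G) P ≤ F) :
    ∃ m ∈ M, B1 S P V M (MulAut.conj m • F) ≤ (S : Subgroup G) ∧
      ¬ B1 S P V M (MulAut.conj m • F) ≤ centralizer (zl (S : Subgroup G) P : Set G) ∧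
      ¬ zl (S : Subgroup G) P ≤ EE V (MulAut.conj m • F) := by
  obtain ⟨m, hm, hmS, hmL⟩ := h.exists_chamber (A := B1 S P V M F) inf_le_left
    (fun h1 => h.not_cent_V h.bh (h.not_le_F ha le_rfl) (h.BB_le_B1.trans h1))
  rw [← h.B1_conj hm] at hmS hmL
  refine ⟨m, hm, hmS, hmL, fun hLE => hmL ?_⟩
  have h' := h.conj hm
  have h1 : (1 : G) ∈ DB S P V M (MulAut.conj m • F) :=
    ⟨one_mem _, by rwa [conj_one], by rwa [conj_one]⟩
  have h2 := le_BL' (S := S) (P := P) (F := MulAut.conj m • F) h1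
  rw [conj_one] at h2
  have h3 : zl (S : Subgroup G) P ≤ V ⊓ BB S P V M (MulAut.conj m • F) := by
    rw [← h'.inf_BBB_eq (h.act_conj hm ha)]
    exact le_inf h'.LV h2
  exact inf_le_right.trans (centralizer_le h3)

end Fv

end Cfsg.Agent.Omega.NO3S.SFive

end

private theorem dce_2e207b2ce151 : _root_.True := by
  try have : _root_.True := by simp only [_root_.Cfsg.Agent.Omega.FFThm.ConclM.eq_1]
  exact _root_.True.intro
end
end
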