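import Cfsg.Agent.Mrg.Omega.NOThreeL.RRed.Blk.TypesNormN_m3
import Cfsg.Agent.Mrg.Omega.NOThreeL.RRed.Blk.AsmEsB_mg_m3
import Cfsg.Agent.Mrg.Omega.NOThreeL.RZ.TwoC.BadE_m3
import Cfsg.Agent.Omega.EH3.ESix.Prime_m3
import Cfsg.Agent.Mrg.Omega.NOThreeL.RRed.Blk.AsmEEc
import Cfsg.Agent.Mrg.Omega.CaseLQ.YBase_m3
import Cfsg.Agent.Mrg.Omega.NOThreeL.RRed.EOneTr_m3
import Cfsg.Agent.Mrg.Omega.NOThreeL.RRed.Ex.Pf_m3
import Cfsg.Agent.Mrg.Omega.NOThreeL.RRed.Blk.AcNSame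
import Cfsg.Agent.Mrg.Omega.NOThreeL.RRed.Blk.AsmOf_m3
import Cfsg.Agent.FastGrp
import Cfsg.Agent.Prune
set_option linter.all false

section
prune_inst 0x7ffdfefb3ffcfddfffff7ffffef7dffdfdf9ffffffdff9cbffe0e3ff5fdf4b86efe5fba78ff8d2fe1ef7e3b4b4f87b53ffffdf7fea6bdc7ffffd5ff45ffbff9ffdf7bd8951de9cb40fbc2fffe3f07fce7f3fffffffffffffffffffffffffffbeffffffffffff

-- part: Mrg/Omega/NOThreeL/RRed/Blk/UniOf
section
prune_inst 0x48000000000000000010800000004000000000000000008008020000800000008000308000000000000000000000000000000200000000000000000000000020000000000100200000000000000000000000000000000000000000000000000000000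
set_option linter.all false
open scoped Cfsg.Agent.FastGrp

-- merged: Cfsg.Agent.Mrg.Omega.NOThreeL.RRed.Blk.UniSD
section

section


/-!
# NO-3L, box R, nonsplit blocks (#26560, #26972): the input (SD) of `Uni.eq_Z` at group level

`M : NatKM F S P V D k`, `h : Nb M`, `One M U A j`, `A ≤ P ≤ H`, `V ≤ U`, `Q : Nrm H U`.

* `brk_im_eq` : `[Q, im A] = closure (covs U A)`; `brk_one` : `= Y_j`;
* **`sd_of`** : `s ∈ im S` normalises `[V, A]` ⟹ it normalises `D_j`;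
* **`nbd_sd`** : `nbd_of` with (SD);
* `noex_of` : a member of `EE` has no exact proper subgroup `≠ 1` (in `XH Q`).
-/

set_option autoImplicit false
set_option linter.unusedSectionVars false

namespace Cfsg.Agent.Omega.NOThreeL.RRed.Blk.UniSD

open Subgroup Cfsg Cfsg.Agent.ZN
open Cfsg.Agent.Omega.FFThm Cfsg.Agent.Lib.SL2Mat
open Cfsg.Agent.Omega.NO3S.ThmB Cfsg.Agent.Omega.NO3S.KeyRad
open Cfsg.Agent.Omega.NOThreeL.RSplit (Nrm)
open Cfsg.Agent.Omega.NOThreeL.RRed.NS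
open Cfsg.Agent.Omega.NOThreeL.RRed.Blk.TypesNat (XH ph ph_smul XH_faith ph_surj mem_ker)
open Cfsg.Agent.Omega.NOThreeL.RRed.Blk.AsmCore (im mem_im ph_mem_im im_mono brk_im)
open scoped Pointwise

universe u

variable {G : Type u} [Group G] {F : Type} [Field F] {S P V D U H A : Subgroup G} {k : ℕ}

/-- `[Q, im A]` -/
theorem brk_im_eq (Q : Nrm H U) (hA : A ≤ H) : brk Q.Mod (im Q A) = Q.ad (closure (covs U A)) := by
  apply le_antisymm
  · exact brk_im Q fun x hx w hw => subset_closure ⟨x, hx, w, hw, rfl⟩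
  · intro m hm
    have h1 : closure (covs U A) ≤ un Q (brk Q.Mod (im Q A)) := by
      rw [closure_le]
      rintro _ ⟨a, ha, u, hu, rfl⟩
      refine ⟨ph Q ⟨a, hA ha⟩ • Q.of u hu - Q.of u hu,
        AddSubgroup.subset_closure ⟨_, ph_mem_im Q (a := ⟨a, hA ha⟩) ha, _, rfl⟩, ?_⟩
      rw [ph_smul, Nrm.val_sub, Nrm.val_smul]
      rfl
    exact (val_mem_un Q).1 (h1 hm)

variable [Finite G] [Finite F] [CharP F 2] {M : NatKM F S P V D k} (h : Nb M) (hF : 2 < Nat.card F) (Q : Nrm H U)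
  (hPH : P ≤ H) (hVU : V ≤ U) {j : Fin k} (O : Cfsg.Agent.Omega.NO3S.ThmB.One M U A j) (hAP : A ≤ P)
include h hF hPH hVU O hAP

theorem brk_one : brk Q.Mod (im Q A) = Q.ad (YY h j) := by
  obtain ⟨l, g, C⟩ := exists_cd h hF j
  rw [brk_im_eq Q (hAP.trans hPH), YY_eq h C O hAP hVU hF]

/-- **(SD)** -/
theorem sd_of {s : XH Q} (hs : s ∈ im Q S) (hY : ∀ m ∈ brk Q.Mod (im Q A), s • m ∈ brk Q.Mod (im Q A)) :
    ∀ m ∈ Q.ad (DD M j), s • m ∈ Q.ad (DD M j) := by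
  rw [brk_one h hF Q hPH hVU O hAP] at hY
  intro m hm
  obtain ⟨t, ht, rfl⟩ := hs
  have h1 := hY m (Nrm.ad_mono (DD_le_YY h j) hm)
  have h2 : Q.val m ∈ DD M j := hm
  have h3 : (t : G) ∈ P := h.SP' ht
  have h4 := (mem_normalizer_iff.1 (h.DP' h3) _).1 h2.2
  refine Nrm.mem_ad.2 (mem_inf.2 ⟨YY_le h j h1, ?_⟩)
  rw [ph_smul, Nrm.val_smul]
  exact h4

/-- **the block of a natural module, with (SD)** -/
theorem nbd_sd : ∃ p ∈ P, ∃ L : AddSubgroup Q.Mod, L ⊔ Q.ad (DD M j) = Q.ad (YY h j) ∧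
    AsmN.NBd (im Q A) (Q.ad (blk M j)) (Q.ad (centralizer ((A ⊔ MulAut.conj p • A : Subgroup G) : Set G))) L
      (Q.ad (DD M j)) ∧
    ∀ s ∈ im Q S, (∀ m ∈ brk Q.Mod (im Q A), s • m ∈ brk Q.Mod (im Q A)) →
      ∀ m ∈ Q.ad (DD M j), s • m ∈ Q.ad (DD M j) := by
  obtain ⟨p, hp, L, h1, h2⟩ := IsNBDOf.nbd_of h hF Q hPH hVU O hAP
  exact ⟨p, hp, L, h1, h2, fun s hs hY => sd_of h hF Q hPH hVU O hAP hs hY⟩

end Cfsg.Agent.Omega.NOThreeL.RRed.Blk.UniSD

end

section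


/-!
# NO-3L, box R: from a family of natural blocks (`Asm.Fam`) to `DecE.Orbs`

Over helper797's `DecDef` (`su Q W`, `pre Q W`, `Eg FF N D`):

* `Bk.lo_eq` : `lo t = w (up t) w⁻¹`, `w = wt up lo 1`; **`Fam.Eg_tr`** : `Eg FF N D` is transitive on `N D ∖ {0}`;
* **`orbs_of_fam`** : `DecE.Orbs L (su Q (N b)) (pre Q (Eg FF N b)) (su Q (N b) ∖ {1})`;
* **`hdif_of_fam`** : `su Q (N b)` is generated by the quotients of elements of `su Q (N b) ∖ {1}`;
* **`pre_Eg_le`** : `pre Q (Eg FF N D) ≤ T ⊔ (L ⊓ C(U))` for every `T ⊴ L` which covers the members of `FF`;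
* `norm_iSup` : `N_G(S) ≤ N_G(⨆ N' b)` if `N_G(S)` permutes the `N' b`.
-/

set_option autoImplicit false
set_option linter.unusedSectionVars false

namespace Cfsg.Agent.Omega.NOThreeL.RRed.Blk.Asm

open Cfsg.Agent.Omega.NOThreeL.RRed.NS (fxd brk mem_fxd)
open Cfsg.Agent.Omega.NOThreeL.RRed.Blk.TypesGam Cfsg.Agent.Omega.NOThreeL.RRed.Blk.Types
open Cfsg.Agent.Omega.NOThreeL.RRed.Blk.TypesEq

open scoped Pointwise

universe u v w

section mod

variable {X : Type u} {V : Type v} [Group X] [AddCommGroup V] [DistribMulAction X V]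

section bk

variable {F : Type w} [Field F] {e f : F →+ V} {C : AddSubgroup V} {up lo : F → X}

/-- `lo t = w (up t) w⁻¹` -/
theorem bk_lo_eq (h : Bk e f C up lo) (h2 : ∀ v : V, v + v = 0) (hf : ∀ x : X, (∀ v : V, x • v = v) → x = 1) (t : F) :
    lo t = wt up lo 1 * up t * (wt up lo 1)⁻¹ := by
  have he : ∀ z, (wt up lo 1)⁻¹ • e z = f z := fun z => by
    rw [inv_smul_eq_iff, h.wt_f h2 one_ne_zero, one_mul]
  have hff : ∀ z, (wt up lo 1)⁻¹ • f z = e z := fun z => by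
    rw [inv_smul_eq_iff, h.wt_e h2 one_ne_zero, inv_one, one_mul]
  refine h.ext hf (fun z => ?_) (fun z => ?_) fun c hc => ?_
  · rw [mul_smul, mul_smul, he, h.up_f, smul_add, h.wt_f h2 one_ne_zero, h.wt_e h2 one_ne_zero, one_mul, inv_one,
      one_mul, h.lo_e]
  · rw [mul_smul, mul_smul, hff, h.up_e, h.wt_e h2 one_ne_zero, inv_one, one_mul, h.lo_f]
  · have hc' : (wt up lo 1)⁻¹ • c = c := by rw [inv_smul_eq_iff, h.wt_c _ hc]
    rw [mul_smul, mul_smul, hc', h.up_c _ c hc, h.wt_c _ hc, h.lo_c _ c hc]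

/-- `w` normalises the block -/
theorem bk_wt_N (h : Bk e f C up lo) (h2 : ∀ v : V, v + v = 0) (m : V) :
    m ∈ e.range ⊔ f.range ↔ wt up lo 1 • m ∈ e.range ⊔ f.range := by
  have key : ∀ m ∈ e.range ⊔ f.range, wt up lo 1 • m ∈ e.range ⊔ f.range := by
    intro m hm
    obtain ⟨_, ⟨x, rfl⟩, _, ⟨y, rfl⟩, rfl⟩ := AddSubgroup.mem_sup.1 hm
    rw [smul_add, h.wt_e h2 one_ne_zero, h.wt_f h2 one_ne_zero, add_comm]
    exact AddSubgroup.add_mem_sup ⟨_, rfl⟩ ⟨_, rfl⟩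
  refine ⟨key m, fun hm => ?_⟩
  have h1 := key _ hm
  obtain ⟨x, y, c, hc, rfl⟩ := h.dec m
  have e1 : wt up lo 1 • wt up lo 1 • (e x + f y + c) = e x + f y + c := by
    have e3 : wt up lo 1 • (e x + f y + c) = e y + f x + c := by
      rw [smul_add, smul_add, h.wt_e h2 one_ne_zero, h.wt_f h2 one_ne_zero, inv_one, one_mul, one_mul, h.wt_c _ hc]
      abel
    have e4 : wt up lo 1 • (e y + f x + c) = e x + f y + c := by
      rw [smul_add, smul_add, h.wt_e h2 one_ne_zero, h.wt_f h2 one_ne_zero, inv_one, one_mul, one_mul, h.wt_c _ hc]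
      abel
    rw [e3, e4]
  rwa [e1] at h1

/-- every non-zero vector of the block is moved to `f 1` by `⟨up, lo⟩` -/
theorem bk_tr (h : Bk e f C up lo) (h2 : ∀ v : V, v + v = 0) {E : Subgroup X} (hu : ∀ t, up t ∈ E) (hl : ∀ t, lo t ∈ E)
    {m : V} (hm : m ∈ e.range ⊔ f.range) (h0 : m ≠ 0) : ∃ x ∈ E, x • m = f 1 := by
  have two := h.two h2
  have B : ∀ y, y ≠ 0 → ∃ x ∈ E, x • f y = f 1 := by
    intro y hy
    refine ⟨up 1 * lo (y + 1) * up y⁻¹, mul_mem (mul_mem (hu _) (hl _)) (hu _), ?_⟩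
    have e1 : lo (y + 1) • (f y + e 1) = e 1 + f 1 := by
      rw [smul_add, h.lo_f, h.lo_e, mul_one, map_add]
      have e3 : f y + (e 1 + (f y + f 1)) = e 1 + f 1 + (f y + f y) := by abel
      rw [e3, h2, add_zero]
    have e4 : up 1 • (e 1 + f 1) = f 1 := by
      rw [smul_add, h.up_e, h.up_f, mul_one]
      have e3 : e 1 + (f 1 + e 1) = f 1 + (e 1 + e 1) := by abel
      rw [e3, h2, add_zero]
    rw [mul_smul, mul_smul, h.up_f, inv_mul_cancel₀ hy, e1, e4]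
  obtain ⟨_, ⟨x, rfl⟩, _, ⟨y, rfl⟩, rfl⟩ := AddSubgroup.mem_sup.1 hm
  by_cases hy : y = 0
  · subst hy
    have hx : x ≠ 0 := by
      rintro rfl
      apply h0
      rw [map_zero, map_zero, add_zero]
    refine ⟨up x * lo x⁻¹, mul_mem (hu _) (hl _), ?_⟩
    rw [map_zero, add_zero, mul_smul, h.lo_e, inv_mul_cancel₀ hx, smul_add, h.up_e, h.up_f, mul_one]
    have e3 : e x + (f 1 + e x) = f 1 + (e x + e x) := by abel
    rw [e3, h2, add_zero]
  · obtain ⟨g, hg, e1⟩ := B y hy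
    refine ⟨g * up (x * y⁻¹), mul_mem hg (hu _), ?_⟩
    have e3 : up (x * y⁻¹) • (e x + f y) = f y := by
      rw [smul_add, h.up_e, h.up_f, inv_mul_cancel_right₀ hy]
      have e4 : e x + (f y + e x) = f y + (e x + e x) := by abel
      rw [e4, h2, add_zero]
    rw [mul_smul, e3, e1]

end bk

variable {S : Subgroup X} {FF : Set (Subgroup X)} {N C : Subgroup X → AddSubgroup V}

/-- **`Eg FF N D` is transitive on `N D ∖ {0}`.** -/
theorem Fam.Eg_tr (F : Fam S FF N C) (h2 : ∀ v : V, v + v = 0) (hf : ∀ x : X, (∀ v : V, x • v = v) → x = 1)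
    {D : Subgroup X} (hD : D ∈ FF) {m m' : V} (hm : m ∈ N D) (h0 : m ≠ 0) (hm' : m' ∈ N D) (h0' : m' ≠ 0) :
    ∃ x ∈ Eg FF N D, x • m = m' := by
  obtain ⟨K, _, _, e, f, up, lo, hB, hrt, hN⟩ := (F.nb D hD).ex
  have hu : ∀ t, up t ∈ Eg FF N D := fun t => le_Eg hD (hrt ▸ up_mem t)
  have hl : ∀ t, lo t ∈ Eg FF N D := fun t => by
    rw [bk_lo_eq hB h2 hf]
    refine mem_Eg hD (fun m => ?_) (hrt ▸ up_mem t)
    rw [← hN]
    exact bk_wt_N hB h2 m
  rw [← hN] at hm hm'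
  obtain ⟨x, hx, e1⟩ := bk_tr hB h2 hu hl hm h0
  obtain ⟨y, hy, e3⟩ := bk_tr hB h2 hu hl hm' h0'
  exact ⟨y⁻¹ * x, mul_mem (inv_mem hy) hx, by rw [mul_smul, e1, inv_smul_eq_iff, e3]⟩

/-- two different non-zero vectors in a block -/
theorem NB.exists_two {D : Subgroup X} {N C : AddSubgroup V} (h : NB D N C) :
    ∃ a ∈ N, ∃ b ∈ N, a ≠ 0 ∧ b ≠ 0 ∧ a ≠ b := by
  obtain ⟨K, _, _, e, f, up, lo, hB, rfl, rfl⟩ := h.ex
  refine ⟨e 1, AddSubgroup.mem_sup_left ⟨1, rfl⟩, f 1, AddSubgroup.mem_sup_right ⟨1, rfl⟩, ?_, ?_, ?_⟩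
  · intro h0
    exact one_ne_zero (hB.ind 1 0 (by rw [h0, map_zero, add_zero]; exact C.zero_mem)).1
  · intro h0
    exact one_ne_zero (hB.ind 0 1 (by rw [h0, map_zero, add_zero]; exact C.zero_mem)).2
  · intro h0
    have e1 : e 1 + f (-1) ∈ C := by
      rw [map_neg, h0, add_neg_cancel]; exact C.zero_mem
    exact one_ne_zero (hB.ind 1 (-1) e1).1

end mod

section grp

open Cfsg.Agent.Omega.NOThreeL.RSplit (Nrm)
open Cfsg.Agent.Omega.NOThreeL.RRed.Blk.TypesNat (XH ph ph_smul XH_faith ph_eq ph_surj mem_ker)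

variable {G : Type u} [Group G] {L U : Subgroup G} {Q : Nrm L U}

variable {S : Subgroup (XH Q)} {FF : Set (Subgroup (XH Q))} {N C : Subgroup (XH Q) → AddSubgroup Q.Mod}

/-- **`Orbs`** -/
theorem orbs_of_fam [Finite G] (F : Fam S FF N C) (h2 : ∀ m : Q.Mod, m + m = 0) :
    Cfsg.Agent.Omega.NOThreeL.RZ.TwoC.DecE.Orbs L (fun b : FF => su Q (N b.1)) (fun b : FF => pre Q (Eg FF N b.1))
      (fun b : FF => (su Q (N b.1) : Set G) \ {1}) where
  sub b x hx := hx.1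
  one b h1 := h1.2 rfl
  odd b := by
    obtain ⟨a, ha, -, -, ha0, -, -⟩ := (F.nb b.1 b.2).exists_two
    have h1 : 2 ∣ Nat.card (su Q (N b.1)) := by
      let x : su Q (N b.1) := ⟨Q.val a, val_mem_su.2 ha⟩
      have hx1 : x ≠ 1 := fun h => ha0 (Nrm.eq_zero_iff.2 (congrArg Subtype.val h))
      have hx2 : x ^ 2 = 1 := by
        refine Subtype.ext ?_
        change (Q.val a) ^ 2 = 1
        rw [pow_two, ← Nrm.val_add, h2, Nrm.val_zero]
      have h3 := orderOf_eq_prime hx2 hx1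
      rw [← h3]; exact orderOf_dvd_natCard x
    have h3 : Nat.card ↥((su Q (N b.1) : Set G) \ {1}) + 1 = Nat.card (su Q (N b.1)) := by
      have h5 := Set.ncard_sdiff_singleton_add_one (s := (su Q (N b.1) : Set G)) (one_mem (su Q (N b.1)))
        (Set.toFinite _)
      rw [← Nat.card_coe_set_eq, ← Nat.card_coe_set_eq] at h5
      exact h5
    rw [← h3] at h1
    change Odd (Nat.card ↥((su Q (N b.1) : Set G) \ {1}))
    rcases Nat.even_or_odd (Nat.card ↥((su Q (N b.1) : Set G) \ {1})) with h5 | h5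
    · obtain ⟨k, hk⟩ := h5
      omega
    · exact h5
  tr b x hx y hy := by
    obtain ⟨⟨hxU, hx1⟩, hx0⟩ := hx
    obtain ⟨⟨hyU, hy1⟩, hy0⟩ := hy
    obtain ⟨g, hg, e1⟩ := F.Eg_tr h2 (XH_faith Q) b.2 hx1 (fun h => hx0 (Nrm.eq_zero_iff.1 h)) hy1
      (fun h => hy0 (Nrm.eq_zero_iff.1 h))
    obtain ⟨l, rfl⟩ := ph_surj Q g
    refine ⟨l, mem_pre.2 ⟨l.2, hg⟩, ?_⟩
    rw [ph_smul, Nrm.ext_iff, Nrm.val_smul] at e1
    exact e1
  inv g hg b c hbc x hx := by
    refine ⟨?_, fun h1 => hx.2 ?_⟩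
    · have h1 : g * x * g⁻¹ ∈ MulAut.conj g • su Q (N b.1) := by
        rw [mem_cj]
        have e1 : g⁻¹ * (g * x * g⁻¹) * g = x := by group
        rw [e1]; exact hx.1
      rw [hbc] at h1
      exact h1
    · have h3 : g * x * g⁻¹ = 1 := h1
      have e1 : x = g⁻¹ * (g * x * g⁻¹) * g := by group
      change x = 1
      rw [e1, h3]; group

/-- **`hdif`** -/
theorem hdif_of_fam (F : Fam S FF N C) (h2 : ∀ m : Q.Mod, m + m = 0) (b : FF) :
    su Q (N b.1) ≤ Subgroup.closure {g | ∃ x ∈ (su Q (N b.1) : Set G) \ {1}, ∃ y ∈ (su Q (N b.1) : Set G) \ {1},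
      g = y * x⁻¹} := by
  rintro v ⟨hvU, hv⟩
  by_cases h0 : v = 1
  · rw [h0]; exact one_mem _
  obtain ⟨a, ha, a', ha', h1, h3, h5⟩ := (F.nb b.1 b.2).exists_two
  have key : ∃ m ∈ N b.1, m ≠ 0 ∧ m ≠ Q.of v hvU := by
    by_cases h6 : a = Q.of v hvU
    · exact ⟨a', ha', h3, fun h7 => h5 (h6.trans h7.symm)⟩
    · exact ⟨a, ha, h1, h6⟩
  obtain ⟨m, hm, hm0, hmv⟩ := key
  refine Subgroup.subset_closure ⟨Q.val m, ⟨val_mem_su.2 hm, fun h => hm0 (Nrm.eq_zero_iff.2 h)⟩, v * Q.val m,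
    ⟨mul_mem (mem_su.2 ⟨hvU, hv⟩) (val_mem_su.2 hm), fun h => hmv ?_⟩, by group⟩
  have h7 : Q.of v hvU + m = 0 := Nrm.eq_zero_iff.2 h
  have h8 : m = Q.of v hvU + (Q.of v hvU + m) := by rw [← add_assoc, h2, zero_add]
  rw [h8, h7, add_zero]

end grp

section norm

variable {G : Type u} [Group G] {ι : Sort w}

end norm

end Cfsg.Agent.Omega.NOThreeL.RRed.Blk.Asm

end

end

-- merged: Cfsg.Agent.Mrg.Omega.NOThreeL.RRed.Blk.UniOf
section

section


/-!
# NO-3L, box R, nonsplit blocks (#26560, #27472): (UNI) at group level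

`Q : Nrm H U`, `S ≤ H`, no over-offender on `U`.

* `gb1_of`, `psH_of` : from `GBd`, `AcN` to 761's `GB1`, `PsH`;
* `hy_of` : `UniFrame.Hy` for `im Q A₀`, `A₀ ∈ EE S U`;
* **`uni_of`** : `A₀` is the root group of the `j`-th summand of a natural `P ≤ H` (`2 < |F|`), the other members of
  `EE` centralise it ⟹ any two `GBd` with root group `im Q A₀` are equal.
-/

set_option autoImplicit false
set_option linter.unusedSectionVars false

namespace Cfsg.Agent.Omega.NOThreeL.RRed.Blk.UniOf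

open Subgroup Cfsg Cfsg.Agent.ZN
open Cfsg.Agent.Omega.FFThm Cfsg.Agent.Lib.SL2Mat
open Cfsg.Agent.Omega.NO3S.ThmB Cfsg.Agent.Omega.NO3S.KeyRad
open Cfsg.Agent.Omega.NOThreeL.RSplit (Nrm)
open Cfsg.Agent.Omega.NOThreeL.RRed.NS
open Cfsg.Agent.Omega.NOThreeL.RRed.Blk.TypesNat (XH ph XH_faith no_XH imS two_of)
open Cfsg.Agent.Omega.NOThreeL.RRed.Blk.Asm (Es)
open Cfsg.Agent.Omega.NOThreeL.RRed.Blk.AsmCore (EE im)
open Cfsg.Agent.Omega.NOThreeL.RRed.Blk.AsmN (NBd GBd AcN)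
open Cfsg.Agent.Omega.NOThreeL.RRed.Blk.UniFrame (Hy)
open Cfsg.Agent.Omega.NOThreeL.RRed.Blk.Uni (GB1 PsH)
open scoped Pointwise

universe u v

section mod

variable {X : Type u} {V : Type v} [Group X] [AddCommGroup V] [DistribMulAction X V] [Finite X] [Finite V]

theorem gb1_of {EE : Set (Subgroup X)} {A : Subgroup X} (g : ∃ N C L Z : AddSubgroup V, GBd EE A N C L Z) :
    GB1 V EE A := by
  obtain ⟨N, C, L, Z, g⟩ := g
  exact UniZ.GB1.of_GBd g

theorem psH_of {S : Subgroup X} {EE Ps : Set (Subgroup X)}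
    (hPs : ∀ P ∈ Ps, (∀ g ∈ P, ∀ A ∈ EE, MulAut.conj g • A ∈ EE) ∨ ∃ K EP, AcN S EE P K EP V) : PsH V S EE Ps := by
  intro P hP
  rcases hPs P hP with h | ⟨K, EP, h⟩
  · exact Or.inl h
  · refine Or.inr ⟨K, EP, h.gen, h.EPE, h.EPK, h.dich, fun A hA h4 => ?_⟩
    obtain ⟨N, C, L, Z, g, -⟩ := h.gb hA h4
    exact gb1_of ⟨N, C, L, Z, g⟩

end mod

variable {G : Type u} [Group G] [Finite G] {S : Sylow 2 G} {H U A₀ : Subgroup G} (Q : Nrm H U)
  (SH : (S : Subgroup G) ≤ H) (hno : NoOverM U H) (hU2 : IsElementaryAbelian 2 U)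
  (hA₀ : A₀ ∈ EE (S : Subgroup G) U) {Ps : Set (Subgroup (XH Q))}
  (hPs : ∀ P ∈ Ps, (∀ g ∈ P, ∀ A ∈ im Q '' EE (S : Subgroup G) U, MulAut.conj g • A ∈ im Q '' EE (S : Subgroup G) U) ∨
    ∃ K EP, AcN (im Q (S : Subgroup G)) (im Q '' EE (S : Subgroup G) U) P K EP Q.Mod)
  (htop : sSup Ps = ⊤) (h4 : 4 ≤ Nat.card (im Q A₀))
include SH hno hU2 hA₀ hPs htop h4

/-- **the frame hypotheses** -/
theorem hy_of (gb : ∃ N C L Z : AddSubgroup Q.Mod, GBd (im Q '' EE (S : Subgroup G) U) (im Q A₀) N C L Z) :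
    Hy Q.Mod (imS Q S SH) (im Q '' EE (S : Subgroup G) U) (im Q A₀) :=
  UniZ.hy (two_of Q hU2) (fun x hx => XH_faith Q x hx) (no_XH Q hno) (AsmEsB.es_of Q SH hno hU2) (AsmG.EEc Q SH)
    (psH_of hPs) htop ⟨A₀, hA₀, rfl⟩ h4 (gb1_of gb)

/-- **(UNI)**: any block with (SD) is the only one. -/
theorem uni_sd {N C L Z : AddSubgroup Q.Mod} (g : GBd (im Q '' EE (S : Subgroup G) U) (im Q A₀) N C L Z)
    (SD : ∀ s ∈ im Q (S : Subgroup G), (∀ m ∈ brk Q.Mod (im Q A₀), s • m ∈ brk Q.Mod (im Q A₀)) →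
      ∀ m ∈ Z, s • m ∈ Z) {N' C' L' Z' : AddSubgroup Q.Mod}
    (g' : GBd (im Q '' EE (S : Subgroup G) U) (im Q A₀) N' C' L' Z') : N' = N ∧ C' = C ∧ L' = L ∧ Z' = Z :=
  UniAll.uni (hy_of Q SH hno hU2 hA₀ hPs htop h4 ⟨_, _, _, _, g⟩) h4 g g' SD

/-- **(UNI)** at group level -/
theorem uni_of {F : Type} [Field F] [Finite F] [CharP F 2] {P V D : Subgroup G} {k : ℕ}
    {M : NatKM F (S : Subgroup G) P V D k} (h : Nb M) (hF : 2 < Nat.card F) (hPH : P ≤ H) (hVU : V ≤ U) {j : Fin k}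
    (O : Cfsg.Agent.Omega.NO3S.ThmB.One M U A₀ j) (hAP : A₀ ≤ P)
    (oth : ∀ A ∈ im Q '' EE (S : Subgroup G) U, A ≠ im Q A₀ → ∀ a ∈ A, ∀ m ∈ Q.ad (blk M j), a • m = m)
    {N C L Z N' C' L' Z' : AddSubgroup Q.Mod} (g : GBd (im Q '' EE (S : Subgroup G) U) (im Q A₀) N C L Z)
    (g' : GBd (im Q '' EE (S : Subgroup G) U) (im Q A₀) N' C' L' Z') :
    N = N' ∧ C = C' ∧ L = L' ∧ Z = Z' := by
  obtain ⟨p, hp, L₀, h1, h3, SD⟩ := UniSD.nbd_sd h hF Q hPH hVU O hAP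
  have g₀ : GBd (im Q '' EE (S : Subgroup G) U) (im Q A₀) (Q.ad (blk M j))
      (Q.ad (centralizer ((A₀ ⊔ MulAut.conj p • A₀ : Subgroup G) : Set G))) L₀ (Q.ad (DD M j)) := ⟨h3, oth⟩
  obtain ⟨a1, a2, a3, a4⟩ := uni_sd Q SH hno hU2 hA₀ hPs htop h4 g₀ SD g
  obtain ⟨b1, b2, b3, b4⟩ := uni_sd Q SH hno hU2 hA₀ hPs htop h4 g₀ SD g'
  exact ⟨a1.trans b1.symm, a2.trans b2.symm, a3.trans b3.symm, a4.trans b4.symm⟩

end Cfsg.Agent.Omega.NOThreeL.RRed.Blk.UniOf

end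

section


/-!
# NO-3L, box R: the family of nonsplit natural blocks, group level (#26560, #27284)

`M₀ = MZ S`, `H = N_G(M₀)`, `V* = Wd S = zl S M₀`, `Q : Nrm H V*`, `X = XH Q`.

* `exists_norm` : `N_G(L) = L N_G(S)`; `le_norm` : `H ≤ N_G(V*)`;
* `nrm_norm` : `Nrm H V*`;  `no_norm` : no over-offender in `H`;
* `PsN` : the images of the members of `P*(S)` and of `N_H(S)`; `sSup_PsN`, `inact_norm`, `hPs`;
* `RRN` : the root groups of the nonsplit natural blocks;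
* **`famN_of`** : `AsmN.mainN` over `H`.
-/

set_option autoImplicit false
set_option linter.unusedSectionVars false

namespace Cfsg.Agent.Omega.NOThreeL.RRed.Blk.FamOf

open Subgroup Cfsg Cfsg.Agent.ZN Cfsg.Agent.Omega.MinPar
open Cfsg.Agent.Omega.FFThm
open Cfsg.Agent.Omega.FrameFF (cv)
open Cfsg.Agent.Omega.NO3S.ThmB Cfsg.Agent.Omega.NO3S.KeyRad
open Cfsg.Agent.Omega.NOThreeL.Merge (MZ le_MZ isLoc_MZ)
open Cfsg.Agent.Omega.NOThreeL.RSplit (Nrm)
open Cfsg.Agent.Omega.NOThreeL.RRed.NS (fxd brk mem_fxd conj_eq_cj DD DD_le_YY)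
open Cfsg.Agent.Omega.NOThreeL.RRed.Blk.TypesNat (XH ph ph_smul XH_faith ph_eq ph_surj no_XH)
open Cfsg.Agent.Omega.NOThreeL.RRed.Blk.TypesGam (NO)
open Cfsg.Agent.Omega.NOThreeL.RRed.Blk.Asm (Es St mem_St FFs le_FFs)
open Cfsg.Agent.Omega.NOThreeL.RRed.Blk.AsmCore (im mem_im ph_mem_im im_mono im_cj im_le_of EP KP)
open Cfsg.Agent.Omega.NOThreeL.RRed.Blk.AsmN

open scoped Pointwise

universe u

variable {G : Type u} [Group G] [Finite G] {S : Sylow 2 G}

/-- **Frattini** -/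
theorem exists_norm {L : Subgroup G} (hSL : (S : Subgroup G) ≤ L) {h : G} (hh : h ∈ normalizer (L : Set G)) :
    ∃ m ∈ L, m⁻¹ * h ∈ normalizer ((S : Subgroup G) : Set G) := by
  have h1 : MulAut.conj h • (S : Subgroup G) ≤ L := by
    intro x hx
    have h3 := (mem_normalizer_iff.1 hh (h⁻¹ * x * h)).1 (hSL (NS.mem_conj.1 hx))
    have e : h * (h⁻¹ * x * h) * h⁻¹ = x := by group
    rwa [e] at h3
  have h2 : IsPGroup 2 ↥(MulAut.conj h • (S : Subgroup G)) :=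
    S.isPGroup'.of_equiv (Subgroup.equivSMul (MulAut.conj h) (S : Subgroup G))
  obtain ⟨m, hm, h3⟩ := NS.exists_conj_le S hSL h2 h1
  refine ⟨m, hm, ?_⟩
  have h4 : MulAut.conj (m⁻¹ * h) • (S : Subgroup G) ≤ (S : Subgroup G) := by
    rw [map_mul, mul_smul]
    intro x hx
    have h5 := h3 (NS.mem_conj.1 hx)
    have h6 := NS.mem_conj.1 h5
    have e : m⁻¹ * (m⁻¹⁻¹ * x * m⁻¹) * m = x := by group
    rwa [e] at h6
  rw [conj_eq_cj] at h4
  exact ChoiceBase.mem_normalizer_of_cj_le h4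

theorem le_norm (hSM : (S : Subgroup G) ≤ MZ (S : Subgroup G)) :
    normalizer (MZ (S : Subgroup G) : Set G) ≤ normalizer (zl (S : Subgroup G) (MZ (S : Subgroup G)) : Set G) := by
  intro h hh
  obtain ⟨m, hm, h1⟩ := exists_norm hSM hh
  have h2 : m ∈ normalizer (zl (S : Subgroup G) (MZ (S : Subgroup G)) : Set G) := le_normalizer_zl _ _ hm
  have h3 : m⁻¹ * h ∈ normalizer (zl (S : Subgroup G) (MZ (S : Subgroup G)) : Set G) :=
    CI.norm_zl h1 (CI.norm_MZ h1)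
  have h4 := mul_mem h2 h3
  rwa [mul_inv_cancel_left] at h4

theorem nrm_norm (hSM : (S : Subgroup G) ≤ MZ (S : Subgroup G))
    (hE : IsElementaryAbelian 2 (zl (S : Subgroup G) (MZ (S : Subgroup G)))) :
    Nrm (normalizer (MZ (S : Subgroup G) : Set G)) (zl (S : Subgroup G) (MZ (S : Subgroup G))) where
  ab u hu v hv := congrArg Subtype.val (hE.1.is_comm.comm ⟨u, hu⟩ ⟨v, hv⟩)
  nrm := le_norm hSM

/-- no over-offender in `N_G(M₀)` -/
theorem no_norm (hSM : (S : Subgroup G) ≤ MZ (S : Subgroup G))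
    (no : NoOverM (zl (S : Subgroup G) (MZ (S : Subgroup G))) (MZ (S : Subgroup G))) :
    NoOverM (zl (S : Subgroup G) (MZ (S : Subgroup G))) (normalizer (MZ (S : Subgroup G) : Set G)) := by
  intro D hD hE
  have hHV := le_norm hSM
  have hSH : (S : Subgroup G) ≤ normalizer (MZ (S : Subgroup G) : Set G) := hSM.trans le_normalizer
  rw [← VF.fM_le_iff]
  obtain ⟨B, hB, hB2, h⟩ := VF.exists_two (hD.trans hHV) hE
  obtain ⟨m, hm, h1⟩ := NS.exists_conj_le S hSH hB2 (hB.trans hD)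
  have h3 : MulAut.conj m⁻¹ • B ≤ (S : Subgroup G) := by
    intro x hx
    have h4 := NS.mem_conj.1 (h1 (NS.mem_conj.1 hx))
    have e : m⁻¹ * (m⁻¹⁻¹ * x * m⁻¹) * m = x := by group
    rwa [e] at h4
  rw [conj_eq_cj] at h3
  have hm' : m⁻¹ ∈ normalizer (zl (S : Subgroup G) (MZ (S : Subgroup G)) : Set G) := inv_mem (hHV hm)
  rw [← VF.fM_congr hB h, ← (VF.fM_cj (A := B) hm').1, VF.fM_le_iff]
  exact no _ (h3.trans hSM) (VF.elemM_cj hm' (VF.elemM_mono hE hB))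

section fam

variable {U : Subgroup G} (Q : Nrm (normalizer (MZ (S : Subgroup G) : Set G)) U)

/-- the images of the members of `P*(S)` and of `N_H(S)` -/
def PsN : Set (Subgroup (XH Q)) :=
  {K | (∃ P, IsParS (S : Subgroup G) P ∧ K = im Q P) ∨ K = im Q (normalizer ((S : Subgroup G) : Set G))}

theorem sSup_PsN (hSM : (S : Subgroup G) ≤ MZ (S : Subgroup G)) : sSup (PsN Q) = ⊤ := by
  rw [eq_top_iff]
  rintro x -
  obtain ⟨g, rfl⟩ := ph_surj Q x
  obtain ⟨m, hm, h1⟩ := exists_norm hSM g.2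
  have hMH : MZ (S : Subgroup G) ≤ normalizer (MZ (S : Subgroup G) : Set G) := le_normalizer
  have h2 : im Q (MZ (S : Subgroup G)) ≤ sSup (PsN Q) := by
    apply im_le_of
    refine sSup_le ?_
    intro P hP p hp
    have hPL : P ≤ MZ (S : Subgroup G) := le_MZ hP
    refine ⟨⟨p, hMH (hPL hp)⟩, ?_, rfl⟩
    rw [SetLike.mem_coe, mem_comap]
    exact (le_sSup (show im Q P ∈ PsN Q from Or.inl ⟨P, hP, rfl⟩)) (ph_mem_im Q hp)
  have h3 : im Q (normalizer ((S : Subgroup G) : Set G)) ≤ sSup (PsN Q) := le_sSup (Or.inr rfl)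
  have h4 : g = (⟨m, hMH hm⟩ : normalizer (MZ (S : Subgroup G) : Set G)) *
      ((⟨m, hMH hm⟩ : normalizer (MZ (S : Subgroup G) : Set G))⁻¹ * g) := by group
  rw [h4, map_mul]
  exact mul_mem (h2 (ph_mem_im Q hm)) (h3 (ph_mem_im Q h1))

/-- `N_H(S)` normalises the image of `EE` -/
theorem inact_norm : ∀ g ∈ im Q (normalizer ((S : Subgroup G) : Set G)), ∀ A ∈ im Q '' AsmCore.EE (S : Subgroup G) U,
    MulAut.conj g • A ∈ im Q '' AsmCore.EE (S : Subgroup G) U := by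
  rintro _ ⟨a, ha, rfl⟩ _ ⟨A, hA, rfl⟩
  have ha' : (a : G) ∈ normalizer ((S : Subgroup G) : Set G) := ha
  refine ⟨MulAut.conj (a : G) • A, ⟨?_, ?_⟩, im_cj Q a⟩
  · intro x hx
    have h3 := (mem_normalizer_iff.1 ha' _).1 (hA.1 (NS.mem_conj.1 hx))
    have e : (a : G) * ((a : G)⁻¹ * x * (a : G)) * (a : G)⁻¹ = x := by group
    rwa [e] at h3
  · rw [conj_eq_cj]
    exact CI.mx_conj hA.2 (Q.nrm a.2)

theorem hPs (hc : IsCharacteristicTwoType G)
    (hAc : ∀ P, IsParS (S : Subgroup G) P → (EP (S : Subgroup G) P U).Nonempty →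
      AcN (im Q (S : Subgroup G)) (im Q '' AsmCore.EE (S : Subgroup G) U) (im Q P) (im Q (KP (S : Subgroup G) P U))
        (im Q '' EP (S : Subgroup G) P U) Q.Mod) :
    ∀ P ∈ PsN Q, (∀ g ∈ P, ∀ A ∈ im Q '' AsmCore.EE (S : Subgroup G) U, MulAut.conj g • A ∈
      im Q '' AsmCore.EE (S : Subgroup G) U) ∨
    ∃ K EP, AcN (im Q (S : Subgroup G)) (im Q '' AsmCore.EE (S : Subgroup G) U) P K EP Q.Mod := by
  rintro _ (⟨P, hP, rfl⟩ | rfl)
  · by_cases hne : (EP (S : Subgroup G) P U).Nonempty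
    · exact Or.inr ⟨_, _, hAc P hP hne⟩
    · exact Or.inl (AsmG.inact hc Q hP hne)
  · exact Or.inl (inact_norm Q)

/-- **the family** for any set of root groups -/
theorem fam_of (hc : IsCharacteristicTwoType G) (hSM : (S : Subgroup G) ≤ MZ (S : Subgroup G))
    (no : NoOverM U (normalizer (MZ (S : Subgroup G) : Set G))) (hU2 : IsElementaryAbelian 2 U)
    (hAc : ∀ P, IsParS (S : Subgroup G) P → (EP (S : Subgroup G) P U).Nonempty →
      AcN (im Q (S : Subgroup G)) (im Q '' AsmCore.EE (S : Subgroup G) U) (im Q P) (im Q (KP (S : Subgroup G) P U))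
        (im Q '' EP (S : Subgroup G) P U) Q.Mod) {RR : Set (Subgroup (XH Q))}
    (hR : ∀ D ∈ RR, 4 ≤ Nat.card D ∧ ∃ P, IsParS (S : Subgroup G) P ∧ ∃ A ∈ EP (S : Subgroup G) P U, D = im Q A)
    (uni : ∀ A ∈ RR, ∀ N C L Z N' C' L' Z' : AddSubgroup Q.Mod, GBd (im Q '' AsmCore.EE (S : Subgroup G) U) A N C L Z →
      GBd (im Q '' AsmCore.EE (S : Subgroup G) U) A N' C' L' Z' → N = N' ∧ C = C' ∧ L = L' ∧ Z = Z') :
    ∃ N C L Z : Subgroup (XH Q) → AddSubgroup Q.Mod,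
      FamN (im Q (S : Subgroup G)) (im Q '' AsmCore.EE (S : Subgroup G) U)
        (FFs (im Q '' AsmCore.EE (S : Subgroup G) U) RR) N C L Z :=
  mainN (TypesNat.two_of Q hU2) (fun x hx => XH_faith Q x hx) (no_XH Q no)
    (AsmEsB.es_of Q (hSM.trans le_normalizer) no hU2) (hPs Q hc hAc) (sSup_PsN Q hSM)
    (fun D hD => by
      obtain ⟨-, P, -, A, hA, rfl⟩ := hR D hD
      exact ⟨A, hA.1, rfl⟩)
    (fun D hD => (hR D hD).1)
    (fun D hD => by
      obtain ⟨h4, P, hP, A, hA, rfl⟩ := hR D hD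
      obtain ⟨N, C, L, Z, h, -⟩ := (hAc P hP ⟨A, hA⟩).gb ⟨A, hA, rfl⟩ h4
      exact ⟨N, C, L, Z, h⟩)
    uni

/-- `D` is the root group of the natural block `j` of `P ∈ P*(S)`, `Z = [N_j, O²(P)]`-radical -/
def IsRt (U : Subgroup G) (D : Subgroup (XH Q)) (N Z : AddSubgroup Q.Mod) : Prop :=
  ∃ (P : Subgroup G) (_ : IsParS (S : Subgroup G) P) (F : Type) (_ : Field F) (_ : Finite F) (_ : CharP F 2) (k : ℕ)
    (M : NatKM F (S : Subgroup G) P (zl (S : Subgroup G) P) (cv (S : Subgroup G) P) k) (A : Subgroup G) (j : Fin k),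
    4 ≤ Nat.card F ∧ A ∈ EP (S : Subgroup G) P U ∧ D = im Q A ∧ NO3S.ThmB.One M U A j ∧
      N = Q.ad (blk M j) ∧ Z = Q.ad (DD M j)

/-- the root groups of the nonsplit natural blocks -/
def RRN (U : Subgroup G) (Q : Nrm (normalizer (MZ (S : Subgroup G) : Set G)) U) : Set (Subgroup (XH Q)) :=
  {D | ∃ N Z, IsRt Q U D N Z ∧ Z ≠ ⊥}

end fam

/-- the inputs (helper263's `acN_of`, `typ_nat`) -/
structure InN (S : Sylow 2 G) {U : Subgroup G} (Q : Nrm (normalizer (MZ (S : Subgroup G) : Set G)) U) : Prop where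
  ac : ∀ P, IsParS (S : Subgroup G) P → (EP (S : Subgroup G) P U).Nonempty →
    AcN (im Q (S : Subgroup G)) (im Q '' AsmCore.EE (S : Subgroup G) U) (im Q P) (im Q (KP (S : Subgroup G) P U))
      (im Q '' EP (S : Subgroup G) P U) Q.Mod
  oth : ∀ D N Z, IsRt Q U D N Z → ∀ A ∈ im Q '' AsmCore.EE (S : Subgroup G) U, A ≠ D → ∀ a ∈ A, ∀ m ∈ N, a • m = m

section box

variable (hc : IsCharacteristicTwoType G) (hL : IsLoc (S : Subgroup G) (MZ (S : Subgroup G)))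
  (no : NoOverM (zl (S : Subgroup G) (MZ (S : Subgroup G))) (MZ (S : Subgroup G)))
  (Q : Nrm (normalizer (MZ (S : Subgroup G) : Set G)) (zl (S : Subgroup G) (MZ (S : Subgroup G))))
  (I : InN S Q)
include hc hL no I

/-- the root group, the block and the radical determine a `GBd` -/
theorem gbd_of {D : Subgroup (XH Q)} {N Z : AddSubgroup Q.Mod}
    (h : IsRt Q (zl (S : Subgroup G) (MZ (S : Subgroup G))) D N Z) :
    4 ≤ Nat.card D ∧ (∃ C L, GBd (im Q '' AsmCore.EE (S : Subgroup G) (zl (S : Subgroup G) (MZ (S : Subgroup G)))) D N C L Z) ∧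
      ∀ N₁ C₁ L₁ Z₁ N₂ C₂ L₂ Z₂ : AddSubgroup Q.Mod,
        GBd (im Q '' AsmCore.EE (S : Subgroup G) (zl (S : Subgroup G) (MZ (S : Subgroup G)))) D N₁ C₁ L₁ Z₁ →
        GBd (im Q '' AsmCore.EE (S : Subgroup G) (zl (S : Subgroup G) (MZ (S : Subgroup G)))) D N₂ C₂ L₂ Z₂ →
          N₁ = N₂ ∧ C₁ = C₂ ∧ L₁ = L₂ ∧ Z₁ = Z₂ := by
  have hoth := I.oth D N Z h
  obtain ⟨P, hP, F, i1, i2, i3, k, M, A, j, hF, hA, rfl, O, rfl, rfl⟩ := h
  have hU2 := FFThm.elem_zl hc S hL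
  have hnb := Inst.nb hc hP M
  have hPM := le_MZ hP
  have hPH : P ≤ normalizer (MZ (S : Subgroup G) : Set G) := hPM.trans le_normalizer
  have hVU : zl (S : Subgroup G) P ≤ zl (S : Subgroup G) (MZ (S : Subgroup G)) := NOThreeL.Star.zl_mono _ hPM
  have hAP : A ≤ P := hA.1.1.trans hP.le
  have hF2 : 2 < Nat.card F := by omega
  have h4 : 4 ≤ Nat.card (im Q A) := by
    obtain ⟨p, hp, R, -, h2⟩ := IsNBDOf.isNBD_of hnb hF2 Q hPH hVU O hAP
    exact h2.card4 hU2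
  obtain ⟨p, hp, L, -, h1⟩ := IsNBDOf.nbd_of hnb hF2 Q hPH hVU O hAP
  refine ⟨h4, ⟨_, L, h1, hoth⟩, fun N₁ C₁ L₁ Z₁ N₂ C₂ L₂ Z₂ g₁ g₂ => ?_⟩
  exact UniOf.uni_of Q (hL.le.trans le_normalizer) (no_norm hL.le no) hU2 hA.1 (hPs Q hc I.ac) (sSup_PsN Q hL.le) h4
    hnb hF2 hPH hVU O hAP hoth g₁ g₂

/-- **The family of the nonsplit natural blocks**, with the radicals of the members of `RRN`. -/
theorem famN_of : ∃ N C L Z : Subgroup (XH Q) → AddSubgroup Q.Mod,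
    FamN (im Q (S : Subgroup G)) (im Q '' AsmCore.EE (S : Subgroup G) (zl (S : Subgroup G) (MZ (S : Subgroup G))))
      (FFs (im Q '' AsmCore.EE (S : Subgroup G) (zl (S : Subgroup G) (MZ (S : Subgroup G))))
        (RRN (zl (S : Subgroup G) (MZ (S : Subgroup G))) Q)) N C L Z ∧
      (∀ D N₁ Z₁, IsRt Q (zl (S : Subgroup G) (MZ (S : Subgroup G))) D N₁ Z₁ → Z₁ ≠ ⊥ → N D = N₁ ∧ Z D = Z₁) ∧
      ∀ D ∈ FFs (im Q '' AsmCore.EE (S : Subgroup G) (zl (S : Subgroup G) (MZ (S : Subgroup G))))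
        (RRN (zl (S : Subgroup G) (MZ (S : Subgroup G))) Q), Z D ≠ ⊥ := by
  have hU2 := FFThm.elem_zl hc S hL
  obtain ⟨N, C, L, Z, F⟩ := fam_of Q hc hL.le (no_norm hL.le no) hU2 I.ac
    (RR := RRN (zl (S : Subgroup G) (MZ (S : Subgroup G))) Q) (fun D hD => by
      obtain ⟨N, Z, h, -⟩ := hD
      refine ⟨(gbd_of hc hL no Q I h).1, ?_⟩
      obtain ⟨P, hP, F, i1, i2, i3, k, M, A, j, hF, hA, h1, -⟩ := h
      exact ⟨P, hP, A, hA, h1⟩) (fun D hD => by
      obtain ⟨N, Z, h, -⟩ := hD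
      exact (gbd_of hc hL no Q I h).2.2)
  have key : ∀ D N₁ Z₁, IsRt Q (zl (S : Subgroup G) (MZ (S : Subgroup G))) D N₁ Z₁ → Z₁ ≠ ⊥ → N D = N₁ ∧ Z D = Z₁ := by
    intro D N₁ Z₁ h hne
    obtain ⟨-, ⟨C₁, L₁, g⟩, -⟩ := gbd_of hc hL no Q I h
    obtain ⟨a, -, -, b⟩ := F.uniq D (le_FFs ⟨N₁, Z₁, h, hne⟩) _ _ _ _ g
    exact ⟨a.symm, b.symm⟩
  refine ⟨N, C, L, Z, F, key, ?_⟩
  rintro _ ⟨g, hg, D, hD, rfl⟩ h0
  have h1 := (F.st g hg D (le_FFs hD)).2.2.2.2
  obtain ⟨N₁, Z₁, h, hne⟩ := hD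
  have h3 := (key D N₁ Z₁ h hne).2
  apply hne
  rw [← h3, eq_bot_iff]
  intro m hm
  have h4 := (h1 m).1 hm
  rw [h0, AddSubgroup.mem_bot] at h4
  rw [AddSubgroup.mem_bot]
  exact (smul_eq_zero_iff_eq g).1 h4

/-- a nonsplit natural `P` gives a member of `RRN` -/
theorem exists_RRN {P : Subgroup G} (hP : IsParS (S : Subgroup G) P)
    (ne : (EP (S : Subgroup G) P (zl (S : Subgroup G) (MZ (S : Subgroup G)))).Nonempty) {F : Type} [Field F] [Finite F]
    [CharP F 2] {k : ℕ} (M : NatKM F (S : Subgroup G) P (zl (S : Subgroup G) P) (cv (S : Subgroup G) P) k)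
    (hF : 4 ≤ Nat.card F) (hns : (⨆ j, blk M j) ⊓ cv (S : Subgroup G) P ≠ ⊥) :
    ∃ D, D ∈ RRN (zl (S : Subgroup G) (MZ (S : Subgroup G))) Q := by
  have h := Inst.nb hc hP M
  obtain ⟨x, hx⟩ := Subgroup.ne_bot_iff_exists_ne_one.1 hns
  have hx1 : (x : G) ≠ 1 := fun e => hx (Subtype.ext e)
  obtain ⟨b, y, hy, hy1, -⟩ := NS.exists_comp h (NS.iSup_DD h x.2.1 x.2.2) hx1
  obtain ⟨A, hA, O⟩ := AsmAct.exists_EP hc hL hP (le_MZ hP) no M ne b
  refine ⟨im Q A, _, _, ⟨P, hP, F, inferInstance, inferInstance, inferInstance, k, M, A, b, hF, hA, rfl, O, rfl, rfl⟩,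
    fun h0 => ?_⟩
  have hyU : y ∈ zl (S : Subgroup G) (MZ (S : Subgroup G)) :=
    NOThreeL.Star.zl_mono _ (le_MZ hP) (blk_le h b hy.1)
  have h1 : Q.of y hyU ∈ Q.ad (DD M b) := hy
  rw [h0, AddSubgroup.mem_bot] at h1
  exact hy1 (congrArg Q.val h1)

end box

end Cfsg.Agent.Omega.NOThreeL.RRed.Blk.FamOf

end

section


/-!
# NO-3L, box R: the group `⟨T D^s : s ∈ S⟩ S` of a family of natural blocks

`TSys S FF N C T` : a family of natural blocks with groups `T D = clo up lo ≅ SL₂(F)`, permuted by `S`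
(for `|F| = 4` the stabiliser of the block may induce `A₇`).  `O = Orb S D` the `S`-conjugates of `D`, `KO = ⟨T D' : D' ∈ O⟩`,
`HO = KO S`.

* `mem_HO` : `x ∈ HO` iff `x = k s`;
* `T_fix` : `x ∈ T D` maps one vector `≠ 0` fixed by `D` to a vector fixed by `D`: `x` normalises `D`;
* `comm_KO` : `KO` centralises the root groups `B ∉ O`;
* **`exists_mv`** : some `x ∈ HO` moves `D` out of `FF`;
* **`stab`** : `x ∈ HO`, `z` and `x z` are fixed by `S`, `z ∉ C D`: `x` permutes `FF`;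
* **`two_of_triv`** : `x ∈ HO` which is trivial on the blocks of `O` is a 2-element.
-/

set_option autoImplicit false
set_option linter.unusedSectionVars false

namespace Cfsg.Agent.Omega.NOThreeL.RRed.Blk.MvH

open Cfsg.Agent.Omega.NOThreeL.RRed.NS (fxd brk mem_fxd)
open Cfsg.Agent.Omega.NOThreeL.RRed.Blk.TypesGam
open Cfsg.Agent.Omega.NOThreeL.RRed.Blk.TypesClo
open Cfsg.Agent.Omega.NOThreeL.RRed.Blk.Types (mem_cj)
open Cfsg.Agent.Omega.NOThreeL.RRed.Blk.Asm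
open Cfsg.Agent.Omega.NOThreeL.RRed.Blk.AsmT
open Cfsg.Agent.Omega.NOThreeL.RRed.Blk.AsmSL
open scoped Pointwise

universe u v

variable {X : Type u} {V : Type v} [Group X] [AddCommGroup V] [DistribMulAction X V]

/-- A family of natural blocks with groups `T D ≅ SL₂(F)` permuted by `S`. -/
structure TSys (S : Subgroup X) (FF : Set (Subgroup X)) (N C : Subgroup X → AddSubgroup V)
    (T : Subgroup X → Subgroup X) : Prop where
  fam : Fam S FF N C
  nbt : ∀ D ∈ FF, NBT D (T D) (N D) (C D)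
  TS : ∀ s ∈ S, ∀ D ∈ FF, MulAut.conj s • T D = T (MulAut.conj s • D)
  CS : ∀ s ∈ S, ∀ D ∈ FF, ∀ m : V, m ∈ C D ↔ s • m ∈ C (MulAut.conj s • D)

/-- the `S`-conjugates of `D` -/
def Orb (S D : Subgroup X) : Set (Subgroup X) := {D' | ∃ s ∈ S, D' = MulAut.conj s • D}

/-- `⟨T D' : D' ∈ Orb S D⟩` -/
def KO (S : Subgroup X) (T : Subgroup X → Subgroup X) (D : Subgroup X) : Subgroup X := ⨆ D' : Orb S D, T D'

/-- `KO S` -/
def HO (S : Subgroup X) (T : Subgroup X → Subgroup X) (D : Subgroup X) : Subgroup X := KO S T D ⊔ S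

theorem mem_Orb_self (S D : Subgroup X) : D ∈ Orb S D := ⟨1, one_mem _, by rw [map_one, one_smul]⟩

theorem Orb_smul {S D D' : Subgroup X} {s : X} (hs : s ∈ S) (h : D' ∈ Orb S D) : MulAut.conj s • D' ∈ Orb S D := by
  obtain ⟨t, ht, rfl⟩ := h
  exact ⟨s * t, mul_mem hs ht, by rw [map_mul, mul_smul]⟩

theorem T_le_KO {S D D' : Subgroup X} {T : Subgroup X → Subgroup X} (h : D' ∈ Orb S D) : T D' ≤ KO S T D :=
  le_iSup (fun D' : Orb S D => T D') ⟨D', h⟩

theorem KO_le_HO {S D : Subgroup X} {T : Subgroup X → Subgroup X} : KO S T D ≤ HO S T D := le_sup_left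

theorem S_le_HO {S D : Subgroup X} {T : Subgroup X → Subgroup X} : S ≤ HO S T D := le_sup_right

/-! ### one block -/

/-- **`T_fix`** -/
theorem T_fix [Finite X] (hf : ∀ x : X, (∀ v : V, x • v = v) → x = 1) {D T : Subgroup X} {N C : AddSubgroup V}
    (h : NBT D T N C) {x : X} (hx : x ∈ T) {v : V} (hv : v ∈ N) (hv0 : v ≠ 0) (h1 : ∀ d ∈ D, d • v = v)
    (h2 : ∀ d ∈ D, d • x • v = x • v) : MulAut.conj x • D = D := by
  obtain ⟨F, i1, i2, e, f, up, lo, b1, rfl, rfl, rfl⟩ := h.ex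
  obtain ⟨B, hB⟩ := sla_of_clo b1 hx
  -- fixed vectors are in `e(F)`
  have hfix : ∀ a b : F, (∀ d ∈ rt up, d • (e a + f b) = e a + f b) → b = 0 := by
    intro a b hd
    have h3 := hd _ (up_mem 1)
    rw [smul_add, b1.up_e, b1.up_f, one_mul] at h3
    have h4 : e a + (f b + e b) = e (a + b) + f b := by rw [map_add]; abel
    rw [h4] at h3
    have h5 := (vec_uniq b1 h3).1
    exact add_eq_left.1 h5
  obtain ⟨_, ⟨a, rfl⟩, _, ⟨b, rfl⟩, rfl⟩ := AddSubgroup.mem_sup.1 hv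
  have hb := hfix a b h1
  subst hb
  have ha : a ≠ 0 := by
    rintro rfl
    exact hv0 (by rw [map_zero, map_zero, add_zero])
  have hact := hB.act ![a, 0]
  simp only [Matrix.cons_val_zero, Matrix.cons_val_one] at hact
  rw [hact] at h2
  have h3 := hfix _ _ h2
  have h10 : B.1 1 0 = 0 := by
    simp only [Matrix.mulVec, dotProduct, Fin.sum_univ_two, Matrix.cons_val_zero, Matrix.cons_val_one, mul_zero,
      add_zero] at h3
    exact (mul_eq_zero.1 h3).resolve_right ha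
  have hdet : B.1 0 0 * B.1 1 1 = 1 := by
    have := B.2
    rw [Matrix.det_fin_two, h10, mul_zero, sub_zero] at this
    exact this
  have xe : ∀ z, x • e z = e (B.1 0 0 * z) := by
    intro z
    have := hB.act ![z, 0]
    simp only [Matrix.mulVec, dotProduct, Fin.sum_univ_two, Matrix.cons_val_zero, Matrix.cons_val_one, mul_zero,
      add_zero, h10, zero_mul, map_zero] at this
    exact this
  have xf : ∀ z, x • f z = e (B.1 0 1 * z) + f (B.1 1 1 * z) := by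
    intro z
    have := hB.act ![0, z]
    simp only [Matrix.mulVec, dotProduct, Fin.sum_univ_two, Matrix.cons_val_zero, Matrix.cons_val_one, mul_zero,
      zero_add, map_zero] at this
    exact this
  have key : ∀ t, x * up t * x⁻¹ = up (B.1 0 0 * B.1 0 0 * t) := by
    intro t
    have ye : ∀ z, x⁻¹ • e z = e (B.1 1 1 * z) := by
      intro z
      rw [inv_smul_eq_iff, xe, ← mul_assoc, hdet, one_mul]
    have yf : ∀ z, x⁻¹ • f z = f (B.1 0 0 * z) - e (B.1 0 1 * z) := by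
      intro z
      rw [inv_smul_eq_iff, smul_sub, xf, xe]
      have e1 : B.1 1 1 * (B.1 0 0 * z) = z := by rw [← mul_assoc, mul_comm (B.1 1 1), hdet, one_mul]
      have e2 : B.1 0 1 * (B.1 0 0 * z) = B.1 0 0 * (B.1 0 1 * z) := by ring
      rw [e1, e2]; abel
    refine b1.ext hf (fun z => ?_) (fun z => ?_) fun c hc => ?_
    · rw [mul_smul, mul_smul, ye, b1.up_e, b1.up_e, xe, ← mul_assoc, hdet, one_mul]
    · rw [mul_smul, mul_smul, yf, smul_sub, b1.up_e, b1.up_f, smul_sub, smul_add, xf, xe, xe, b1.up_f]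
      have e1 : B.1 1 1 * (B.1 0 0 * z) = z := by rw [← mul_assoc, mul_comm (B.1 1 1), hdet, one_mul]
      have e2 : B.1 0 1 * (B.1 0 0 * z) = B.1 0 0 * (B.1 0 1 * z) := by ring
      have e3 : B.1 0 0 * (t * (B.1 0 0 * z)) = B.1 0 0 * B.1 0 0 * t * z := by ring
      rw [e1, e2, e3]; abel
    · have hc' : x⁻¹ • c = c := by rw [inv_smul_eq_iff, hB.triv c hc]
      rw [mul_smul, mul_smul, hc', b1.up_c t c hc, hB.triv c hc, b1.up_c _ c hc]
  have hle : MulAut.conj x • rt up ≤ rt up := by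
    rw [← TypesEq.rt_conj, rt, Subgroup.closure_le]
    rintro _ ⟨t, rfl⟩
    dsimp only
    rw [key t]
    exact up_mem _
  exact Subgroup.eq_of_le_of_card_ge hle (by rw [Types.card_cj])

/-- `T D` does not normalise `D` -/
theorem T_move {D T : Subgroup X} {N C : AddSubgroup V} (h : NBT D T N C) : ∃ x ∈ T, MulAut.conj x • D ≠ D := by
  obtain ⟨F, i1, i2, e, f, up, lo, b1, rfl, rfl, rfl⟩ := h.ex
  refine ⟨lo 1, lo_mem_clo up lo 1, fun h1 => ?_⟩
  have h3 : lo 1 * up 1 * (lo 1)⁻¹ ∈ rt up := by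
    rw [← h1]
    exact ⟨up 1, up_mem 1, rfl⟩
  have h4 : ∀ y ∈ rt up, y • e 1 = e 1 := by
    intro y hy
    have h5 : rt up ≤ MulAction.stabilizer X (e 1) := by
      refine (Subgroup.closure_le _).2 ?_
      rintro _ ⟨t, rfl⟩
      exact MulAction.mem_stabilizer_iff.2 (b1.up_e t 1)
    exact MulAction.mem_stabilizer_iff.1 (h5 hy)
  have h5 := h4 _ h3
  have h6 : (lo 1)⁻¹ • e 1 = e 1 - f 1 := by
    rw [inv_smul_eq_iff, smul_sub, b1.lo_e, b1.lo_f, mul_one]; abel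
  rw [mul_smul, mul_smul, h6, smul_sub, b1.up_e, b1.up_f, mul_one] at h5
  have h7 : e 1 - (f 1 + e 1) = -f 1 := by abel
  rw [h7, smul_neg, b1.lo_f] at h5
  have h8 : e 1 + f 1 = 0 := by rw [← h5]; abel
  exact one_ne_zero (b1.ind 1 1 (by rw [h8]; exact C.zero_mem)).1

/-- `T D` permutes the elements of a block which `D` centralises trivially -/
theorem NBT.oth {D T : Subgroup X} {N C C' : AddSubgroup V} (h : NBT D T N C) (hN : N ≤ C') {x : X} (hx : x ∈ T)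
    {m : V} (hm : m ∈ C') : x • m ∈ C' := by
  obtain ⟨n, hn, c, hc, rfl⟩ := h.nb.dec m
  have h1 : c ∈ C' := by
    have e : c = (n + c) - n := by abel
    rw [e]; exact sub_mem hm (hN hn)
  rw [smul_add, h.cent hx hc]
  exact add_mem (hN (h.norm hx hn)) h1

/-! ### the group -/

section sys

variable {S : Subgroup X} {FF : Set (Subgroup X)} {N C : Subgroup X → AddSubgroup V} {T : Subgroup X → Subgroup X}
  (H : TSys S FF N C T) {D : Subgroup X} (hD : D ∈ FF)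
include H hD

theorem Orb_FF {D' : Subgroup X} (h : D' ∈ Orb S D) : D' ∈ FF := by
  obtain ⟨s, hs, rfl⟩ := h
  exact H.fam.sinv s hs D hD

/-- `S` normalises `KO` -/
theorem KO_norm {s : X} (hs : s ∈ S) {k : X} (hk : k ∈ KO S T D) : s * k * s⁻¹ ∈ KO S T D := by
  have h1 : KO S T D ≤ (KO S T D).comap (MulAut.conj s).toMonoidHom := by
    refine iSup_le fun D' x hx => ?_
    have h3 : MulAut.conj s x ∈ MulAut.conj s • T D' := ⟨x, hx, rfl⟩
    rw [H.TS s hs D' (Orb_FF H hD D'.2)] at h3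
    exact T_le_KO (Orb_smul hs D'.2) h3
  exact h1 hk

theorem mem_HO {x : X} : x ∈ HO S T D ↔ ∃ k ∈ KO S T D, ∃ s ∈ S, x = k * s := by
  constructor
  · intro hx
    have h1 : HO S T D ≤ (show Subgroup X from
        { carrier := {x | ∃ k ∈ KO S T D, ∃ s ∈ S, x = k * s}
          one_mem' := ⟨1, one_mem _, 1, one_mem _, (one_mul 1).symm⟩
          mul_mem' := by
            rintro _ _ ⟨k, hk, s, hs, rfl⟩ ⟨k', hk', s', hs', rfl⟩
            exact ⟨k * (s * k' * s⁻¹), mul_mem hk (KO_norm H hD hs hk'), s * s', mul_mem hs hs', by group⟩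
          inv_mem' := by
            rintro _ ⟨k, hk, s, hs, rfl⟩
            refine ⟨s⁻¹ * k⁻¹ * s⁻¹⁻¹, KO_norm H hD (inv_mem hs) (inv_mem hk), s⁻¹, inv_mem hs, by group⟩ }) := by
      refine sup_le (fun k hk => ⟨k, hk, 1, one_mem _, (mul_one k).symm⟩) fun s hs => ⟨1, one_mem _, s, hs, (one_mul s).symm⟩
    exact h1 hx
  · rintro ⟨k, hk, s, hs, rfl⟩
    exact mul_mem (KO_le_HO hk) (S_le_HO hs)

/-- the action of `KO` -/
theorem act_KO {k : X} (hk : k ∈ KO S T D) :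
    (∀ D' ∈ Orb S D, ∃ t ∈ T D', ∀ m ∈ N D', k • m = t • m) ∧
    (∀ B ∈ FF, B ∉ Orb S D → ∀ m ∈ N B, k • m = m) ∧
    (∀ m, (∀ D' ∈ Orb S D, m ∈ C D') → k • m = m) ∧
    (∀ D' ∈ Orb S D, ∀ m, m ∈ C D' ↔ k • m ∈ C D') := by
  have h1 : KO S T D ≤ (show Subgroup X from
      { carrier := {k | (∀ D' ∈ Orb S D, ∃ t ∈ T D', ∀ m ∈ N D', k • m = t • m) ∧
          (∀ B ∈ FF, B ∉ Orb S D → ∀ m ∈ N B, k • m = m) ∧
          (∀ m, (∀ D' ∈ Orb S D, m ∈ C D') → k • m = m) ∧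
          (∀ D' ∈ Orb S D, ∀ m, m ∈ C D' ↔ k • m ∈ C D')}
        one_mem' := ⟨fun D' _ => ⟨1, one_mem _, fun _ _ => rfl⟩, fun _ _ _ _ _ => one_smul _ _,
          fun _ _ => one_smul _ _, fun _ _ _ => by rw [one_smul]⟩
        mul_mem' := by
          rintro a b ⟨a1, a2, a3, a4⟩ ⟨b1, b2, b3, b4⟩
          refine ⟨fun D' hD' => ?_, fun B hB hB' m hm => ?_, fun m hm => ?_, fun D' hD' m => ?_⟩
          · obtain ⟨t, ht, h1⟩ := a1 D' hD'
            obtain ⟨t', ht', h1'⟩ := b1 D' hD'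
            refine ⟨t * t', mul_mem ht ht', fun m hm => ?_⟩
            rw [mul_smul, mul_smul, h1' m hm, h1 _ ((H.nbt D' (Orb_FF H hD hD')).norm ht' hm)]
          · rw [mul_smul, b2 B hB hB' m hm, a2 B hB hB' m hm]
          · rw [mul_smul, b3 m hm, a3 m hm]
          · rw [mul_smul, ← a4 D' hD', ← b4 D' hD']
        inv_mem' := by
          rintro a ⟨a1, a2, a3, a4⟩
          refine ⟨fun D' hD' => ?_, fun B hB hB' m hm => ?_, fun m hm => ?_, fun D' hD' m => ?_⟩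
          · obtain ⟨t, ht, h1⟩ := a1 D' hD'
            refine ⟨t⁻¹, inv_mem ht, fun m hm => ?_⟩
            rw [inv_smul_eq_iff, h1 _ ((H.nbt D' (Orb_FF H hD hD')).norm (inv_mem ht) hm), smul_inv_smul]
          · rw [inv_smul_eq_iff, a2 B hB hB' m hm]
          · rw [inv_smul_eq_iff, a3 m hm]
          · rw [a4 D' hD' (a⁻¹ • m), smul_inv_smul] }) := by
    refine iSup_le fun D1 t ht => ?_
    have hD1 := Orb_FF H hD D1.2
    have hn := H.nbt D1 hD1
    refine ⟨fun D' hD' => ?_, fun B hB hB' m hm => ?_, fun m hm => ?_, fun D' hD' m => ?_⟩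
    · by_cases h : D' = D1
      · exact ⟨t, by rw [h]; exact ht, fun _ _ => rfl⟩
      · refine ⟨1, one_mem _, fun m hm => ?_⟩
        rw [one_smul, hn.cent ht (H.fam.ind D1 hD1 D' (Orb_FF H hD hD') h hm)]
    · have hne : B ≠ D1 := fun e => hB' (by rw [e]; exact D1.2)
      exact hn.cent ht (H.fam.ind D1 hD1 B hB hne hm)
    · exact hn.cent ht (hm D1 D1.2)
    · by_cases h : D' = D1
      · subst h
        refine ⟨fun hm => by rw [hn.cent ht hm]; exact hm, fun hm => ?_⟩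
        have h1 := hn.cent (inv_mem ht) hm
        rw [inv_smul_smul] at h1
        rw [h1]; exact hm
      · have hN : N D1 ≤ C D' := H.fam.ind D' (Orb_FF H hD hD') D1 hD1 (Ne.symm h)
        refine ⟨fun hm => NBT.oth hn hN ht hm, fun hm => ?_⟩
        have h1 := NBT.oth hn hN (inv_mem ht) hm
        rwa [inv_smul_smul] at h1
  exact h1 hk

/-- `V = N_O + C_O` -/
theorem exists_dec [Finite X] (v : V) : ∃ n : Subgroup X → V, ∃ s : Finset (Subgroup X), (∀ D', D' ∈ s ↔ D' ∈ Orb S D) ∧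
    (∀ D' ∈ s, n D' ∈ N D') ∧ ∀ D' ∈ Orb S D, v - ∑ D' ∈ s, n D' ∈ C D' := by
  classical
  have hfin : (Orb S D).Finite := Set.toFinite _
  choose! n hn c hc hv using fun D' (hD' : D' ∈ Orb S D) => (H.fam.nb D' (Orb_FF H hD hD')).dec v
  refine ⟨n, hfin.toFinset, fun D' => hfin.mem_toFinset, fun D' hD' => hn D' (hfin.mem_toFinset.1 hD'), fun D' hD' => ?_⟩
  have hDf : D' ∈ hfin.toFinset := hfin.mem_toFinset.2 hD'
  rw [← Finset.add_sum_erase _ _ hDf]
  have e1 : v - (n D' + ∑ x ∈ hfin.toFinset.erase D', n x) = c D' - ∑ x ∈ hfin.toFinset.erase D', n x := by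
    have h1 : v - n D' = c D' := by rw [sub_eq_iff_eq_add, add_comm]; exact hv D' hD'
    rw [← h1]; abel
  rw [e1]
  refine sub_mem (hc D' hD') (sum_mem fun D'' hD'' => ?_)
  have h3 := Finset.mem_erase.1 hD''
  have h5 := hfin.mem_toFinset.1 h3.2
  exact H.fam.ind D' (Orb_FF H hD hD') D'' (Orb_FF H hD h5) h3.1 (hn D'' h5)

/-- equality on the blocks of `O` and on `C_O` -/
theorem ext_O [Finite X] (hf : ∀ x : X, (∀ v : V, x • v = v) → x = 1) {x y : X}
    (h1 : ∀ D' ∈ Orb S D, ∀ m ∈ N D', x • m = y • m) (h2 : ∀ m, (∀ D' ∈ Orb S D, m ∈ C D') → x • m = y • m) : x = y := by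
  have key : ∀ v : V, x • v = y • v := by
    intro v
    obtain ⟨n, s, hs, hn, hc⟩ := exists_dec H hD v
    have e : v = ∑ D' ∈ s, n D' + (v - ∑ D' ∈ s, n D') := by abel
    rw [e, smul_add, smul_add, h2 _ hc, Finset.smul_sum, Finset.smul_sum]
    congr 1
    exact Finset.sum_congr rfl fun D' hD' => h1 D' ((hs D').1 hD') _ (hn D' hD')
  have h3 : y⁻¹ * x = 1 := hf _ fun v => by rw [mul_smul, key, inv_smul_smul]
  exact (inv_mul_eq_one.1 h3).symm

/-- `S` permutes `C_O` -/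
theorem S_CO {s : X} (hs : s ∈ S) {m : V} (hm : ∀ D' ∈ Orb S D, m ∈ C D') : ∀ D' ∈ Orb S D, s • m ∈ C D' := by
  intro D' hD'
  have h1 : MulAut.conj s⁻¹ • D' ∈ Orb S D := Orb_smul (inv_mem hs) hD'
  have h3 := (H.CS s hs _ (Orb_FF H hD h1) m).1 (hm _ h1)
  rwa [map_inv, smul_inv_smul] at h3

/-- `KO` centralises the root groups `B ∉ O` -/
theorem comm_KO [Finite X] (hf : ∀ x : X, (∀ v : V, x • v = v) → x = 1) {k : X} (hk : k ∈ KO S T D) {B : Subgroup X}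
    (hB : B ∈ FF) (hB' : B ∉ Orb S D) : MulAut.conj k • B = B := by
  have key : ∀ k ∈ KO S T D, ∀ b ∈ B, k * b = b * k := by
    intro k hk b hb
    obtain ⟨k1, -, k3, -⟩ := act_KO H hD hk
    have hbS := H.fam.le B hB hb
    refine ext_O H hD hf (fun D' hD' m hm => ?_) fun m hm => ?_
    · obtain ⟨t, ht, h1⟩ := k1 D' hD'
      have hne : D' ≠ B := fun e => hB' (by rw [← e]; exact hD')
      have h3 : ∀ m ∈ N D', b • m = m := fun m hm =>
        mem_fxd.1 ((H.fam.nb B hB).C_le (H.fam.ind B hB D' (Orb_FF H hD hD') hne hm)) b hb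
      rw [mul_smul, mul_smul, h3 m hm, h1 m hm, h3 _ ((H.nbt D' (Orb_FF H hD hD')).norm ht hm)]
    · rw [mul_smul, mul_smul, k3 m hm, k3 _ (S_CO H hD hbS hm)]
  ext y
  rw [mem_cj]
  constructor
  · intro hy
    have h1 := key k hk _ hy
    have e : y = k⁻¹ * y * k := by
      have h3 : y * k = k⁻¹ * y * k * k := by
        calc y * k = k * (k⁻¹ * y * k) := by group
          _ = _ := h1
      exact mul_right_cancel h3
    rw [e]; exact hy
  · intro hy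
    have h1 := key k hk _ hy
    have e : k⁻¹ * y * k = y := by
      rw [mul_assoc, ← h1]; group
    rw [e]; exact hy

/-- **some `x ∈ HO` moves `D` out of `FF`** -/
theorem exists_mv : ∃ x ∈ HO S T D, MulAut.conj x • D ∉ FF := by
  obtain ⟨x, hx, hne⟩ := T_move (H.nbt D hD)
  refine ⟨x, KO_le_HO (T_le_KO (mem_Orb_self S D) hx), fun h => hne ?_⟩
  refine H.fam.inj h hD ?_
  ext m
  have h1 := cj_N H.fam hD h (x⁻¹ • m)
  rw [smul_inv_smul] at h1
  rw [← h1]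
  constructor
  · intro hm
    have h3 := (H.nbt D hD).norm hx hm
    rwa [smul_inv_smul] at h3
  · intro hm
    exact (H.nbt D hD).norm (inv_mem hx) hm

/-- **`k ∈ KO` which maps one fixed vector of `S` to a fixed vector of `S`** -/
theorem stab_KO [Finite X] (hf : ∀ x : X, (∀ v : V, x • v = v) → x = 1) {k : X} (hk : k ∈ KO S T D) {z : V}
    (hz : ∀ s ∈ S, s • z = z) (hkz : ∀ s ∈ S, s • k • z = k • z) (hzC : z ∉ C D) {B : Subgroup X} (hB : B ∈ FF) :
    MulAut.conj k • B = B := by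
  by_cases hBO : B ∈ Orb S D
  swap
  · exact comm_KO H hD hf hk hB hBO
  obtain ⟨k1, -, -, k4⟩ := act_KO H hD hk
  obtain ⟨t, ht, h1⟩ := k1 B hBO
  have hn := H.nbt B hB
  obtain ⟨n, hn', c, hc, hzn⟩ := hn.nb.dec z
  have hzB : z ∉ C B := by
    obtain ⟨s, hs, rfl⟩ := hBO
    intro h3
    apply hzC
    rw [H.CS s hs D hD, hz s hs]
    exact h3
  have hn0 : n ≠ 0 := by
    rintro rfl
    rw [zero_add] at hzn
    exact hzB (by rw [hzn]; exact hc)
  have hbC : ∀ b ∈ B, ∀ m ∈ C B, b • m = m := fun b hb m hm => mem_fxd.1 (hn.nb.C_le hm) b hb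
  have f1 : ∀ b ∈ B, b • n = n := by
    intro b hb
    have h3 := hz b (H.fam.le B hB hb)
    rw [hzn, smul_add, hbC b hb c hc] at h3
    exact add_right_cancel h3
  have f2 : ∀ b ∈ B, b • t • n = t • n := by
    intro b hb
    have h3 := hkz b (H.fam.le B hB hb)
    rw [hzn, smul_add, h1 n hn', smul_add, hbC b hb _ ((k4 B hBO c).1 hc)] at h3
    exact add_right_cancel h3
  have h5 := T_fix hf hn ht hn' hn0 f1 f2
  refine Eq.trans ?_ h5
  -- `k` and `t` induce the same on `B`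
  have key : ∀ b ∈ B, k * b * k⁻¹ = t * b * t⁻¹ := by
    intro b hb
    have h6 : ∀ m ∈ N B, k⁻¹ • m = t⁻¹ • m := by
      intro m hm
      rw [inv_smul_eq_iff, h1 _ (hn.norm (inv_mem ht) hm), smul_inv_smul]
    have h7 : (t * b * t⁻¹)⁻¹ * (k * b * k⁻¹) = 1 := by
      refine hf _ fun v => ?_
      have h8 : (k * b * k⁻¹) • v = (t * b * t⁻¹) • v := by
        obtain ⟨n, hn', c, hc, rfl⟩ := hn.nb.dec v
        rw [smul_add, smul_add]
        congr 1
        · rw [mul_smul, mul_smul, mul_smul, mul_smul, h6 n hn']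
          refine h1 _ ((hn.nb.act hb).1 _ (hn.norm (inv_mem ht) hn'))
        · have h9 : k⁻¹ • c ∈ C B := by
            rw [k4 B hBO, smul_inv_smul]; exact hc
          rw [mul_smul, mul_smul, mul_smul, mul_smul, hbC b hb _ h9, smul_inv_smul, hn.cent (inv_mem ht) hc, hbC b hb c hc,
            hn.cent ht hc]
      rw [mul_smul, h8, inv_smul_smul]
    exact (inv_mul_eq_one.1 h7).symm
  ext y
  constructor
  · rintro ⟨b, hb, rfl⟩
    exact ⟨b, hb, (key b hb).symm⟩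
  · rintro ⟨b, hb, rfl⟩
    exact ⟨b, hb, key b hb⟩

/-- **`x ∈ HO` which maps one fixed vector `z ∉ C D` of `S` to a fixed vector of `S` permutes `FF`** -/
theorem stab [Finite X] (hf : ∀ x : X, (∀ v : V, x • v = v) → x = 1) {x : X} (hx : x ∈ HO S T D) {z : V}
    (hz : ∀ s ∈ S, s • z = z) (hxz : ∀ s ∈ S, s • x • z = x • z) (hzC : z ∉ C D) :
    ∃ s ∈ S, ∀ B ∈ FF, MulAut.conj x • B = MulAut.conj s • B := by
  obtain ⟨k, hk, s, hs, rfl⟩ := (mem_HO H hD).1 hx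
  refine ⟨s, hs, fun B hB => ?_⟩
  rw [map_mul, mul_smul]
  refine stab_KO H hD hf hk hz (fun s' hs' => ?_) hzC (H.fam.sinv s hs B hB)
  have h1 := hxz s' hs'
  rwa [mul_smul, hz s hs] at h1

theorem stab_FF [Finite X] (hf : ∀ x : X, (∀ v : V, x • v = v) → x = 1) {x : X} (hx : x ∈ HO S T D) {z : V}
    (hz : ∀ s ∈ S, s • z = z) (hxz : ∀ s ∈ S, s • x • z = x • z) (hzC : z ∉ C D) {B : Subgroup X} (hB : B ∈ FF) :
    MulAut.conj x • B ∈ FF := by
  obtain ⟨s, hs, h1⟩ := stab H hD hf hx hz hxz hzC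
  rw [h1 B hB]
  exact H.fam.sinv s hs B hB

end sys

end Cfsg.Agent.Omega.NOThreeL.RRed.Blk.MvH

end

end
end

-- part: Mrg/Omega/NOThreeL/RRed/Blk/UniOf_mg
section

end

-- part: Mrg/Omega/NOThreeL/RRed/Blk/AcNK
section
prune_inst 0x100000002200000000000000000000000000020043000100400000004000002001060000400010000084000000000002080010002800000000000000040020800002021000a004040001801000000000000000000000000000000000000000000000000
set_option linter.all false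
open scoped Cfsg.Agent.FastGrp

section


/-!
# NO-3L, box R, nonsplit blocks (#26560, #27786 (ii)): `⟨EP^P⟩` normalises `C = C_U(⟨A, A^p⟩)`

`M` natural, `One M U A j`, `p` the Weyl element, `NBd (im Q A) (blk M j) C L (DD M j)`.

* `exists_conj` : `q ∈ P` permutes the summands, `q c q⁻¹` acts on one summand if `c` does;
* `full_conj` : `U = V C_U(q a q⁻¹)`;
* `norm_other` : `x` on another summand normalises `C`;
* `exists_up` : an involution on the `j`-th summand is conjugate under `⟨A, A^p⟩` to one acting as `up β`;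
* `norm_same` : `x` on the `j`-th summand normalises `C`;
* **`norm_gen`** : `q a q⁻¹` normalises `C`;
* `nbd_at` : `NBd` at the given Weyl element;
* **`norm_C`**, `norm_N_Z` : `KP S P U` normalises `C` and `blk M j` and centralises `DD M j`.
-/

set_option autoImplicit false
set_option linter.unusedSectionVars false

namespace Cfsg.Agent.Omega.NOThreeL.RRed.Blk.AcNK

open Subgroup Cfsg Cfsg.Agent.ZN Cfsg.Agent.Omega.MinPar
open Cfsg.Agent.Omega.FFThm Cfsg.Agent.Lib.SL2Mat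
open Cfsg.Agent.Omega.FrameFF (cv)
open Cfsg.Agent.Omega.NatPair
open Cfsg.Agent.Omega.NO3S.ThmB Cfsg.Agent.Omega.NO3S.KeyRad
open Cfsg.Agent.Omega.NOThreeL.RSplit (Nrm)
open Cfsg.Agent.Omega.NOThreeL.RRed.NS
open Cfsg.Agent.Omega.NOThreeL.RRed.Blk.TypesNat (XH ph ph_smul XH_faith no_XH two_of NBd_permg)
open Cfsg.Agent.Omega.NOThreeL.RRed.Blk.AsmCore (EE EP KP im mem_im ph_mem_im im_mono fxd_im)
open scoped Pointwise

universe u

variable {G : Type u} [Group G] {F : Type} [Field F] {S P V D U H A : Subgroup G} {k : ℕ} {M : NatKM F S P V D k}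

section grp

variable [CharP F 2] (h : Nb M)
include h

/-- conjugation permutes the summands -/
theorem exists_conj {q : G} (hq : q ∈ P) : ∃ σ : Equiv.Perm (Fin k), ∀ i, ∀ c ∈ P,
    ∀ B : Matrix.SpecialLinearGroup (Fin 2) F, ActsSL M.e V D c (sg i B) →
      ∃ B', ActsSL M.e V D (q * c * q⁻¹) (sg (σ i) B') := by
  obtain ⟨σ, hσ⟩ := M.perm q hq
  refine ⟨σ, fun i c hc B hB => ?_⟩
  obtain ⟨B', hB'⟩ := M.norm q hq c hc (sg i B) hB.1
  refine ⟨B' (σ i), fun v hv l => ?_, fun d hd => ?_⟩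
  · by_cases hl : l = σ i
    · subst hl
      rw [sg_self]
      exact hB' v hv _
    · rw [sg_ne hl, ap_one]
      have hw : q⁻¹ * v * q ∈ V := by
        have := (mem_normalizer_iff.1 (h.VP' (inv_mem hq)) v).1 hv
        rwa [inv_inv] at this
      set w := q⁻¹ * v * q with hwd
      have hcw : c * w * c⁻¹ * w⁻¹ ∈ V := mul_mem ((mem_normalizer_iff.1 (h.VP' hc) w).1 hw) (inv_mem hw)
      have hqc : q * (c * w * c⁻¹ * w⁻¹) * q⁻¹ ∈ V := (mem_normalizer_iff.1 (h.VP' hq) _).1 hcw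
      have e1 : q * c * q⁻¹ * v * (q * c * q⁻¹)⁻¹ = q * (c * w * c⁻¹ * w⁻¹) * q⁻¹ * v := by rw [hwd]; group
      rw [e1, M.mul _ hqc _ hv, Pi.add_apply]
      have h0 : M.e (c * w * c⁻¹ * w⁻¹) (σ.symm l) = 0 := by
        have hne : σ.symm l ≠ i := fun h1 => hl (by rw [← h1, Equiv.apply_symm_apply])
        rw [M.mul _ ((mem_normalizer_iff.1 (h.VP' hc) w).1 hw) _ (inv_mem hw), Pi.add_apply, hB.1 w hw, sg_ne hne,
          ap_one, h.e_inv hw]
        funext t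
        exact CharTwo.add_self_eq_zero _
      have h1 := (hσ _ hcw (σ.symm l)).2 h0
      rw [Equiv.apply_symm_apply] at h1
      rw [h1, zero_add]
  · have hw : q⁻¹ * d * q ∈ D := by
      have := (mem_normalizer_iff.1 (h.DP' (inv_mem hq)) d).1 hd
      rwa [inv_inv] at this
    have h1 := hB.2 _ hw
    have e1 : q * c * q⁻¹ * d = q * (c * (q⁻¹ * d * q)) * q⁻¹ := by group
    rw [e1, h1]
    group

/-- `U = V C_U(q a q⁻¹)` -/
theorem full_conj (hPU : P ≤ normalizer (U : Set G)) {q a : G} (hq : q ∈ P)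
    (hfull : ∀ u ∈ U, ∃ v ∈ V, ∃ c ∈ U, a * c = c * a ∧ u = v * c) :
    ∀ u ∈ U, ∃ v ∈ V, ∃ c ∈ U, q * a * q⁻¹ * c = c * (q * a * q⁻¹) ∧ u = v * c := by
  intro u hu
  have hu' : q⁻¹ * u * q ∈ U := by
    have := (mem_normalizer_iff.1 (hPU (inv_mem hq)) u).1 hu
    rwa [inv_inv] at this
  obtain ⟨v, hv, c, hc, h1, h3⟩ := hfull _ hu'
  refine ⟨q * v * q⁻¹, (mem_normalizer_iff.1 (h.VP' hq) _).1 hv, q * c * q⁻¹, (mem_normalizer_iff.1 (hPU hq) _).1 hc, ?_, ?_⟩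
  · have e1 : q * a * q⁻¹ * (q * c * q⁻¹) = q * (a * c) * q⁻¹ := by group
    rw [e1, h1]; group
  · have e1 : q * v * q⁻¹ * (q * c * q⁻¹) = q * (v * c) * q⁻¹ := by group
    rw [e1, ← h3]; group

variable {j : Fin k} (O : Cfsg.Agent.Omega.NO3S.ThmB.One M U A j) (hAP : A ≤ P) {p : G} (hp : p ∈ P)
  (hpA : ActsSL M.e V D p (sg j (wl F)))
include O hAP hp hpA

/-- `⟨A, A^p⟩` centralises the other blocks -/
theorem cent_other {l : Fin k} (hl : l ≠ j) {y : G} (hy : y ∈ blk M l) {x : G} (hx : x ∈ A ⊔ MulAut.conj p • A) :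
    x * y = y * x := by
  have h1 : A ⊔ MulAut.conj p • A ≤ centralizer ({y} : Set G) := by
    refine sup_le (fun a ha => ?_) fun a ha => ?_
    · rw [mem_centralizer_singleton_iff]
      obtain ⟨β, hβ⟩ := O.act a ha
      exact h.dir (hAP ha) hβ (sg_ne hl _) (blk_le h l hy) fun l' hl' => e_blk h hl' hy
    · rw [mem_centralizer_singleton_iff]
      exact mul_inv_eq_iff_eq_mul.1 (cent_conj h O hAP hp hpA ha hl hy)
  exact mem_centralizer_singleton_iff.1 (h1 hx)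

/-- **another summand** -/
theorem norm_other {x : G} (hx : x ∈ P) {l : Fin k} (hl : l ≠ j) {B : Matrix.SpecialLinearGroup (Fin 2) F}
    (hB : ActsSL M.e V D x (sg l B)) (hfull : ∀ u ∈ U, ∃ v ∈ V, ∃ c ∈ U, x * c = c * x ∧ u = v * c)
    {u : G} (hu : u ∈ U) (hc : ∀ y ∈ A ⊔ MulAut.conj p • A, y * u = u * y) :
    ∀ y ∈ A ⊔ MulAut.conj p • A, y * (x * u * x⁻¹) = (x * u * x⁻¹) * y := by
  intro y hy
  obtain ⟨v, hv, c, hcU, h1, rfl⟩ := hfull u hu
  have e1 : x * (v * c) * x⁻¹ = (x * v * x⁻¹ * v⁻¹) * (v * c) := by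
    have e2 : x * (v * c) * x⁻¹ = x * v * x⁻¹ * (x * c * x⁻¹) := by group
    have e3 : x * c * x⁻¹ = c := by rw [h1]; group
    rw [e2, e3]; group
  have h3 : y * (x * v * x⁻¹ * v⁻¹) = (x * v * x⁻¹ * v⁻¹) * y :=
    cent_other h O hAP hp hpA hl (mem_blk hx hB hv) hy
  rw [e1]
  calc y * (x * v * x⁻¹ * v⁻¹ * (v * c)) = (y * (x * v * x⁻¹ * v⁻¹)) * (v * c) := by group
    _ = (x * v * x⁻¹ * v⁻¹) * (y * (v * c)) := by rw [h3]; group
    _ = _ := by rw [hc y hy]; group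

/-- `⟨A, A^p⟩` acts on the `j`-th summand -/
theorem acts_E {x : G} (hx : x ∈ A ⊔ MulAut.conj p • A) : x ∈ P ∧ ∃ B, ActsSL M.e V D x (sg j B) := by
  let K : Subgroup G := {
    carrier := {x | x ∈ P ∧ ∃ B : Matrix.SpecialLinearGroup (Fin 2) F, ActsSL M.e V D x (sg j B)}
    mul_mem' := by
      rintro a b ⟨ha, A', hA'⟩ ⟨hb, B', hB'⟩
      exact ⟨mul_mem ha hb, A' * B', by rw [sg_mul]; exact h.acts_mul hb hA' hB'⟩
    one_mem' := ⟨one_mem _, 1, by rw [sg_one]; exact Nb.acts_one⟩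
    inv_mem' := by
      rintro a ⟨ha, A', hA'⟩
      refine ⟨inv_mem ha, A'⁻¹, ?_⟩
      have h1 := h.acts_inv ha hA'
      have e1 : (sg j A' : Fin k → _)⁻¹ = sg j A'⁻¹ := by
        rw [inv_eq_iff_mul_eq_one, ← sg_mul, mul_inv_cancel, sg_one]
      rwa [e1] at h1 }
  have h1 : A ⊔ MulAut.conj p • A ≤ K := by
    refine sup_le (fun a ha => ?_) fun a ha => ?_
    · obtain ⟨β, hβ⟩ := O.act a ha
      exact ⟨hAP ha, _, hβ⟩
    · obtain ⟨β, hβ⟩ := acts_conj h O hAP hp hpA ha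
      exact ⟨conj_le_P hAP hp ha, _, hβ⟩
  exact h1 hx

omit h O hAP hp hpA [CharP F 2] in
theorem eq_up {B : Matrix.SpecialLinearGroup (Fin 2) F} {s : F} (hs : s ≠ 0) (h1 : ap B ![s, 0] = ![s, 0]) :
    B = up (ent B 0 1) := by
  have a0 := congrFun h1 0
  have a1 := congrFun h1 1
  rw [ap_zero'] at a0
  rw [ap_one'] at a1
  simp only [Matrix.cons_val_zero, Matrix.cons_val_one, mul_zero, add_zero] at a0 a1
  have b0 : ent B 0 0 = 1 := mul_right_cancel₀ hs (by rw [a0, one_mul])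
  have b1 : ent B 1 0 = 0 := (mul_eq_zero.1 a1).resolve_right hs
  have hd := det_eq B
  rw [b0, b1, mul_zero, sub_zero, one_mul] at hd
  exact ext_ent (b0.trans (up_00 _).symm) (up_01 _).symm (b1.trans (up_10 _).symm) (hd.trans (up_11 _).symm)

/-- **an involution is conjugate to `up β`** -/
theorem exists_up {x : G} (hx : x ∈ P) {B : Matrix.SpecialLinearGroup (Fin 2) F}
    (hB : ActsSL M.e V D x (sg j B)) (h2 : ∀ v ∈ V, x * x * v = v * (x * x)) (hne : ∃ v ∈ V, x * v ≠ v * x) :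
    ∃ e ∈ A ⊔ MulAut.conj p • A, ∃ β, ActsSL M.e V D (e * x * e⁻¹) (sg j (up β)) := by
  -- a vector which is moved
  obtain ⟨v, hv, hvne⟩ : ∃ v ∈ V, M.e (x * v * x⁻¹) j ≠ M.e v j := by
    by_contra hcon
    push Not at hcon
    obtain ⟨v, hv, hvne⟩ := hne
    refine hvne (h.triv x hx (fun w hw => ?_) hB.2 v hv)
    funext l
    by_cases hl : l = j
    · subst hl; exact hcon w hw
    · rw [hB.1 w hw, sg_ne hl, ap_one]
  have hxv : x * v * x⁻¹ ∈ V := (mem_normalizer_iff.1 (h.VP' hx) v).1 hv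
  have hm := mem_blk hx hB hv
  obtain ⟨e, he, hY⟩ := exists_YY h O hAP hp hpA hm
  obtain ⟨heP, g, hg⟩ := acts_E h O hAP hp hpA he
  refine ⟨e, he, ?_⟩
  -- `y = e x e⁻¹`
  have hgi := h.acts_inv heP hg
  have hy0 := h.acts_mul (inv_mem heP) (h.acts_mul hx hg hB) hgi
  have e1 : sg j g * sg j B * (sg j g)⁻¹ = (sg j (g * B * g⁻¹) : Fin k → _) := by
    rw [mul_inv_eq_iff_eq_mul, ← sg_mul, ← sg_mul, inv_mul_cancel_right]
  rw [e1] at hy0
  set y := e * x * e⁻¹ with hy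
  set C' := g * B * g⁻¹ with hC'
  have hyP : y ∈ P := mul_mem (mul_mem heP hx) (inv_mem heP)
  set w := e * v * e⁻¹ with hw
  have hwV : w ∈ V := (mem_normalizer_iff.1 (h.VP' heP) v).1 hv
  have hyw : y * w * y⁻¹ ∈ V := (mem_normalizer_iff.1 (h.VP' hyP) w).1 hwV
  -- the commutator `[y, w] = [x, v]^e`
  have hcm : y * w * y⁻¹ * w⁻¹ = e * (x * v * x⁻¹ * v⁻¹) * e⁻¹ := by rw [hy, hw]; group
  have hcoord : M.e (y * w * y⁻¹ * w⁻¹) j = M.e (y * w * y⁻¹) j + M.e w j := by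
    rw [M.mul _ hyw _ (inv_mem hwV), Pi.add_apply, h.e_inv hwV]
  have hs1 : M.e (y * w * y⁻¹ * w⁻¹) j 1 = 0 := by rw [hcm]; exact hY.2
  have hs0 : M.e (y * w * y⁻¹ * w⁻¹) j 0 ≠ 0 := by
    intro h0
    have h3 : M.e (y * w * y⁻¹ * w⁻¹) j = 0 := by
      funext t
      fin_cases t
      · exact h0
      · exact hs1
    rw [hcoord] at h3
    have h4 : M.e (y * w * y⁻¹) j = M.e w j := by
      rw [← sub_eq_zero]
      rw [← h3]
      funext t
      exact CharTwo.sub_eq_add _ _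
    -- back to `x`
    apply hvne
    have h5 : y * w * y⁻¹ = e * (x * v * x⁻¹) * e⁻¹ := by rw [hy, hw]; group
    rw [h5, hg.1 _ hxv, hw, hg.1 _ hv, sg_self] at h4
    have h6 := congrArg (ap g⁻¹) h4
    rwa [← ap_mul, ← ap_mul, inv_mul_cancel, ap_one, ap_one] at h6
  -- the vector `(s, 0)` is fixed
  have hyy : y * y * w * (y * y)⁻¹ = w := by
    have e2 : y * y * w * (y * y)⁻¹ = e * (x * x * v * (x * x)⁻¹) * e⁻¹ := by rw [hy, hw]; group
    rw [e2, h2 v hv, mul_inv_cancel_right]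
  have hfix : ap C' (M.e (y * w * y⁻¹ * w⁻¹) j) = M.e (y * w * y⁻¹ * w⁻¹) j := by
    have hmem : y * w * y⁻¹ * w⁻¹ ∈ V := mul_mem hyw (inv_mem hwV)
    have h3 := hy0.1 _ hmem j
    rw [sg_self] at h3
    rw [← h3]
    have e2 : y * (y * w * y⁻¹ * w⁻¹) * y⁻¹ = (y * y * w * (y * y)⁻¹) * (y * w * y⁻¹)⁻¹ := by group
    rw [e2, hyy, M.mul _ hwV _ (inv_mem hyw), Pi.add_apply, h.e_inv hyw, hcoord, add_comm]
  have hvec : M.e (y * w * y⁻¹ * w⁻¹) j = ![M.e (y * w * y⁻¹ * w⁻¹) j 0, 0] := by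
    funext t
    fin_cases t
    · rfl
    · exact hs1
  rw [hvec] at hfix
  exact ⟨_, by rw [eq_up hs0 hfix] at hy0; exact hy0⟩

end grp

section fin

variable [Finite G] [Finite F] [CharP F 2] (h : Nb M) (hF : 2 < Nat.card F) (Q : Nrm H U) (hPH : P ≤ H) (hVU : V ≤ U)
  (hU2 : IsElementaryAbelian 2 U) (noH : NoOverM U H)
  {j : Fin k} (O : Cfsg.Agent.Omega.NO3S.ThmB.One M U A j) (hAP : A ≤ P) {p : G} (hp : p ∈ P)
  (hpA : ActsSL M.e V D p (sg j (wl F))) {L : AddSubgroup Q.Mod} (h4 : 4 ≤ Nat.card (im Q A))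
  (nb : AsmN.NBd (im Q A) (Q.ad (blk M j)) (Q.ad (centralizer ((A ⊔ MulAut.conj p • A : Subgroup G) : Set G))) L
    (Q.ad (DD M j)))
include h hF hPH hVU hU2 noH O hAP hp hpA h4 nb

omit hAP hp hpA h4 nb hU2 noH in
/-- `y` acts as `up β` on the `j`-th summand: it commutes with `im Q A` -/
theorem comm_up (hU2 : IsElementaryAbelian 2 U) (noH : NoOverM U H) (hAP : A ≤ P) {y : G} (hy : y ∈ P) {β : F}
    (hβ : ActsSL M.e V D y (sg j (up β))) (hfull : ∀ u ∈ U, ∃ v ∈ V, ∃ c ∈ U, y * c = c * y ∧ u = v * c) {a : XH Q}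
    (ha : a ∈ im Q A) : a * ph Q ⟨y, hPH hy⟩ = ph Q ⟨y, hPH hy⟩ * a := by
  obtain ⟨l, g, C⟩ := exists_cd h hF j
  -- `[U, y] ≤ Y_j`
  have h1 : ∀ m : Q.Mod, ph Q ⟨y, hPH hy⟩ • m - m ∈ Q.ad (YY h j) := by
    intro m
    obtain ⟨v, hv, c, hc, h1, h3⟩ := hfull (Q.val m) (Q.val_mem m)
    rw [Nrm.mem_ad, ph_smul, Nrm.val_sub, Nrm.val_smul]
    have e1 : y * Q.val m * y⁻¹ * (Q.val m)⁻¹ = y * v * y⁻¹ * v⁻¹ := by
      rw [h3]
      have e2 : y * (v * c) * y⁻¹ * (v * c)⁻¹ = y * v * y⁻¹ * (y * c * y⁻¹) * c⁻¹ * v⁻¹ := by group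
      have e3 : y * c * y⁻¹ = c := by rw [h1]; group
      rw [e2, e3]; group
    change y * Q.val m * y⁻¹ * (Q.val m)⁻¹ ∈ YY h j
    rw [e1, C.cm y hy β hβ v hv]
    exact mul_mem (C.lY h _) (C.gY h _)
  -- `y` centralises `Y_j`
  have h3 : ∀ m ∈ Q.ad (YY h j), ph Q ⟨y, hPH hy⟩ • m = m := by
    intro m hm
    rw [ph_smul, smul_eq_iff]
    have h5 := C.cm y hy β hβ _ (YY_le_V h j hm)
    rw [hm.2, mul_zero, zero_pow two_ne_zero, mul_zero, C.l_zero, C.g_zero, one_mul] at h5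
    exact mul_inv_eq_one.1 h5
  have hbr := UniSD.brk_one h hF Q hPH hVU O hAP
  refine (Asm.sit (two_of Q hU2) (fun x hx => XH_faith Q x hx) (no_XH Q noH)).comm_of (mem_top _) (mem_top _)
    (fun m => ?_) fun m => ?_
  · refine h3 _ ?_
    rw [← hbr]
    exact Types.sub_mem_brk ha m
  · have h5 : Q.ad (YY h j) ≤ fxd (im Q A) := by
      intro m hm
      rw [fxd_im Q (hAP.trans hPH), mem_centralizer_iff]
      exact fun a ha => cent_YY h O hAP ha hm
    exact mem_fxd.1 (h5 (h1 m)) a ha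

/-- **the same summand** -/
theorem norm_same {x : G} (hx : x ∈ P) {B : Matrix.SpecialLinearGroup (Fin 2) F}
    (hB : ActsSL M.e V D x (sg j B)) (hxx : ∀ v ∈ V, x * x * v = v * (x * x))
    (hfull : ∀ u ∈ U, ∃ v ∈ V, ∃ c ∈ U, x * c = c * x ∧ u = v * c) {m : Q.Mod}
    (hm : m ∈ Q.ad (centralizer ((A ⊔ MulAut.conj p • A : Subgroup G) : Set G))) :
    ph Q ⟨x, hPH hx⟩ • m ∈ Q.ad (centralizer ((A ⊔ MulAut.conj p • A : Subgroup G) : Set G)) := by
  have hPU : P ≤ normalizer (U : Set G) := fun q hq => Q.nrm (hPH hq)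
  by_cases hne : ∃ v ∈ V, x * v ≠ v * x
  · obtain ⟨e, he, β, hβ⟩ := exists_up h O hAP hp hpA hx hB hxx hne
    obtain ⟨heP, -⟩ := acts_E h O hAP hp hpA he
    have hyP : e * x * e⁻¹ ∈ P := mul_mem (mul_mem heP hx) (inv_mem heP)
    have hyf := full_conj h hPU heP hfull
    have hc : ∀ a ∈ im Q A, a * ph Q ⟨e * x * e⁻¹, hPH hyP⟩ = ph Q ⟨e * x * e⁻¹, hPH hyP⟩ * a := fun a ha =>
      comm_up h hF Q hPH hVU O hU2 noH hAP hyP hβ hyf ha
    set y : XH Q := ph Q ⟨e * x * e⁻¹, hPH hyP⟩ with hy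
    have hcj : MulAut.conj y • im Q A = im Q A := by
      apply le_antisymm
      · intro z hz
        have h1 := Types.mem_cj.1 hz
        have h3 := hc _ h1
        have e1 : z = y⁻¹ * z * y := by
          have e2 : z * y = y * (y⁻¹ * z * y) := by group
          rw [← h3] at e2
          exact mul_right_cancel e2
        rw [e1]; exact h1
      · intro z hz
        rw [Types.mem_cj]
        have h3 := hc _ hz
        have e1 : y⁻¹ * z * y = z := by rw [mul_assoc, h3, inv_mul_cancel_left]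
        rw [e1]; exact hz
    have hZ : y • Q.ad (DD M j) = Q.ad (DD M j) := by
      have h5 : ∀ m ∈ Q.ad (DD M j), y • m = m := by
        intro m hm
        rw [hy, ph_smul, smul_eq_iff, mul_inv_eq_iff_eq_mul]
        exact hβ.2 _ hm.2
      apply le_antisymm
      · rintro _ ⟨m, hm, rfl⟩
        change y • m ∈ _
        rw [h5 m hm]; exact hm
      · exact fun m hm => ⟨m, hm, h5 m hm⟩
    obtain ⟨-, h7, -⟩ := NBd_permg nb nb (two_of Q hU2) (fun x hx => XH_faith Q x hx) (no_XH Q noH) h4 y hcj hZ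
    have h8 : ∀ m ∈ Q.ad (centralizer ((A ⊔ MulAut.conj p • A : Subgroup G) : Set G)), y • m ∈
        Q.ad (centralizer ((A ⊔ MulAut.conj p • A : Subgroup G) : Set G)) := by
      intro m hm
      exact (SetLike.ext_iff.1 h7 _).1 ⟨m, hm, rfl⟩
    -- `e` is trivial on `C`
    have he1 : ∀ m ∈ Q.ad (centralizer ((A ⊔ MulAut.conj p • A : Subgroup G) : Set G)),
        ph Q ⟨e, hPH heP⟩ • m = m := by
      intro m hm
      rw [ph_smul, smul_eq_iff, mul_inv_eq_iff_eq_mul]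
      exact mem_centralizer_iff.1 hm e he
    have e3 : ph Q ⟨x, hPH hx⟩ = (ph Q ⟨e, hPH heP⟩)⁻¹ * y * ph Q ⟨e, hPH heP⟩ := by
      rw [hy, ← map_inv, ← map_mul, ← map_mul]
      congr 1
      apply Subtype.ext
      change x = e⁻¹ * (e * x * e⁻¹) * e
      group
    rw [e3, mul_smul, mul_smul, he1 m hm]
    have h9 := h8 m hm
    rw [inv_smul_eq_iff.2 (he1 _ h9).symm]
    exact h9
  · push Not at hne
    have e1 : ph Q ⟨x, hPH hx⟩ • m = m := by
      rw [ph_smul, smul_eq_iff, mul_inv_eq_iff_eq_mul]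
      obtain ⟨v, hv, c, hc, h1, h3⟩ := hfull (Q.val m) (Q.val_mem m)
      change x * Q.val m = Q.val m * x
      rw [h3, ← mul_assoc, hne v hv, mul_assoc, h1, mul_assoc]
    rw [e1]; exact hm

/-- **`q a q⁻¹` normalises `C`.** -/
theorem norm_gen {A' : Subgroup G} (hA' : A' ≤ P) {i : Fin k} (O' : Cfsg.Agent.Omega.NO3S.ThmB.One M U A' i)
    {q : G} (hq : q ∈ P) {a : G} (ha : a ∈ A') (hx : q * a * q⁻¹ ∈ H) {m : Q.Mod}
    (hm : m ∈ Q.ad (centralizer ((A ⊔ MulAut.conj p • A : Subgroup G) : Set G))) :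
    ph Q ⟨q * a * q⁻¹, hx⟩ • m ∈ Q.ad (centralizer ((A ⊔ MulAut.conj p • A : Subgroup G) : Set G)) := by
  have hPU : P ≤ normalizer (U : Set G) := fun q hq => Q.nrm (hPH hq)
  have hxP : q * a * q⁻¹ ∈ P := mul_mem (mul_mem hq (hA' ha)) (inv_mem hq)
  obtain ⟨σ, hσ⟩ := exists_conj h hq
  obtain ⟨β, hβ⟩ := O'.act a ha
  obtain ⟨B, hB⟩ := hσ i a (hA' ha) _ hβ
  have hfull : ∀ u ∈ U, ∃ v ∈ V, ∃ c ∈ U, a * c = c * a ∧ u = v * c := by
    intro u hu
    obtain ⟨v, hv, -, c, hcU, hcc, h1⟩ := O'.full u hu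
    exact ⟨v, hv, c, hcU, hcc a ha, h1⟩
  have hf := full_conj h hPU hq hfull
  by_cases hl : σ i = j
  · rw [hl] at hB
    refine norm_same h hF Q hPH hVU hU2 noH O hAP hp hpA h4 nb hxP hB (fun v hv => ?_) hf hm
    -- `x²` is trivial on `V`
    have h1 := h.acts_mul (hA' ha) hβ hβ
    rw [← sg_mul, up_mul, CharTwo.add_self_eq_zero, up_zero, sg_one] at h1
    have hw : q⁻¹ * v * q ∈ V := by
      have := (mem_normalizer_iff.1 (h.VP' (inv_mem hq)) v).1 hv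
      rwa [inv_inv] at this
    have h3 := h.comm_of_one (mul_mem (hA' ha) (hA' ha)) h1 hw
    have e1 : q * a * q⁻¹ * (q * a * q⁻¹) * v = q * (a * a * (q⁻¹ * v * q)) * q⁻¹ := by group
    rw [e1, h3]; group
  · have hm1 := mem_centralizer_iff.1 hm
    have h5 := norm_other h O hAP hp hpA hxP hl hB hf (Q.val_mem m) fun y hy => hm1 y hy
    rw [Nrm.mem_ad, ph_smul, Nrm.val_smul, mem_centralizer_iff]
    exact fun y hy => h5 y hy

end fin

section at_

variable [Finite G] [Finite F] [CharP F 2] (h : Nb M) (hF : 2 < Nat.card F) (Q : Nrm H U) (hPH : P ≤ H) (hVU : V ≤ U)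
  {j : Fin k} (O : Cfsg.Agent.Omega.NO3S.ThmB.One M U A j) (hAP : A ≤ P) {p : G} (hp : p ∈ P)
  (hpA : ActsSL M.e V D p (sg j (wl F)))
include h hF hPH hVU O hAP hp hpA

/-- the block at the Weyl element `p` -/
theorem nbd_at : ∃ L : AddSubgroup Q.Mod, AsmN.NBd (im Q A) (Q.ad (blk M j))
    (Q.ad (centralizer ((A ⊔ MulAut.conj p • A : Subgroup G) : Set G))) L (Q.ad (DD M j)) := by
  obtain ⟨e, f, d, up, lo, hb, h1, -, h3, h4, h5, h6⟩ := AcNAt.exists_bkD_at h hF Q hPH hVU O hAP hp hpA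
  have hC : Q.ad (U ⊓ centralizer ((A ⊔ MulAut.conj p • A : Subgroup G) : Set G)) =
      Q.ad (centralizer ((A ⊔ MulAut.conj p • A : Subgroup G) : Set G)) :=
    le_antisymm (Nrm.ad_mono inf_le_right) fun m hm => ⟨Q.val_mem m, hm⟩
  have hF4 : 4 ≤ Nat.card F := by
    by_contra hcon
    have h6 : Nat.card F = 3 := by omega
    have h7 : (3 : ℕ) • (1 : F) = 0 := by rw [← h6]; exact card_nsmul_eq_zero'
    have h8 : (2 : ℕ) • (1 : F) = 0 := by rw [two_nsmul]; exact CharTwo.add_self_eq_zero 1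
    have h9 : (3 : ℕ) • (1 : F) = (2 : ℕ) • (1 : F) + 1 := succ_nsmul _ _
    rw [h7, h8, zero_add] at h9
    exact zero_ne_one h9
  have key : TypesNat.IsNBD Q A (un Q e.range) (DD M j) (blk M j)
      (U ⊓ centralizer ((A ⊔ MulAut.conj p • A : Subgroup G) : Set G)) :=
    ⟨F, inferInstance, inferInstance, inferInstance, e, f, d, up, lo, hF4,
      { bk := by rw [hC]; exact hb
        upA := h1
        Aup := fun a ha => h3 a ha
        AH := hAP.trans hPH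
        eR := (IsNBDOf.ad_un Q _).symm
        dD := h6
        eN := h5
        RU := IsNBDOf.un_le Q _
        DU := (DD_le_YY h j).trans ((YY_le_V h j).trans hVU)
        NU := (blk_le h j).trans hVU
        CU := inf_le_left }⟩
  refine ⟨Q.ad (un Q e.range), ?_⟩
  rw [← hC]
  exact key.toNBd

/-- `|F| ≤ |im Q A|` -/
theorem card_at : Nat.card F ≤ Nat.card (im Q A) := by
  obtain ⟨e, f, d, up, lo, hb, h1, -⟩ := AcNAt.exists_bkD_at h hF Q hPH hVU O hAP hp hpA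
  refine Nat.card_le_card_of_injective (fun t => (⟨ph Q (up t), ph_mem_im Q (h1 t)⟩ : im Q A)) fun s t hst => ?_
  have e1 : ph Q (up s) = ph Q (up t) := congrArg Subtype.val hst
  have e2 : up s • f 1 = up t • f 1 := by rw [← ph_smul, e1, ph_smul]
  rw [hb.up_f, hb.up_f, mul_one, mul_one, one_pow, mul_one, mul_one] at e2
  have e3 : e (s - t) + f 0 = d t - d s := by
    rw [map_sub, map_zero, add_zero]
    have e4 : e s + d s = e t + d t := by
      rw [add_assoc, add_assoc] at e2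
      exact add_left_cancel e2
    rw [sub_eq_sub_iff_add_eq_add, e4, add_comm]
  have e5 := (hb.ind (s - t) 0 (by rw [e3]; exact sub_mem (hb.dC _) (hb.dC _))).1
  exact sub_eq_zero.1 e5

end at_

/-! ### `KP S P U` -/

section kp

variable [Finite G] {S : Sylow 2 G} {L P H : Subgroup G} (hc : IsCharacteristicTwoType G)
  (hP : IsParS (S : Subgroup G) P) (hPL : P ≤ L) (LH : L ≤ H) (hU2 : IsElementaryAbelian 2 (zl (S : Subgroup G) L))
  (noH : NoOverM (zl (S : Subgroup G) L) H) (Q : Nrm H (zl (S : Subgroup G) L))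
  {F : Type} [Field F] [Finite F] [CharP F 2] {k : ℕ}
  (M : NatKM F (S : Subgroup G) P (zl (S : Subgroup G) P) (cv (S : Subgroup G) P) k)
  {A : Subgroup G} {j : Fin k}
include hc hP hPL LH hU2 noH Q M

/-- **`KP` normalises `C`** -/
theorem norm_C (hF : 2 < Nat.card F) (hA : A ∈ EP (S : Subgroup G) P (zl (S : Subgroup G) L))
    (O : Cfsg.Agent.Omega.NO3S.ThmB.One M (zl (S : Subgroup G) L) A j) {p : G} (hp : p ∈ P)
    (hpA : ActsSL M.e (zl (S : Subgroup G) P) (cv (S : Subgroup G) P) p (sg j (wl F))) :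
    ∀ x ∈ im Q (KP (S : Subgroup G) P (zl (S : Subgroup G) L)),
      ∀ m ∈ Q.ad (centralizer ((A ⊔ MulAut.conj p • A : Subgroup G) : Set G)),
        x • m ∈ Q.ad (centralizer ((A ⊔ MulAut.conj p • A : Subgroup G) : Set G)) := by
  have h : Nb M := NO3S.ThmB.Inst.nb hc hP M
  have hVU : zl (S : Subgroup G) P ≤ zl (S : Subgroup G) L := NOThreeL.Star.zl_mono _ hPL
  have hPH := hPL.trans LH
  have hAP : A ≤ P := hA.1.1.trans hP.le
  obtain ⟨L', nb⟩ := nbd_at h hF Q hPH hVU O hAP hp hpA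
  have h4 : 4 ≤ Nat.card (im Q A) := by
    refine le_trans ?_ (card_at h hF Q hPH hVU O hAP hp hpA)
    by_contra hcon
    have h6 : Nat.card F = 3 := by omega
    have h7 : (3 : ℕ) • (1 : F) = 0 := by rw [← h6]; exact card_nsmul_eq_zero'
    have h8 : (2 : ℕ) • (1 : F) = 0 := by rw [two_nsmul]; exact CharTwo.add_self_eq_zero 1
    have h9 : (3 : ℕ) • (1 : F) = (2 : ℕ) • (1 : F) + 1 := succ_nsmul _ _
    rw [h7, h8, zero_add] at h9
    exact zero_ne_one h9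
  set W : AddSubgroup Q.Mod := Q.ad (centralizer ((A ⊔ MulAut.conj p • A : Subgroup G) : Set G)) with hW
  let T : Subgroup (XH Q) := {
    carrier := {x | ∀ m, m ∈ W ↔ x • m ∈ W}
    mul_mem' := fun {a b} ha hb m => by rw [mul_smul, ← ha, ← hb]
    one_mem' := fun m => by rw [one_smul]
    inv_mem' := fun {a} ha m => by rw [ha (a⁻¹ • m), smul_inv_smul] }
  have key : im Q (KP (S : Subgroup G) P (zl (S : Subgroup G) L)) ≤ T := by
    apply AsmCore.im_le_of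
    rw [KP, closure_le]
    rintro _ ⟨q, hq, A', hA', a, ha, rfl⟩
    obtain ⟨i, O'⟩ : ∃ i, Cfsg.Agent.Omega.NO3S.ThmB.One M (zl (S : Subgroup G) L) A' i :=
      Tt.one (NO3S.ThmB.Inst.nb hc hP M) (tt_of_mx hA'.1.2 noH ((hA'.1.1.trans hP.le).trans (hPL.trans LH))) hU2
        (NOThreeL.Star.zl_mono _ hPL) hA'.1.1 hA'.2
    have hAP' : A' ≤ P := hA'.1.1.trans hP.le
    have hx : q * a * q⁻¹ ∈ H := hPH (mul_mem (mul_mem hq (hAP' ha)) (inv_mem hq))
    have hx' : q * a⁻¹ * q⁻¹ ∈ H := hPH (mul_mem (mul_mem hq (hAP' (inv_mem ha))) (inv_mem hq))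
    refine ⟨⟨q * a * q⁻¹, hx⟩, ?_, rfl⟩
    rw [SetLike.mem_coe, mem_comap]
    change ∀ m, m ∈ W ↔ ph Q ⟨q * a * q⁻¹, hx⟩ • m ∈ W
    intro m
    refine ⟨fun hm => norm_gen h hF Q hPH hVU hU2 noH O hAP hp hpA h4 nb hAP' O' hq ha hx hm, fun hm => ?_⟩
    have h5 := norm_gen h hF Q hPH hVU hU2 noH O hAP hp hpA h4 nb hAP' O' hq (inv_mem ha) hx' hm
    have e1 : ph Q ⟨q * a⁻¹ * q⁻¹, hx'⟩ = (ph Q ⟨q * a * q⁻¹, hx⟩)⁻¹ := by
      rw [← map_inv]
      congr 1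
      apply Subtype.ext
      change q * a⁻¹ * q⁻¹ = (q * a * q⁻¹)⁻¹
      group
    rwa [e1, inv_smul_smul] at h5
  exact fun x hx m hm => (key hx m).1 hm

end kp

end Cfsg.Agent.Omega.NOThreeL.RRed.Blk.AcNK

end

section


/-!
# NO-3L, box R: the inputs `InN` of the family of nonsplit blocks

* **`oth_of`** : the other members of `EE` centralise the natural block (field `oth` of `InN`).
-/

set_option autoImplicit false
set_option linter.unusedSectionVars false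

namespace Cfsg.Agent.Omega.NOThreeL.RRed.Blk.FamOf

open Subgroup Cfsg Cfsg.Agent.ZN Cfsg.Agent.Omega.MinPar
open Cfsg.Agent.Omega.FFThm
open Cfsg.Agent.Omega.FrameFF (cv)
open Cfsg.Agent.Omega.NO3S.ThmB Cfsg.Agent.Omega.NO3S.KeyRad
open Cfsg.Agent.Omega.NOThreeL.Merge (MZ le_MZ isLoc_MZ)
open Cfsg.Agent.Omega.NOThreeL.RSplit (Nrm)
open Cfsg.Agent.Omega.NOThreeL.RRed.NS (fxd brk mem_fxd conj_eq_cj DD smul_eq_iff)
open Cfsg.Agent.Omega.NOThreeL.RRed.Blk.TypesNat (XH ph ph_smul)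
open Cfsg.Agent.Omega.NOThreeL.RRed.Blk.AsmCore (im mem_im ph_mem_im im_mono im_cj im_le_of EP KP)
open scoped Pointwise

universe u

variable {G : Type u} [Group G] [Finite G] {S : Sylow 2 G}

end Cfsg.Agent.Omega.NOThreeL.RRed.Blk.FamOf

end

section


/-!
# NO-3L, box R: the field `oth` of `FamOf.InN` (nonsplit natural blocks, group level)

* **`oth`** : the members of `im Q '' EE` other than `im Q A` centralise the block of `A ∈ EP S P (zl S L)` (`Q : Nrm H`);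
* **`oth_N`** : `FamOf.InN.oth`.
-/

set_option autoImplicit false
set_option linter.unusedSectionVars false

namespace Cfsg.Agent.Omega.NOThreeL.RRed.Blk.OthN

open Subgroup Cfsg Cfsg.Agent.ZN Cfsg.Agent.Omega.MinPar
open Cfsg.Agent.Omega.FFThm
open Cfsg.Agent.Omega.FrameFF (cv)
open Cfsg.Agent.Omega.NO3S.ThmB Cfsg.Agent.Omega.NO3S.KeyRad
open Cfsg.Agent.Omega.NOThreeL.Merge (MZ le_MZ)
open Cfsg.Agent.Omega.NOThreeL.RSplit (Nrm)
open Cfsg.Agent.Omega.NOThreeL.RRed.Blk.TypesNat (XH ph ph_smul)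
open Cfsg.Agent.Omega.NOThreeL.RRed.Blk.AsmCore
open scoped Pointwise

universe u

variable {G : Type u} [Group G] [Finite G] {S : Sylow 2 G} {L P H : Subgroup G}

end Cfsg.Agent.Omega.NOThreeL.RRed.Blk.OthN

end
end
end
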