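import Cfsg.Agent.Omega.EH3.ESix.Prime_m3
import Cfsg.Agent.Mrg.Omega.NOThreeL.RRed.Blk.AsmEsB_mg_m3
import Cfsg.Agent.Mrg.Omega.NOThreeL.RRed.Ex.Pf_m3
import Cfsg.Agent.Mrg.Omega.NOThreeL.RRed.ClassInst
import Cfsg.Agent.Mrg.Omega.NO3S.SFive.WCNorm_m3
import Cfsg.Agent.Mrg.Omega.NOThreeL.RRed.Blk.BadBkD_m3
import Cfsg.Agent.FastGrp
import Cfsg.Agent.Prune
set_option linter.all false

section
prune_inst 0x7ffcfefbaffcbddfffff7ffffff7dffdfdf8fffffffffdfbffedfbffdfff4bafefe5fbb7eff8d2ff9ff6e3bcb4f87b53ffffe77fea6bdc7ffffd5ff45fffff9fbfefbf8d71d7bc3e1ffe6ffffbfb7fce7f3fffffffffffffffffffffffffffffffffffffffff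

-- part: Mrg/Omega/NOThreeL/RRed/Blk/AsmG
section
set_option linter.all false
open scoped Cfsg.Agent.FastGrp


/-!
# NO-3L, box R: assembly of the natural blocks, the theorem for `L`, `U = zl S L`

* `Inp S L Q` : the inputs: `Es` for the minimal exact groups of `S`, `Ac` for every `P ∈ P*(S)`, `P ≤ L`, which has one
  moving `V_P`;
* `inact` : the other `P` normalise the set of minimal exact groups;
* `RRs S L Q` : the root groups of order at least 4 of the active `P`;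
* **`Inp.main`** : the conjugates of the members of any `RR ⊆ RRs` form a family of blocks.
-/

set_option autoImplicit false
set_option linter.unusedSectionVars false

namespace Cfsg.Agent.Omega.NOThreeL.RRed.Blk.AsmG

open Subgroup Cfsg Cfsg.Agent.ZN Cfsg.Agent.Omega.MinPar
open Cfsg.Agent.Omega.FFThm
open Cfsg.Agent.Omega.NOThreeL.RSplit (Nrm)
open Cfsg.Agent.Omega.NOThreeL.RRed.NS (fxd brk mem_fxd smul_eq_iff conj_eq_cj)
open Cfsg.Agent.Omega.NOThreeL.RRed.Blk.TypesNat (XH ph ph_smul XH_faith ph_eq ph_surj no_XH)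
open Cfsg.Agent.Omega.NOThreeL.RRed.Blk.TypesGam (NO)
open Cfsg.Agent.Omega.NOThreeL.RRed.Blk.Asm Cfsg.Agent.Omega.NOThreeL.RRed.Blk.AsmCore
open scoped Pointwise

universe u

variable {G : Type u} [Group G]

/-- the images of the members of `P*(S)` in `L` -/
def Ps (S L : Subgroup G) {U : Subgroup G} (Q : Nrm L U) : Set (Subgroup (XH Q)) :=
  {K | ∃ P, IsParS S P ∧ P ≤ L ∧ K = im Q P}

theorem sSup_Ps {S L U : Subgroup G} (Q : Nrm L U) (hgen : L ≤ sSup {P | IsParS S P ∧ P ≤ L}) :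
    sSup (Ps S L Q) = ⊤ := by
  rw [eq_top_iff]
  rintro x -
  obtain ⟨g, rfl⟩ := ph_surj Q x
  have h1 : im Q L ≤ sSup (Ps S L Q) := by
    apply im_le_of
    refine hgen.trans (sSup_le ?_)
    rintro P ⟨hP, hPL⟩ p hp
    refine ⟨⟨p, hPL hp⟩, ?_, rfl⟩
    rw [SetLike.mem_coe, mem_comap]
    exact (le_sSup (show im Q P ∈ Ps S L Q from ⟨P, hP, hPL, rfl⟩)) (ph_mem_im Q hp)
  exact h1 (ph_mem_im Q (a := g) g.2)

/-- **inactive `P`** -/
theorem inact [Finite G] (hc : IsCharacteristicTwoType G) {S : Sylow 2 G} {P L U : Subgroup G} (Q : Nrm L U)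
    (hP : IsParS (S : Subgroup G) P) (h : ¬ (EP (S : Subgroup G) P U).Nonempty) :
    ∀ g ∈ im Q P, ∀ A ∈ im Q '' EE (S : Subgroup G) U, MulAut.conj g • A ∈ im Q '' EE (S : Subgroup G) U := by
  rintro _ ⟨g, hg, rfl⟩ _ ⟨A, hA, rfl⟩
  refine ⟨MulAut.conj (g : G) • A, ?_, im_cj Q g⟩
  have h1 : A ≤ centralizer (zl (S : Subgroup G) P : Set G) := by
    by_contra hcon
    exact h ⟨A, hA, hcon⟩
  have h2 : A ≤ o2 P := by
    rw [← hP.inf_centralizer S hc]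
    exact le_inf hA.1 h1
  have h3 : MulAut.conj (g : G) • A ≤ o2 P := by
    intro x hx
    have h4 := h2 (NS.mem_conj.1 hx)
    have h5 : (g : G) ∈ normalizer (o2 P : Set G) := le_normalizer_o2 P hg
    have h6 := (mem_normalizer_iff.1 h5 _).1 h4
    have e : (g : G) * ((g : G)⁻¹ * x * g) * (g : G)⁻¹ = x := by group
    rwa [e] at h6
  refine ⟨h3.trans hP.isLoc.o2_le, ?_⟩
  rw [conj_eq_cj]
  exact CI.mx_conj hA.2 (Q.nrm g.2)

/-- The inputs. -/
structure Inp [Finite G] (S : Sylow 2 G) (L : Subgroup G) (Q : Nrm L (zl (S : Subgroup G) L)) : Prop where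
  hc : IsCharacteristicTwoType G
  gen : L ≤ sSup {P | IsParS (S : Subgroup G) P ∧ P ≤ L}
  el : IsElementaryAbelian 2 (zl (S : Subgroup G) L)
  no : NoOverM (zl (S : Subgroup G) L) L
  es : Es (im Q (S : Subgroup G)) (im Q '' EE (S : Subgroup G) (zl (S : Subgroup G) L)) Q.Mod
  ac : ∀ P, IsParS (S : Subgroup G) P → P ≤ L → (EP (S : Subgroup G) P (zl (S : Subgroup G) L)).Nonempty →
    Ac (im Q (S : Subgroup G)) (im Q '' EE (S : Subgroup G) (zl (S : Subgroup G) L)) (im Q P)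
      (im Q (KP (S : Subgroup G) P (zl (S : Subgroup G) L))) (im Q '' EP (S : Subgroup G) P (zl (S : Subgroup G) L)) Q.Mod

section inp

variable [Finite G] {S : Sylow 2 G} {L : Subgroup G} {Q : Nrm L (zl (S : Subgroup G) L)} (h : Inp S L Q)
include h

theorem Inp.two (v : Q.Mod) : v + v = 0 := Nrm.ext (by
  rw [Nrm.val_add, Nrm.val_zero]
  have := h.el.2 _ (Q.val_mem v)
  rwa [pow_two] at this)

theorem Inp.hf (x : XH Q) (hx : ∀ v : Q.Mod, x • v = v) : x = 1 := XH_faith Q x hx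

theorem Inp.hno : NO (XH Q) Q.Mod := no_XH Q h.no

/-- `Ps` -/
theorem Inp.hPs : ∀ P ∈ Ps (S : Subgroup G) L Q,
    (∀ g ∈ P, ∀ A ∈ im Q '' EE (S : Subgroup G) (zl (S : Subgroup G) L), MulAut.conj g • A ∈
      im Q '' EE (S : Subgroup G) (zl (S : Subgroup G) L)) ∨
    ∃ K EP, Ac (im Q (S : Subgroup G)) (im Q '' EE (S : Subgroup G) (zl (S : Subgroup G) L)) P K EP Q.Mod := by
  rintro _ ⟨P, hP, hPL, rfl⟩
  by_cases hne : (EP (S : Subgroup G) P (zl (S : Subgroup G) L)).Nonempty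
  · exact Or.inr ⟨_, _, h.ac P hP hPL hne⟩
  · exact Or.inl (inact h.hc Q hP hne)

omit h in
/-- the root groups of order at least 4 of the active `P` -/
def RRs (S : Sylow 2 G) (L : Subgroup G) (Q : Nrm L (zl (S : Subgroup G) L)) : Set (Subgroup (XH Q)) :=
  {D | 4 ≤ Nat.card D ∧ ∃ P, IsParS (S : Subgroup G) P ∧ P ≤ L ∧
    ∃ A ∈ EP (S : Subgroup G) P (zl (S : Subgroup G) L), D = im Q A}

/-- **The natural blocks.** -/
theorem Inp.main {RR : Set (Subgroup (XH Q))} (hR : RR ⊆ RRs S L Q) :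
    FFs (im Q '' EE (S : Subgroup G) (zl (S : Subgroup G) L)) RR ⊆ im Q '' EE (S : Subgroup G) (zl (S : Subgroup G) L) ∧
    (∀ D ∈ FFs (im Q '' EE (S : Subgroup G) (zl (S : Subgroup G) L)) RR, 4 ≤ Nat.card D) ∧
    (∀ D ∈ FFs (im Q '' EE (S : Subgroup G) (zl (S : Subgroup G) L)) RR,
      GB (im Q '' EE (S : Subgroup G) (zl (S : Subgroup G) L)) D
        (NN (im Q '' EE (S : Subgroup G) (zl (S : Subgroup G) L)) Q.Mod D)
        (CC (im Q '' EE (S : Subgroup G) (zl (S : Subgroup G) L)) Q.Mod D)) ∧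
    Fam (im Q (S : Subgroup G)) (FFs (im Q '' EE (S : Subgroup G) (zl (S : Subgroup G) L)) RR)
      (NN (im Q '' EE (S : Subgroup G) (zl (S : Subgroup G) L)) Q.Mod)
      (CC (im Q '' EE (S : Subgroup G) (zl (S : Subgroup G) L)) Q.Mod) := by
  have hRE : RR ⊆ im Q '' EE (S : Subgroup G) (zl (S : Subgroup G) L) := by
    intro D hD
    obtain ⟨-, P, -, -, A, hA, rfl⟩ := hR hD
    exact ⟨A, hA.1, rfl⟩
  obtain ⟨h1, h3, h5⟩ := Asm.main h.two h.hf h.hno h.es h.hPs (sSup_Ps Q h.gen) hRE (fun A hA => (hR hA).1) (by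
    intro D hD
    obtain ⟨h4, P, hP, hPL, A, hA, rfl⟩ := hR hD
    exact (h.ac P hP hPL ⟨A, hA⟩).gb ⟨A, hA, rfl⟩ h4)
  exact ⟨FFs_sub hRE, h1, h3, h5⟩

end inp

end Cfsg.Agent.Omega.NOThreeL.RRed.Blk.AsmG
end

-- part: Mrg/Omega/NOThreeL/RRed/Ex/Sg
section
prune_inst 0x300041000422000000000000000000002000000000000000000000000000000000000000000000000000000000000000008800000000000000000000000000000000000000000000000000000000000000000000000000000000000000000000000000000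
set_option linter.all false
open scoped Cfsg.Agent.FastGrp

-- merged: Cfsg.Agent.Mrg.Omega.NOThreeL.RRed.Ex.Inst
section

section


/-!
# NO-3L, box R: THEOREM EX (#26554), the instance `Gy` for `V = zl S L`

* `Gp M S P W` : the fields of `Gy` about one parabolic;
* `exists_pre` : every `A ≤ im Q S` is `im Q B`, `B ≤ S`;
* `WW S L Q` : `im Q P ↦ Q.ad (zl S P)`;
* **`gy_of`** : `Gy` from `Gp` for every `P ∈ P*(S)`, `P ≤ L`.
-/

set_option autoImplicit false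
set_option linter.unusedSectionVars false

namespace Cfsg.Agent.Omega.NOThreeL.RRed.Ex.Inst

open Subgroup Cfsg Cfsg.Agent.ZN Cfsg.Agent.Omega.MinPar
open Cfsg.Agent.Omega.FFThm
open Cfsg.Agent.Omega.NOThreeL.RSplit (Nrm)
open Cfsg.Agent.Omega.NOThreeL.RRed.NS (fxd brk mem_fxd smul_eq_iff conj_eq_cj)
open Cfsg.Agent.Omega.NOThreeL.RRed.Blk.Types (Sit El)
open Cfsg.Agent.Omega.NOThreeL.RRed.Blk.TypesNat (XH ph ph_smul XH_faith ph_eq ph_surj no_XH)
open Cfsg.Agent.Omega.NOThreeL.RRed.Blk.AsmCore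
open Cfsg.Agent.Omega.NOThreeL.RRed.Blk.AsmG (Ps sSup_Ps)
open Cfsg.Agent.ZN.ChoiceBase (cj)
open scoped Pointwise

universe u v

/-- The fields of `Gy` about one parabolic. -/
structure Gp {H : Type u} (M : Type v) [Group H] [AddCommGroup M] [DistribMulAction H M] (S P : Subgroup H)
    (W : AddSubgroup M) : Prop where
  sy : ∀ A ≤ S, ∀ p ∈ P, ∃ k ∈ closure {x | ∃ g ∈ P, ∃ a ∈ A, x = g * a * g⁻¹},
    MulAut.conj (k * p) • A ≤ S
  split : ∀ A ≤ S, El A → Xa M A → ¬ Fx W A →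
    Xa M (cw W A) ∧ ∀ m ∈ (fxd (cw W A) : AddSubgroup M), ∃ w ∈ W, ∃ c ∈ (fxd A : AddSubgroup M), m = w + c
  one : ∀ B ≤ S, Mn M B → ¬ Fx W B → ∀ b ∈ B, b ≠ 1 → ∀ m : M, b • m = m →
    m ∈ (fxd B : AddSubgroup M)
  quad : ∀ B ≤ S, Mn M B → ¬ Fx W B → ∀ B' ≤ S, Mn M B' → brk M B ≤ fxd B'
  out : ∀ B ≤ S, Mn M B → ¬ Fx W B → ∀ b ∈ B, ∀ m : M, b • m ≠ m →
    ∃ p ∈ P, ∃ c ∈ B, (p * c * p⁻¹) • (b • m - m) ∉ (fxd B : AddSubgroup M)
  pair : ∀ B ≤ S, ∀ B' ≤ S, Mn M B → Mn M B' → ¬ Fx W B → ¬ Fx W B' →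
    ∀ b ∈ B, ∀ b' ∈ B', ∀ m m' : M, b • m - m = b' • m' - m' → b • m ≠ m →
      ∀ c ∈ B, ∃ c' ∈ B', ∀ w ∈ W, c' • w = c • w
  sg : ∀ A ≤ S, El A → Xa M A → ¬ Fx W A →
    (∃ X ≤ A, ∃ Y ≤ A, X ≠ A ∧ Y ≠ A ∧ Xa M X ∧ Xa M Y ∧ X ⊔ Y = A) ∨
      (∀ a ∈ A, (¬ ∀ w ∈ W, a • w = w) → ∀ w ∈ W, a • w = w → w ∈ (fxd A : AddSubgroup M))
  cov : ∀ A ≤ S, El A → Xa M A → ¬ Fx W A → ∀ U : AddSubgroup M, (∀ h : H, ∀ u ∈ U, h • u ∈ U) →
    U ≤ fxd (cw W A) → ¬ U ≤ fxd A → ∀ s ∈ S, (∀ u ∈ U, s • u = u) → ∀ w ∈ W, s • w = w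
  wab : ∀ A ≤ S, El A → Xa M A → ∀ B ≤ S, Mn M B → ∀ a ∈ A, ∀ b ∈ B, ∀ w ∈ W,
    a • b • w = b • a • w

variable {G : Type u} [Group G]

section pre

variable {L U : Subgroup G} (Q : Nrm L U)

/-- every subgroup of `im Q S` is the image of a subgroup of `S` -/
theorem exists_pre {S : Subgroup G} {A : Subgroup (XH Q)} (h : A ≤ im Q S) : ∃ B ≤ S, B ≤ L ∧ im Q B = A := by
  refine ⟨S ⊓ (A.comap (ph Q)).map L.subtype, inf_le_left, ?_, ?_⟩
  · rintro _ ⟨-, y, -, rfl⟩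
    exact y.2
  · ext x
    constructor
    · rintro ⟨a, ⟨-, y, hy, h1⟩, rfl⟩
      obtain rfl : y = a := Subtype.ext h1
      exact hy
    · intro hx
      obtain ⟨a, ha, rfl⟩ := h hx
      exact ⟨a, ⟨ha, a, hx, rfl⟩, rfl⟩

/-- `im Q A` centralises `Q.ad X` iff `A` centralises `U ⊓ X` -/
theorem fx_ad_iff {A X : Subgroup G} (hA : A ≤ L) (hX : X ≤ U) :
    Fx (Q.ad X) (im Q A) ↔ A ≤ centralizer (X : Set G) := by
  unfold Fx
  rw [im_smul]
  constructor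
  · intro h a ha
    rw [mem_centralizer_iff]
    intro x hx
    have h1 := h a ha (hA ha) (Q.of x (hX hx)) hx
    rw [Nrm.val_of, mul_inv_eq_iff_eq_mul] at h1
    exact h1.symm
  · intro h a ha _ m hm
    rw [mul_inv_eq_iff_eq_mul]
    exact (mem_centralizer_iff.1 (h ha) _ hm).symm

end pre

open Classical in
/-- `im Q P ↦ V_P` -/
noncomputable def WW (S L : Subgroup G) {U : Subgroup G} (Q : Nrm L U) (K : Subgroup (XH Q)) : AddSubgroup Q.Mod :=
  if h : ∃ P, IsParS S P ∧ P ≤ L ∧ K = im Q P then Q.ad (zl S h.choose) else ⊥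

theorem exists_WW {S L U : Subgroup G} {Q : Nrm L U} {K : Subgroup (XH Q)} (hK : K ∈ Ps S L Q) :
    ∃ P, IsParS S P ∧ P ≤ L ∧ K = im Q P ∧ WW S L Q K = Q.ad (zl S P) := by
  have h : ∃ P, IsParS S P ∧ P ≤ L ∧ K = im Q P := hK
  refine ⟨h.choose, h.choose_spec.1, h.choose_spec.2.1, h.choose_spec.2.2, ?_⟩
  unfold WW
  rw [dif_pos h]

theorem zl_le_of_im {S L U P P' : Subgroup G} (Q : Nrm L U) (hU : zc S ≤ U) (hP : P ≤ L) (h : im Q P ≤ im Q P') :
    zl S P ≤ zl S P' := by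
  refine iSup_le fun g => ?_
  rintro _ ⟨z, hz, rfl⟩
  obtain ⟨p, hp, h1⟩ := h (ph_mem_im Q (a := ⟨g, hP g.2⟩) g.2)
  have h2 := (ph_eq Q).1 h1 (Q.of z (hU hz))
  have h3 := congrArg Q.val h2
  rw [Nrm.val_smul, Nrm.val_smul, Nrm.val_of] at h3
  have h4 := (mem_normalizer_iff.1 (MinSimple.VModule.le_normalizer_zl S P' hp) z).1
    (MinSimple.VModule.zc_le_zl S P' hz)
  change (p : G) * z * (p : G)⁻¹ ∈ _ at h4
  rw [h3] at h4
  exact h4

theorem WW_im {S L U P : Subgroup G} (Q : Nrm L U) (hU : zc S ≤ U) (hP : IsParS S P) (hPL : P ≤ L) :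
    WW S L Q (im Q P) = Q.ad (zl S P) := by
  obtain ⟨P', -, hPL', h1, h2⟩ := exists_WW (S := S) (L := L) (Q := Q) (K := im Q P) ⟨P, hP, hPL, rfl⟩
  rw [h2, le_antisymm (zl_le_of_im (S := S) Q hU hPL' h1.ge) (zl_le_of_im (S := S) Q hU hPL h1.le)]

section gy

variable [Finite G] {S : Sylow 2 G} {L : Subgroup G} (Q : Nrm L (zl (S : Subgroup G) L))

/-- **the instance** -/
theorem gy_of (hc : IsCharacteristicTwoType G) (hSL : (S : Subgroup G) ≤ L) (hL : IsLoc (S : Subgroup G) L)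
    (gen : L ≤ sSup {P | IsParS (S : Subgroup G) P ∧ P ≤ L})
    (el : IsElementaryAbelian 2 (zl (S : Subgroup G) L)) (no : NoOverM (zl (S : Subgroup G) L) L)
    (h : ∀ P, IsParS (S : Subgroup G) P → P ≤ L →
      Gp Q.Mod (im Q (S : Subgroup G)) (im Q P) (Q.ad (zl (S : Subgroup G) P))) :
    Gy Q.Mod (im Q (S : Subgroup G)) (Ps (S : Subgroup G) L Q) (WW (S : Subgroup G) L Q) where
  sit :=
    { faith := fun x _ hx => XH_faith Q x hx
      ch := fun m => Nrm.ext (by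
        rw [Nrm.val_add, Nrm.val_zero]
        have := el.2 _ (Q.val_mem m)
        rwa [pow_two] at this)
      no := fun F _ h1 h2 => by
        have h3 := no_XH Q no F (fun x hx y hy => h2 x hx y hy) (fun x hx => h1 x hx)
        have h4 := AddSubgroup.card_mul_index (fxd F : AddSubgroup Q.Mod)
        rw [← h4, mul_comm]
        exact Nat.mul_le_mul_left _ h3 }
  gen := sSup_Ps Q gen
  SP := by
    rintro _ ⟨P, hP, -, rfl⟩
    exact im_mono Q hP.le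
  WP := by
    intro K hK
    obtain ⟨P, hP, hPL, rfl, h1⟩ := exists_WW hK
    rw [h1]
    rintro _ ⟨p, hp, rfl⟩ w hw
    rw [ph_smul]
    refine Nrm.mem_ad.2 ?_
    rw [Nrm.val_smul]
    exact (mem_normalizer_iff.1 (MinSimple.VModule.le_normalizer_zl (S : Subgroup G) P hp) _).1 hw
  PS := by
    intro K hK
    obtain ⟨P, hP, hPL, rfl, h1⟩ := exists_WW hK
    rw [h1]
    intro A hA hfx
    obtain ⟨B, hBS, hBL, rfl⟩ := exists_pre Q hA
    rintro _ ⟨p, hp, rfl⟩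
    rw [fx_ad_iff Q hBL (NOThreeL.Star.zl_mono _ hPL)] at hfx
    have h2 : B ≤ o2 P := by
      rw [← hP.inf_centralizer S hc]
      exact le_inf hBS hfx
    rw [← im_cj]
    refine im_mono Q ?_
    have h3 : MulAut.conj (p : G) • B ≤ o2 P := by
      intro x hx
      have h4 := h2 (NS.mem_conj.1 hx)
      have h5 : (p : G) ∈ normalizer (o2 P : Set G) := le_normalizer_o2 P hp
      have h6 := (mem_normalizer_iff.1 h5 _).1 h4
      have e : (p : G) * ((p : G)⁻¹ * x * p) * (p : G)⁻¹ = x := by group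
      rwa [e] at h6
    exact h3.trans hP.isLoc.o2_le
  gal := by
    intro A hA hne
    obtain ⟨B, hBS, hBL, rfl⟩ := exists_pre Q hA
    have h1 : ¬ B ≤ centralizer (zl (S : Subgroup G) L : Set G) := by
      intro h2
      apply hne
      rw [eq_bot_iff]
      rintro _ ⟨b, hb, rfl⟩
      rw [Subgroup.mem_bot]
      exact MonoidHom.mem_ker.1 ((Blk.TypesNat.mem_ker Q).2 (h2 hb))
    obtain ⟨m, hm, P, hP, hPL, hmS, hmP⟩ := VF.gallery hc S hL gen hBL (S.isPGroup'.to_le hBS) h1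
    have h3 : im Q P ∈ Ps (S : Subgroup G) L Q := ⟨P, hP, hPL, rfl⟩
    refine ⟨ph Q ⟨m, hm⟩, ?_, ?_⟩
    · have h4 : im Q (MulAut.conj m • B) ≤ im Q (S : Subgroup G) := im_mono Q (by rwa [conj_eq_cj])
      have h5 := im_cj Q (A := B) ⟨m, hm⟩
      rwa [h5] at h4
    · refine ⟨_, h3, ?_⟩
      rw [WW_im Q (MinSimple.VModule.zc_le_zl _ _) hP hPL, ← im_cj, fx_ad_iff Q _ (NOThreeL.Star.zl_mono _ hPL)]
      · rwa [← conj_eq_cj] at hmP
      · change MulAut.conj m • B ≤ L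
        rw [conj_eq_cj]
        exact hmS.trans hSL
  sy := by
    intro K hK
    obtain ⟨P, hP, hPL, rfl, h1⟩ := exists_WW hK
    exact (h P hP hPL).sy
  split := by
    intro K hK
    obtain ⟨P, hP, hPL, rfl, h1⟩ := exists_WW hK
    rw [h1]
    exact (h P hP hPL).split
  one := by
    intro K hK
    obtain ⟨P, hP, hPL, rfl, h1⟩ := exists_WW hK
    rw [h1]
    exact (h P hP hPL).one
  quad := by
    intro K hK
    obtain ⟨P, hP, hPL, rfl, h1⟩ := exists_WW hK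
    rw [h1]
    exact (h P hP hPL).quad
  out := by
    intro K hK
    obtain ⟨P, hP, hPL, rfl, h1⟩ := exists_WW hK
    rw [h1]
    exact (h P hP hPL).out
  pair := by
    intro K hK
    obtain ⟨P, hP, hPL, rfl, h1⟩ := exists_WW hK
    rw [h1]
    exact (h P hP hPL).pair
  sg := by
    intro K hK
    obtain ⟨P, hP, hPL, rfl, h1⟩ := exists_WW hK
    rw [h1]
    exact (h P hP hPL).sg
  cov := by
    intro K hK
    obtain ⟨P, hP, hPL, rfl, h1⟩ := exists_WW hK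
    rw [h1]
    exact (h P hP hPL).cov
  wab := by
    intro K hK
    obtain ⟨P, hP, hPL, rfl, h1⟩ := exists_WW hK
    rw [h1]
    exact (h P hP hPL).wab

end gy

end Cfsg.Agent.Omega.NOThreeL.RRed.Ex.Inst

end

section


/-!
# NO-3L, box R: THEOREM EX (#27096), the instance of `Gy`: the fields `sy` and `split` (text: helper245)

`Q : Nrm L U`, `H := XH Q`, `M := Q.Mod`, `S := im Q S`, `im Q P` for `P ∈ P*(S)`, `P ≤ L`.

* `exists_im` : the subgroups of `im Q S` are the `im Q A`, `A ≤ S`;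
* `sy_grp`, **`sy`** : `A ≤ S ≤ P`, `p ∈ P`: `A^(kp) ≤ S` for some `k ∈ ⟨A^P⟩` (Frattini);
* `cw_im` : `C_{im A}(W) = im (C_A(W))` for `W ≤ U`;
* `exa_of`, `xa_of` : exactness in the two languages;
* **`split`** : `A ≤ S` exact on `U = zl S L`, moving `V_P`: `C_A(V_P)` is exact, `C_U(C_A(V_P)) = V_P C_U(A)`.
-/

set_option autoImplicit false
set_option linter.unusedSectionVars false

namespace Cfsg.Agent.Omega.NOThreeL.RRed.Ex.InstB

open Subgroup Cfsg Cfsg.Agent.ZN Cfsg.Agent.Omega.MinPar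
open Cfsg.Agent.Omega.FFThm
open Cfsg.Agent.Omega.NOThreeL.RSplit (Nrm)
open Cfsg.Agent.Omega.NOThreeL.RRed.NS (fxd brk mem_fxd smul_eq_iff)
open Cfsg.Agent.Omega.NOThreeL.RRed.Blk.Split (ncl mem_ncl le_ncl norm_ncl ncl_le)
open Cfsg.Agent.Omega.NOThreeL.RRed.Blk.TypesNat (XH ph ph_smul mem_ker)
open Cfsg.Agent.Omega.NOThreeL.RRed.Blk.AsmCore
open Cfsg.Agent.Omega.NOThreeL.RRed.Blk.Types (El)
open scoped Pointwise

universe u

variable {G : Type u} [Group G]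

section basic

variable {L U : Subgroup G} (Q : Nrm L U)

/-- the subgroups of `im Q S` are images of subgroups of `S` -/
theorem exists_im {S : Subgroup G} {A' : Subgroup (XH Q)} (h : A' ≤ im Q S) : ∃ A ≤ S, im Q A = A' := by
  refine ⟨(A'.comap (ph Q)).map L.subtype ⊓ S, inf_le_right, ?_⟩
  ext x
  rw [mem_im]
  constructor
  · rintro ⟨a, ⟨⟨b, hb, hba⟩, -⟩, rfl⟩
    have h1 : b = a := Subtype.ext hba
    exact h1 ▸ hb
  · intro hx
    obtain ⟨s, hs, rfl⟩ := h hx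
    exact ⟨s, ⟨⟨s, hx, rfl⟩, hs⟩, rfl⟩

theorem im_ncl_le {P A : Subgroup G} (hP : P ≤ L) (hA : A ≤ L) :
    im Q (ncl P A) ≤ closure {x | ∃ g ∈ im Q P, ∃ a ∈ im Q A, x = g * a * g⁻¹} := by
  apply im_le_of
  unfold ncl
  rw [closure_le]
  rintro _ ⟨g, hg, a, ha, rfl⟩
  refine ⟨⟨g, hP hg⟩ * ⟨a, hA ha⟩ * ⟨g, hP hg⟩⁻¹, ?_, rfl⟩
  rw [SetLike.mem_coe, mem_comap, map_mul, map_mul, map_inv]
  exact subset_closure ⟨_, ph_mem_im Q hg, _, ph_mem_im Q ha, rfl⟩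

/-- `C_{im A}(W) = im (C_A(W))`, `W ≤ U` -/
theorem cw_im {W A : Subgroup G} (hW : W ≤ U) : cw (Q.ad W) (im Q A) = im Q (A ⊓ centralizer (W : Set G)) := by
  ext x
  rw [mem_cw, mem_im, mem_im]
  constructor
  · rintro ⟨⟨a, ha, rfl⟩, h⟩
    refine ⟨a, mem_inf.2 ⟨ha, mem_centralizer_iff.2 fun w hw => ?_⟩, rfl⟩
    have h1 := h (Q.of w (hW hw)) hw
    rw [ph_smul, smul_eq_iff, Nrm.val_of, mul_inv_eq_iff_eq_mul] at h1
    exact h1.symm
  · rintro ⟨a, ha, rfl⟩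
    refine ⟨⟨a, (mem_inf.1 ha).1, rfl⟩, fun w hw => ?_⟩
    rw [ph_smul, smul_eq_iff, mul_inv_eq_iff_eq_mul]
    exact (mem_centralizer_iff.1 (mem_inf.1 ha).2 _ hw).symm

theorem fx_im {W A : Subgroup G} (hW : W ≤ U) (hA : A ≤ L) :
    Fx (Q.ad W) (im Q A) ↔ A ≤ centralizer (W : Set G) := by
  constructor
  · intro h a ha
    rw [mem_centralizer_iff]
    intro w hw
    have h1 := h _ (ph_mem_im Q (a := ⟨a, hA ha⟩) ha) (Q.of w (hW hw)) hw
    rw [ph_smul, smul_eq_iff, Nrm.val_of, mul_inv_eq_iff_eq_mul] at h1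
    exact h1.symm
  · rintro h _ ⟨a, ha, rfl⟩ w hw
    rw [ph_smul, smul_eq_iff, mul_inv_eq_iff_eq_mul]
    exact (mem_centralizer_iff.1 (h ha) _ hw).symm

theorem elemM_of {A : Subgroup G} (hA : A ≤ L) (h : El (im Q A)) : ElemM U A where
  sq a ha := by
    have h1 := h.sq _ (ph_mem_im Q (a := ⟨a, hA ha⟩) ha)
    rw [← map_mul] at h1
    have h2 := (mem_ker Q).1 (MonoidHom.mem_ker.2 h1)
    rw [pow_two]
    exact h2
  comm a ha b hb := by
    have h1 := h.cm _ (ph_mem_im Q (a := ⟨a, hA ha⟩) ha) _ (ph_mem_im Q (a := ⟨b, hA hb⟩) hb)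
    have h3 : ph Q (⟨a, hA ha⟩ * ⟨b, hA hb⟩ * ⟨a, hA ha⟩⁻¹ * ⟨b, hA hb⟩⁻¹) = 1 := by
      rw [map_mul, map_mul, map_mul, map_inv, map_inv, h1]
      group
    exact (mem_ker Q).1 (MonoidHom.mem_ker.2 h3)

theorem card_mod : Nat.card Q.Mod = Nat.card U := rfl

theorem card_fxd_im [Finite G] {A : Subgroup G} (hA : A ≤ L) :
    Nat.card (fxd (im Q A) : AddSubgroup Q.Mod) = Nat.card ↥(U ⊓ centralizer (A : Set G)) := by
  have h1 : (fxd (im Q A) : AddSubgroup Q.Mod) = Q.ad (U ⊓ centralizer (A : Set G)) := by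
    ext m
    rw [fxd_im Q hA, Nrm.mem_ad, mem_inf]
    exact (and_iff_right (Q.val_mem m)).symm
  rw [h1, Nrm.card_ad inf_le_left]

theorem xa_of [Finite G] {A : Subgroup G} (hA : A ≤ L) (h : Exa U A) : Xa Q.Mod (im Q A) := by
  unfold Xa
  unfold Exa at h
  rw [card_fxd_im Q hA, card_mod]
  rw [← card_im Q hA] at h
  refine Nat.le_of_mul_le_mul_right ?_ (Nat.card_pos : 0 < Nat.card ↥(A ⊓ centralizer (U : Set G)))
  rw [h]
  exact le_of_eq (by ring)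

theorem exa_of [Finite G] {A : Subgroup G} (hA : A ≤ L) (hno : NoOverM U L) (hE : ElemM U A) (h : Xa Q.Mod (im Q A)) :
    Exa U A := by
  unfold Xa at h
  unfold Exa
  rw [card_fxd_im Q hA, card_mod] at h
  refine le_antisymm ?_ (hno A hA hE)
  calc Nat.card U * Nat.card ↥(A ⊓ centralizer (U : Set G))
      ≤ Nat.card (im Q A) * Nat.card ↥(U ⊓ centralizer (A : Set G)) * Nat.card ↥(A ⊓ centralizer (U : Set G)) :=
        Nat.mul_le_mul_right _ h
    _ = Nat.card (im Q A) * Nat.card ↥(A ⊓ centralizer (U : Set G)) * Nat.card ↥(U ⊓ centralizer (A : Set G)) := by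
        ring
    _ = Nat.card A * Nat.card ↥(U ⊓ centralizer (A : Set G)) := by rw [card_im Q hA]

end basic

/-! ### `sy` -/

/-- Frattini in `P` for `⟨A^P⟩` -/
theorem sy_grp [Finite G] {S P A : Subgroup G} (hSP : S ≤ P) (hS : IsPGroup 2 S) (hd : ¬ 2 ∣ S.relIndex P)
    (hA : A ≤ S) {p : G} (hp : p ∈ P) : ∃ k ∈ ncl P A, MulAut.conj (k * p) • A ≤ S := by
  have h1 := MinSimple.Basic.frattini hSP hS hd (norm_ncl (P := P) (A := A)) hp
  have h2 : p ∈ ((ncl P A ⊔ (P ⊓ normalizer ((S ⊓ ncl P A : Subgroup G) : Set G)) : Subgroup G) : Set G) := h1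
  rw [coe_mul_of_right_le_normalizer_left _ _ (inf_le_left.trans norm_ncl)] at h2
  obtain ⟨k, hk, n, hn, rfl⟩ := h2
  refine ⟨k⁻¹, inv_mem hk, ?_⟩
  dsimp only
  have e : k⁻¹ * (k * n) = n := by group
  rw [e]
  intro x hx
  rw [NS.mem_conj] at hx
  have h3 : n⁻¹ * x * n ∈ S ⊓ ncl P A := ⟨hA hx, le_ncl hx⟩
  have h4 := (mem_normalizer_iff.1 hn.2 _).1 h3
  have e2 : n * (n⁻¹ * x * n) * n⁻¹ = x := by group
  rw [e2] at h4
  exact h4.1

/-- **the field `sy`** -/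
theorem sy [Finite G] (S : Sylow 2 G) {L U P : Subgroup G} (Q : Nrm L U) (hSP : (S : Subgroup G) ≤ P) (hPL : P ≤ L) :
    ∀ A ≤ im Q (S : Subgroup G), ∀ p ∈ im Q P,
      ∃ k ∈ closure {x | ∃ g ∈ im Q P, ∃ a ∈ A, x = g * a * g⁻¹}, MulAut.conj (k * p) • A ≤ im Q (S : Subgroup G) := by
  intro A' hA' p' hp'
  obtain ⟨A, hA, rfl⟩ := exists_im Q hA'
  obtain ⟨p, hp, rfl⟩ := hp'
  have hAP : A ≤ P := hA.trans hSP
  obtain ⟨k, hk, h1⟩ := sy_grp hSP S.isPGroup' (MinSimple.Basic.not_dvd_relIndex S hSP) hA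
    (show (p : G) ∈ P from hp)
  have hkL : k ∈ L := hPL (ncl_le hAP hk)
  refine ⟨ph Q ⟨k, hkL⟩, im_ncl_le Q hPL (hAP.trans hPL) (ph_mem_im Q hk), ?_⟩
  rw [← map_mul, ← im_cj]
  exact im_mono Q h1

/-! ### `split` -/

/-- **the field `split`** -/
theorem split [Finite G] (hc : IsCharacteristicTwoType G) {S : Sylow 2 G} {L P : Subgroup G}
    (Q : Nrm L (zl (S : Subgroup G) L)) (hP : IsParS (S : Subgroup G) P) (hPL : P ≤ L)
    (hno : NoOverM (zl (S : Subgroup G) L) L) :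
    ∀ A ≤ im Q (S : Subgroup G), El A → Xa Q.Mod A → ¬ Fx (Q.ad (zl (S : Subgroup G) P)) A →
      Xa Q.Mod (cw (Q.ad (zl (S : Subgroup G) P)) A) ∧
      ∀ m ∈ (fxd (cw (Q.ad (zl (S : Subgroup G) P)) A) : AddSubgroup Q.Mod),
        ∃ w ∈ Q.ad (zl (S : Subgroup G) P), ∃ c ∈ (fxd A : AddSubgroup Q.Mod), m = w + c := by
  intro A' hA' hE hX hF
  obtain ⟨A, hA, rfl⟩ := exists_im Q hA'
  have hAL : A ≤ L := (hA.trans hP.le).trans hPL
  have hWU : zl (S : Subgroup G) P ≤ zl (S : Subgroup G) L := NOThreeL.Star.zl_mono _ hPL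
  have hcomm : zl (S : Subgroup G) L ≤ centralizer (zl (S : Subgroup G) L : Set G) := fun x hx =>
    mem_centralizer_iff.2 fun y hy => Q.ab y hy x hx
  have hEM := elemM_of Q hAL hE
  have hex := exa_of Q hAL hno hEM hX
  have hne : ¬ A ≤ centralizer (zl (S : Subgroup G) P : Set G) := fun h => hF ((fx_im Q hWU hAL).2 h)
  obtain ⟨h1, -, -, -, h2⟩ := exact_split hc hP hPL hno hcomm hA hEM hex hne
  have hFL : A ⊓ centralizer (zl (S : Subgroup G) P : Set G) ≤ L := inf_le_left.trans hAL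
  rw [cw_im Q hWU]
  refine ⟨xa_of Q hFL h1, fun m hm => ?_⟩
  rw [fxd_im Q hFL] at hm
  have h3 : Q.val m ∈ zl (S : Subgroup G) P ⊔ (zl (S : Subgroup G) L ⊓ centralizer (A : Set G)) := by
    rw [← h2]
    exact mem_inf.2 ⟨Q.val_mem m, hm⟩
  have h4 : Q.val m ∈ ((zl (S : Subgroup G) P ⊔ (zl (S : Subgroup G) L ⊓ centralizer (A : Set G)) : Subgroup G) :
      Set G) := h3
  rw [coe_mul_of_left_le_normalizer_right _ _ ((hWU.trans hcomm).trans
    ((centralizer_le inf_le_left).trans (centralizer_le_normalizer _)))] at h4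
  obtain ⟨w, hw, c, hc', h5⟩ := h4
  refine ⟨Q.of w (hWU hw), hw, Q.of c (mem_inf.1 hc').1, ?_, ?_⟩
  · rw [fxd_im Q hAL]
    exact (mem_inf.1 hc').2
  · exact Nrm.ext (by rw [Nrm.val_add]; exact h5.symm)

end Cfsg.Agent.Omega.NOThreeL.RRed.Ex.InstB

end

section


/-!
# NO-3L, box R: THEOREM EX (#26554), the field `cov`

`A ≤ S` exact on `V = zl S L`, moving `V_P`, `F = C_A(V_P)`; `U ≤ V` is normalised by `P`, centralised by `F`, not by `A`.
Then `U ∩ V_P` covers `V_P / C_{V_P}(O²(P))`, so `V_P ≤ U Z`: an `s ∈ S` which centralises `U` centralises `V_P`.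
-/

set_option autoImplicit false
set_option linter.unusedSectionVars false

namespace Cfsg.Agent.Omega.NOThreeL.RRed.Ex.Cov

open Subgroup Cfsg Cfsg.Agent.ZN Cfsg.Agent.Omega.MinPar
open Cfsg.Agent.Omega.FFThm
open Cfsg.Agent.Omega.FrameFF (cv)
open Cfsg.Agent.Omega.NOThreeL.RSplit (Nrm)
open Cfsg.Agent.Omega.NOThreeL.RRed.NS (fxd brk mem_fxd smul_eq_iff conj_eq_cj)
open Cfsg.Agent.Omega.NOThreeL.RRed.Blk.Types (El)
open Cfsg.Agent.Omega.NOThreeL.RRed.Blk.TypesNat (XH ph ph_smul ph_surj)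
open Cfsg.Agent.Omega.NOThreeL.RRed.Blk.AsmCore
open Cfsg.Agent.MinSimple.VModule (oddGen)
open scoped Pointwise

universe u

variable {G : Type u} [Group G]

theorem norm_of {X T : Subgroup G} (h : ∀ g ∈ X, ∀ x ∈ T, g * x * g⁻¹ ∈ T) : X ≤ normalizer (T : Set G) := by
  intro g hg
  rw [mem_normalizer_iff]
  refine fun x => ⟨h g hg x, fun hx => ?_⟩
  have h1 := h g⁻¹ (inv_mem hg) _ hx
  have e : g⁻¹ * (g * x * g⁻¹) * g⁻¹⁻¹ = x := by group
  rwa [e] at h1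

variable [Finite G] {S : Sylow 2 G} {L P A : Subgroup G}

/-- `W ≤ V_P` normalised by `P`, `W ≰ cv`: `V_P = W cv` -/
theorem cover (hP : IsParS (S : Subgroup G) P) (hc : ConclM (S : Subgroup G) P)
    {W : Subgroup G} (hW : W ≤ zl (S : Subgroup G) P) (hPW : P ≤ normalizer (W : Set G))
    (hWD : ¬ W ≤ cv (S : Subgroup G) P) :
    ∀ v ∈ zl (S : Subgroup G) P, ∃ w ∈ W, w⁻¹ * v ∈ cv (S : Subgroup G) P := by
  have hSP := hP.le
  intro v hv
  rcases hc with ⟨F, _, _, _, k, hk, ⟨M⟩⟩ | ⟨k, m, hk, hm, ⟨M⟩⟩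
  · obtain ⟨w, hw, he⟩ := cover_nat M.toNatK hSP hW hPW hWD (M.e v)
    refine ⟨w, hw, (M.ker _ (mul_mem (inv_mem (hW hw)) hv)).1 ?_⟩
    have h1 := M.mul w (hW hw) (w⁻¹ * v) (mul_mem (inv_mem (hW hw)) hv)
    rw [mul_inv_cancel_left, he] at h1
    exact left_eq_add.1 h1
  · obtain ⟨w, hw, he⟩ := cover_sym M.toSymK hSP (by omega) hW hPW hWD hv
    refine ⟨w, hw, (M.ker _ (mul_mem (inv_mem (hW hw)) hv)).1 ?_⟩
    have h1 := M.mul w (hW hw) (w⁻¹ * v) (mul_mem (inv_mem (hW hw)) hv)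
    rw [mul_inv_cancel_left, he] at h1
    exact left_eq_add.1 h1

/-- an offender centralises `cv` -/
theorem cv_le (hc : ConclM (S : Subgroup G) P) (hA : A ≤ (S : Subgroup G)) (hoff : OffM (zl (S : Subgroup G) P) A) :
    cv (S : Subgroup G) P ≤ centralizer (A : Set G) := by
  intro d hd
  rw [mem_centralizer_iff]
  intro a ha
  rcases hc with ⟨F, _, _, _, k, hk, ⟨M⟩⟩ | ⟨k, m, hk, hm, ⟨M⟩⟩
  · obtain ⟨I, hI1, -⟩ := M.offM A hA hoff
    obtain ⟨b, -, hb⟩ := hI1 a ha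
    exact hb.2 d hd
  · exact (M.offM A hA hoff).1 a ha d hd

/-- `V_P ≤ W Z` -/
theorem zl_le_sup (hP : IsParS (S : Subgroup G) P) (hc : ConclM (S : Subgroup G) P)
    {W : Subgroup G} (hW : W ≤ zl (S : Subgroup G) P) (hPW : P ≤ normalizer (W : Set G))
    (hWD : ¬ W ≤ cv (S : Subgroup G) P) : zl (S : Subgroup G) P ≤ W ⊔ zc (S : Subgroup G) := by
  have hcov := cover hP hc hW hPW hWD
  have hZ := MinSimple.VModule.zc_le_zl (S : Subgroup G) P
  have key : ∀ g, g ∈ P → (∀ z ∈ zc (S : Subgroup G), g * z * g⁻¹ ∈ W ⊔ zc (S : Subgroup G)) →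
      ∀ x ∈ W ⊔ zc (S : Subgroup G), g * x * g⁻¹ ∈ W ⊔ zc (S : Subgroup G) := by
    intro g hg hz
    have h1 : W ⊔ zc (S : Subgroup G) ≤ (W ⊔ zc (S : Subgroup G)).comap (MulAut.conj g).toMonoidHom := by
      refine sup_le (fun w hw => ?_) fun z hz' => hz z hz'
      exact mem_sup_left ((mem_normalizer_iff.1 (hPW hg) w).1 hw)
    exact fun x hx => h1 hx
  refine MinSimple.VModule.zl_le le_sup_right ?_
  conv_lhs => rw [← NoFF.LinesPlug.oddGen_sup hP.le (MinSimple.Basic.not_dvd_relIndex S hP.le)]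
  refine sup_le ?_ ?_
  · refine norm_of fun g hg => key g (MinSimple.VModule.oddGen_le P hg) fun z hz => ?_
    obtain ⟨w, hw, hd⟩ := hcov z (hZ hz)
    have h2 : g * (w⁻¹ * z) = w⁻¹ * z * g := mem_centralizer_iff.1 hd.2 g hg
    have e : g * z * g⁻¹ = (g * w * g⁻¹) * (w⁻¹ * z) := by
      calc g * z * g⁻¹ = g * w * (w⁻¹ * z) * g⁻¹ := by group
        _ = g * w * g⁻¹ * (g * (w⁻¹ * z)) * g⁻¹ := by group
        _ = _ := by rw [h2]; group
    rw [e]
    have h3 := (mem_normalizer_iff.1 (hPW (MinSimple.VModule.oddGen_le P hg)) w).1 hw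
    exact mul_mem (mem_sup_left h3) (mul_mem (mem_sup_left (inv_mem hw)) (mem_sup_right hz))
  · refine norm_of fun g hg => key g (hP.le hg) fun z hz => ?_
    have h2 : g * z = z * g := (MinSimple.VModule.mem_zc.1 hz).2.1 g hg
    rw [h2, mul_inv_cancel_right]
    exact mem_sup_right hz

/-- **`cov`**, group form -/
theorem cov_g (hc : IsCharacteristicTwoType G) (hP : IsParS (S : Subgroup G) P) (hPL : P ≤ L)
    (hno : NoOverM (zl (S : Subgroup G) L) L)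
    (hcomm : zl (S : Subgroup G) L ≤ centralizer (zl (S : Subgroup G) L : Set G))
    (hA : A ≤ (S : Subgroup G)) (hE : ElemM (zl (S : Subgroup G) L) A)
    (hex : Exa (zl (S : Subgroup G) L) A) (hne : ¬ A ≤ centralizer (zl (S : Subgroup G) P : Set G))
    {U : Subgroup G} (hU : U ≤ zl (S : Subgroup G) L) (hPU : P ≤ normalizer (U : Set G))
    (hF : U ≤ centralizer ((A ⊓ centralizer (zl (S : Subgroup G) P : Set G) : Subgroup G) : Set G))
    (hUA : ¬ U ≤ centralizer (A : Set G)) {s : G} (hs : s ∈ (S : Subgroup G)) (hsU : s ∈ centralizer (U : Set G)) :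
    s ∈ centralizer (zl (S : Subgroup G) P : Set G) := by
  obtain ⟨-, -, hoff, hconcl, hspl⟩ := exact_split hc hP hPL hno hcomm hA hE hex hne
  have hn : P ≤ normalizer (zl (S : Subgroup G) P : Set G) := MinSimple.VModule.le_normalizer_zl _ _
  have hPW : P ≤ normalizer ((U ⊓ zl (S : Subgroup G) P : Subgroup G) : Set G) :=
    (le_inf hPU hn).trans (Subgroup.inf_normalizer_le_normalizer_inf)
  have hVU : zl (S : Subgroup G) P ≤ zl (S : Subgroup G) L := Star.zl_mono _ hPL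
  have hWD : ¬ U ⊓ zl (S : Subgroup G) P ≤ cv (S : Subgroup G) P := by
    intro h
    rcases par_dich hc hP hconcl hA hoff (inf_le_right : U ⊓ zl (S : Subgroup G) P ≤ _) hPW with h1 | h1
    · apply hoff.ne
      rw [le_centralizer_iff]
      exact h1.trans (sup_le (h.trans (cv_le hconcl hA hoff)) inf_le_right)
    · apply hUA
      intro u hu
      have h2 : u ∈ zl (S : Subgroup G) L ⊓
          centralizer ((A ⊓ centralizer (zl (S : Subgroup G) P : Set G) : Subgroup G) : Set G) := ⟨hU hu, hF hu⟩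
      rw [hspl] at h2
      have hcm : ∀ x ∈ zl (S : Subgroup G) P, ∀ y ∈ zl (S : Subgroup G) L ⊓ centralizer (A : Set G),
          x * y = y * x := fun x hx y hy => (mem_centralizer_iff.1 (hcomm (hVU hx)) y hy.1).symm
      obtain ⟨v, hv, w, hw, rfl⟩ := F4.Split.mem_sup_comm hcm h2
      have hvA : ∀ a ∈ A, a * v = v * a := by
        refine h1 v hv fun a ha => ?_
        have haP := hP.le (hA ha)
        have haw : a * w = w * a := mem_centralizer_iff.1 hw.2 a ha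
        have e : a * (v * w) * a⁻¹ * (v * w)⁻¹ = a * v * a⁻¹ * v⁻¹ := by
          calc a * (v * w) * a⁻¹ * (v * w)⁻¹ = a * v * a⁻¹ * (a * w) * a⁻¹ * w⁻¹ * v⁻¹ := by group
            _ = a * v * a⁻¹ * v⁻¹ := by rw [haw]; group
        refine mem_inf.2 ⟨?_, mul_mem (conj_div hn haP hv) (inv_mem hv)⟩
        rw [← e]
        exact mul_mem (conj_div hPU haP hu) (inv_mem hu)
      rw [mem_centralizer_iff]
      intro a ha
      have haw : a * w = w * a := mem_centralizer_iff.1 hw.2 a ha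
      rw [← mul_assoc, hvA a ha, mul_assoc, haw, mul_assoc]
  have h3 := zl_le_sup hP hconcl inf_le_right hPW hWD
  have h4 : zl (S : Subgroup G) P ≤ centralizer ({s} : Set G) := by
    refine h3.trans (sup_le (fun w hw => ?_) fun z hz => ?_)
    · rw [mem_centralizer_singleton_iff]
      exact mem_centralizer_iff.1 hsU w hw.1
    · rw [mem_centralizer_singleton_iff]
      exact ((MinSimple.VModule.mem_zc.1 hz).2.1 s hs).symm
  rw [mem_centralizer_iff]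
  intro v hv
  exact mem_centralizer_singleton_iff.1 (h4 hv)

/-- the subgroup of a submodule -/
def gr {L U : Subgroup G} (Q : Nrm L U) (N : AddSubgroup Q.Mod) : Subgroup G where
  carrier := {x | ∃ m ∈ N, Q.val m = x}
  mul_mem' := by
    rintro _ _ ⟨m, hm, rfl⟩ ⟨m', hm', rfl⟩
    exact ⟨m + m', add_mem hm hm', Nrm.val_add m m'⟩
  one_mem' := ⟨0, zero_mem _, Nrm.val_zero⟩
  inv_mem' := by
    rintro _ ⟨m, hm, rfl⟩
    exact ⟨-m, neg_mem hm, Nrm.val_neg m⟩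

/-- **the field `cov`** -/
theorem cov (hc : IsCharacteristicTwoType G) (Q : Nrm L (zl (S : Subgroup G) L)) (hP : IsParS (S : Subgroup G) P)
    (hPL : P ≤ L) (hno : NoOverM (zl (S : Subgroup G) L) L) :
    ∀ A ≤ im Q (S : Subgroup G), El A → Xa Q.Mod A → ¬ Fx (Q.ad (zl (S : Subgroup G) P)) A →
      ∀ U : AddSubgroup Q.Mod, (∀ h : XH Q, ∀ u ∈ U, h • u ∈ U) →
      U ≤ fxd (cw (Q.ad (zl (S : Subgroup G) P)) A) → ¬ U ≤ fxd A → ∀ s ∈ im Q (S : Subgroup G),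
        (∀ u ∈ U, s • u = u) → ∀ w ∈ Q.ad (zl (S : Subgroup G) P), s • w = w := by
  intro A' hA' hE hX hF N hN hNF hNA s' hs' hsN w hw
  obtain ⟨A, hA, rfl⟩ := InstB.exists_im Q hA'
  obtain ⟨s, hs, rfl⟩ := hs'
  have hAL : A ≤ L := (hA.trans hP.le).trans hPL
  have hWU : zl (S : Subgroup G) P ≤ zl (S : Subgroup G) L := NOThreeL.Star.zl_mono _ hPL
  have hcomm : zl (S : Subgroup G) L ≤ centralizer (zl (S : Subgroup G) L : Set G) := fun x hx =>
    mem_centralizer_iff.2 fun y hy => Q.ab y hy x hx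
  have hEM := InstB.elemM_of Q hAL hE
  have hex := InstB.exa_of Q hAL hno hEM hX
  have hne : ¬ A ≤ centralizer (zl (S : Subgroup G) P : Set G) := fun h => hF ((InstB.fx_im Q hWU hAL).2 h)
  have hFL : A ⊓ centralizer (zl (S : Subgroup G) P : Set G) ≤ L := inf_le_left.trans hAL
  rw [InstB.cw_im Q hWU] at hNF
  have hsV : (s : G) ∈ centralizer (zl (S : Subgroup G) P : Set G) := by
    refine cov_g hc hP hPL hno hcomm hA hEM hex hne (U := gr Q N) ?_ ?_ ?_ ?_ hs ?_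
    · rintro _ ⟨m, -, rfl⟩
      exact Q.val_mem m
    · refine norm_of ?_
      rintro g hg _ ⟨m, hm, rfl⟩
      refine ⟨ph Q ⟨g, hPL hg⟩ • m, hN _ m hm, ?_⟩
      rw [ph_smul, Nrm.val_smul]
    · rintro _ ⟨m, hm, rfl⟩
      exact (fxd_im Q hFL).1 (hNF hm)
    · intro h
      apply hNA
      intro m hm
      exact (fxd_im Q hAL).2 (h ⟨m, hm, rfl⟩)
    · rw [mem_centralizer_iff]
      rintro _ ⟨m, hm, rfl⟩
      have h1 := hsN m hm
      rw [ph_smul, smul_eq_iff, mul_inv_eq_iff_eq_mul] at h1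
      exact h1.symm
  rw [ph_smul, smul_eq_iff, mul_inv_eq_iff_eq_mul]
  exact (mem_centralizer_iff.1 hsV _ hw).symm

end Cfsg.Agent.Omega.NOThreeL.RRed.Ex.Cov

end

section


/-!
# NO-3L, box R: THEOREM EX (#26554), the field `wab` (text: helper245)

Two offenders of `S` on `V_P` commute on `V_P`: products of root elements of `S`, resp. of transpositions of `S`.

* `nat_swap`, `sym_swap`, **`off_swap`** : the group form;
* **`wab`** : the field `wab` for one `P`.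
-/

set_option autoImplicit false
set_option linter.unusedSectionVars false

namespace Cfsg.Agent.Omega.NOThreeL.RRed.Ex.Wab

open Subgroup Cfsg Cfsg.Agent.ZN Cfsg.Agent.Omega.MinPar
open Cfsg.Agent.Omega.FFThm Cfsg.Agent.Lib.SL2Mat
open Cfsg.Agent.Omega.FrameFF (cv)
open Cfsg.Agent.Omega.NO3S.ThmB Cfsg.Agent.Omega.NO3S.ThmB.Sb
open Cfsg.Agent.Omega.NOThreeL.RSplit (Nrm)
open Cfsg.Agent.Omega.NOThreeL.RRed.NS (fxd brk mem_fxd smul_eq_iff conj_eq_cj keep' off_elem')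
open Cfsg.Agent.Omega.NOThreeL.RRed.Blk.Types (Sit El)
open Cfsg.Agent.Omega.NOThreeL.RRed.Blk.TypesNat (XH ph ph_smul XH_faith ph_eq ph_surj no_XH)
open Cfsg.Agent.Omega.NOThreeL.RRed.Blk.AsmCore (im mem_im ph_mem_im im_mono im_cj)
open Cfsg.Agent.Omega.NOThreeL.RRed.Ex.InstB (exists_im elemM_of exa_of fx_im)
open scoped Pointwise

universe u

variable {G : Type u} [Group G]

/-- natural blocks -/
theorem nat_swap {F : Type} [Field F] {S P V D : Subgroup G} {k : ℕ} {M : NatKM F S P V D k} (h : Nb M)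
    {A B : Subgroup G} (hA : A ≤ S) (hB : B ≤ S) (oA : OffM V A) (oB : OffM V B) {a b v : G} (ha : a ∈ A) (hb : b ∈ B)
    (hv : v ∈ V) : a * (b * v * b⁻¹) * a⁻¹ = b * (a * v * a⁻¹) * b⁻¹ := by
  obtain ⟨I, h1, -⟩ := M.offM A hA oA
  obtain ⟨J, h2, -⟩ := M.offM B hB oB
  obtain ⟨x, -, hx⟩ := h1 a ha
  obtain ⟨y, -, hy⟩ := h2 b hb
  exact h.swap (h.SP' (hA ha)) (h.SP' (hB hb)) hx hy (h.up_comm x y) hv

/-- blocks of letters -/
theorem sym_swap [Finite G] {S P V D : Subgroup G} {k m : ℕ} {M : SymKM S P V D k m} (h : Sb M)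
    {A B : Subgroup G} (hA : A ≤ S) (hB : B ≤ S) (oA : OffM V A) (oB : OffM V B) {a b v : G} (ha : a ∈ A) (hb : b ∈ B)
    (hv : v ∈ V) : a * (b * v * b⁻¹) * a⁻¹ = b * (a * v * a⁻¹) * b⁻¹ := by
  obtain ⟨τ, hτ, -, hτ'⟩ := off_elem' hA oA ha
  obtain ⟨σ, hσ, -, hσ'⟩ := off_elem' hB oB hb
  refine h.swap (h.SP' (hA ha)) (h.SP' (hB hb)) hτ hσ ?_ hv
  funext i
  ext1 x
  rw [Pi.mul_apply, Pi.mul_apply, Equiv.Perm.mul_apply, Equiv.Perm.mul_apply]
  by_cases hx : τ i x = x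
  · by_cases hx' : σ i x = x
    · rw [hx, hx', hx]
    · obtain ⟨-, c, hc, hcA⟩ := hσ' i x hx'
      rcases keep' h hA hτ' (hB hc) (Ne.symm hx') hcA.1 with ⟨-, h2⟩ | ⟨h1, -⟩
      · rw [hx, h2]
      · exact absurd (h1.symm.trans hx) hx'
  · obtain ⟨h0, c, hc, hcA⟩ := hτ' i x hx
    rcases keep' h hB hσ' (hA hc) (Ne.symm hx) hcA.1 with ⟨h1, h2⟩ | ⟨h1, h2⟩
    · rw [h1, h2]
    · rw [h1, h2, h0]

/-- **Two offenders of `S` on `V_P` commute on `V_P`.** -/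
theorem off_swap [Finite G] (hc : IsCharacteristicTwoType G) {S : Sylow 2 G} {P : Subgroup G}
    (hP : IsParS (S : Subgroup G) P) (cl : ConclM (S : Subgroup G) P) {A B : Subgroup G} (hA : A ≤ (S : Subgroup G))
    (hB : B ≤ (S : Subgroup G)) (oA : OffM (zl (S : Subgroup G) P) A) (oB : OffM (zl (S : Subgroup G) P) B) {a b v : G}
    (ha : a ∈ A) (hb : b ∈ B) (hv : v ∈ zl (S : Subgroup G) P) :
    a * (b * v * b⁻¹) * a⁻¹ = b * (a * v * a⁻¹) * b⁻¹ := by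
  rcases cl with ⟨F, i1, i2, i3, k, -, ⟨M⟩⟩ | ⟨k, m, -, hm, ⟨M⟩⟩
  · exact nat_swap (NO3S.ThmB.Inst.nb hc hP M) hA hB oA oB ha hb hv
  · exact sym_swap (NO3S.ThmB.Inst.sb hc hP hm M) hA hB oA oB ha hb hv

/-- one of the two acts trivially -/
theorem triv_swap {S P A : Subgroup G} (hA : A ≤ centralizer (zl S P : Set G)) {a b v : G}
    (ha : a ∈ A) (hb : b ∈ P) (hv : v ∈ zl S P) : a * (b * v * b⁻¹) * a⁻¹ = b * (a * v * a⁻¹) * b⁻¹ := by
  have h1 : ∀ w ∈ zl S P, a * w * a⁻¹ = w := fun w hw => by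
    rw [← mem_centralizer_iff.1 (hA ha) w hw, mul_inv_cancel_right]
  rw [h1 v hv, h1 _ ((mem_normalizer_iff.1 (MinSimple.VModule.le_normalizer_zl S P hb) v).1 hv)]

/-- **the field `wab`** -/
theorem wab [Finite G] (hc : IsCharacteristicTwoType G) {S : Sylow 2 G} {L P : Subgroup G}
    (Q : Nrm L (zl (S : Subgroup G) L)) (hP : IsParS (S : Subgroup G) P) (hPL : P ≤ L)
    (hno : NoOverM (zl (S : Subgroup G) L) L) :
    ∀ A ≤ im Q (S : Subgroup G), El A → Xa Q.Mod A → ∀ B ≤ im Q (S : Subgroup G), Mn Q.Mod B →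
      ∀ a ∈ A, ∀ b ∈ B, ∀ w ∈ Q.ad (zl (S : Subgroup G) P), a • b • w = b • a • w := by
  intro A' hA' hE hX B' hB' hM
  obtain ⟨A, hA, rfl⟩ := exists_im Q hA'
  obtain ⟨B, hB, rfl⟩ := exists_im Q hB'
  have hAL : A ≤ L := (hA.trans hP.le).trans hPL
  have hBL : B ≤ L := (hB.trans hP.le).trans hPL
  have hcomm : zl (S : Subgroup G) L ≤ centralizer (zl (S : Subgroup G) L : Set G) := fun x hx =>
    mem_centralizer_iff.2 fun y hy => Q.ab y hy x hx
  have hEA := elemM_of Q hAL hE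
  have hxA := exa_of Q hAL hno hEA hX
  have hEB := elemM_of Q hBL hM.el
  have hxB := exa_of Q hBL hno hEB hM.ex
  rintro _ ⟨a, ha, rfl⟩ _ ⟨b, hb, rfl⟩ w hw
  refine Nrm.ext ?_
  rw [ph_smul, ph_smul, ph_smul, ph_smul, Nrm.val_smul, Nrm.val_smul, Nrm.val_smul, Nrm.val_smul]
  by_cases h1 : A ≤ centralizer (zl (S : Subgroup G) P : Set G)
  · exact triv_swap h1 ha (hP.le (hB hb)) hw
  by_cases h2 : B ≤ centralizer (zl (S : Subgroup G) P : Set G)
  · exact (triv_swap h2 hb (hP.le (hA ha)) hw).symm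
  obtain ⟨-, -, oA, cl, -⟩ := exact_split hc hP hPL hno hcomm hA hEA hxA h1
  obtain ⟨-, -, oB, -, -⟩ := exact_split hc hP hPL hno hcomm hB hEB hxB h2
  exact off_swap hc hP cl hA hB oA oB ha hb hw

end Cfsg.Agent.Omega.NOThreeL.RRed.Ex.Wab

end

end

-- merged: Cfsg.Agent.Mrg.Omega.NOThreeL.RRed.Ex.Sg
section

section


/-!
# NO-3L, box R: THEOREM EX (#26554), the field `sg` of `Gp` from `Pf.sg`
-/

set_option autoImplicit false
set_option linter.unusedSectionVars false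

namespace Cfsg.Agent.Omega.NOThreeL.RRed.Ex.Sg

open Subgroup Cfsg Cfsg.Agent.ZN Cfsg.Agent.Omega.MinPar
open Cfsg.Agent.Omega.FFThm
open Cfsg.Agent.Omega.NOThreeL.RSplit (Nrm)
open Cfsg.Agent.Omega.NOThreeL.RRed.NS (fxd brk mem_fxd smul_eq_iff conj_eq_cj)
open Cfsg.Agent.Omega.NOThreeL.RRed.Blk.Types (El)
open Cfsg.Agent.Omega.NOThreeL.RRed.Blk.TypesNat (XH ph ph_smul ph_surj mem_ker)
open Cfsg.Agent.Omega.NOThreeL.RRed.Blk.AsmCore
open scoped Pointwise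

universe u

variable {G : Type u} [Group G]

section basic

variable {L U : Subgroup G} (Q : Nrm L U)

/-- `C_A(U) ≤ X ≤ A`, `im X = im A`: `X = A` -/
theorem eq_of_im {A X : Subgroup G} (hA : A ≤ L) (hX : X ≤ A) (hc : A ⊓ centralizer (U : Set G) ≤ X)
    (h : im Q X = im Q A) : X = A := by
  refine le_antisymm hX fun a ha => ?_
  have h1 : ph Q ⟨a, hA ha⟩ ∈ im Q X := by
    rw [h]
    exact ph_mem_im Q ha
  obtain ⟨x, hx, h2⟩ := h1
  have hx' : (x : G) ∈ X := hx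
  have h3 : (⟨a, hA ha⟩ * x⁻¹ : L) ∈ (ph Q).ker := by
    rw [MonoidHom.mem_ker, map_mul, map_inv, h2, mul_inv_cancel]
  have h4 : a * (x : G)⁻¹ ∈ centralizer (U : Set G) := (mem_ker Q).1 h3
  have h5 : a * (x : G)⁻¹ ∈ X := hc (mem_inf.2 ⟨A.mul_mem ha (A.inv_mem (hX hx')), h4⟩)
  have h6 := mul_mem h5 hx'
  rwa [inv_mul_cancel_right] at h6

theorem xa_mono [Finite G] {A X : Subgroup G} (hA : A ≤ L) (hX : X ≤ A) (hc : A ⊓ centralizer (U : Set G) ≤ X)
    (h : Xa Q.Mod (im Q A))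
    (hn : Nat.card A * Nat.card ↥(U ⊓ centralizer (A : Set G)) ≤ Nat.card X * Nat.card ↥(U ⊓ centralizer (X : Set G))) :
    Xa Q.Mod (im Q X) := by
  unfold Xa at h ⊢
  have hXL := hX.trans hA
  rw [InstB.card_fxd_im Q hA] at h
  rw [InstB.card_fxd_im Q hXL]
  have e : X ⊓ centralizer (U : Set G) = A ⊓ centralizer (U : Set G) :=
    le_antisymm (inf_le_inf_right _ hX) (le_inf hc inf_le_right)
  have h1 := card_im Q hA
  have h2 := card_im Q hXL
  rw [e] at h2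
  rw [← h1, ← h2] at hn
  refine h.trans ?_
  refine Nat.le_of_mul_le_mul_right ?_ (Nat.card_pos : 0 < Nat.card ↥(A ⊓ centralizer (U : Set G)))
  calc _ = Nat.card (im Q A) * Nat.card ↥(A ⊓ centralizer (U : Set G)) * Nat.card ↥(U ⊓ centralizer (A : Set G)) := by
        ring
    _ ≤ _ := hn
    _ = _ := by ring

end basic

/-- **the field `sg`** -/
theorem sg [Finite G] (hc : IsCharacteristicTwoType G) {S : Sylow 2 G} {L P : Subgroup G}
    (Q : Nrm L (zl (S : Subgroup G) L)) (hP : IsParS (S : Subgroup G) P) (hPL : P ≤ L)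
    (hno : NoOverM (zl (S : Subgroup G) L) L)
    (pf : ConclM (S : Subgroup G) P → Pf (S : Subgroup G) P (zl (S : Subgroup G) P) (zl (S : Subgroup G) L)) :
    ∀ A ≤ im Q (S : Subgroup G), El A → Xa Q.Mod A → ¬ Fx (Q.ad (zl (S : Subgroup G) P)) A →
    (∃ X ≤ A, ∃ Y ≤ A, X ≠ A ∧ Y ≠ A ∧ Xa Q.Mod X ∧ Xa Q.Mod Y ∧ X ⊔ Y = A) ∨
      (∀ a ∈ A, (¬ ∀ w ∈ Q.ad (zl (S : Subgroup G) P), a • w = w) →
        ∀ w ∈ Q.ad (zl (S : Subgroup G) P), a • w = w → w ∈ (fxd A : AddSubgroup Q.Mod)) := by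
  intro A' hA' hE hX hF
  obtain ⟨A, hA, rfl⟩ := InstB.exists_im Q hA'
  have hAL : A ≤ L := (hA.trans hP.le).trans hPL
  have hWU : zl (S : Subgroup G) P ≤ zl (S : Subgroup G) L := NOThreeL.Star.zl_mono _ hPL
  have hcomm : zl (S : Subgroup G) L ≤ centralizer (zl (S : Subgroup G) L : Set G) := fun x hx =>
    mem_centralizer_iff.2 fun y hy => Q.ab y hy x hx
  have hEM := InstB.elemM_of Q hAL hE
  have hex := InstB.exa_of Q hAL hno hEM hX
  have hne : ¬ A ≤ centralizer (zl (S : Subgroup G) P : Set G) := fun h => hF ((InstB.fx_im Q hWU hAL).2 h)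
  obtain ⟨-, -, hoff, hconcl, -⟩ := exact_split hc hP hPL hno hcomm hA hEM hex hne
  rcases (pf hconcl).sg A hA hoff with ⟨X, hXA, Y, hYA, hcX, hcY, hXne, hYne, hnX, hnY, hXY⟩ | h
  · left
    refine ⟨im Q X, im_mono Q hXA, im Q Y, im_mono Q hYA, fun h => hXne (eq_of_im Q hAL hXA hcX h),
      fun h => hYne (eq_of_im Q hAL hYA hcY h), xa_mono Q hAL hXA hcX hX hnX, xa_mono Q hAL hYA hcY hX hnY, ?_⟩
    refine le_antisymm (sup_le (im_mono Q hXA) (im_mono Q hYA)) ?_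
    apply im_le_of
    refine hXY.trans (sup_le ?_ ?_)
    · intro x hx
      exact ⟨⟨x, hAL (hXA hx)⟩, mem_sup_left (ph_mem_im Q hx), rfl⟩
    · intro x hx
      exact ⟨⟨x, hAL (hYA hx)⟩, mem_sup_right (ph_mem_im Q hx), rfl⟩
  · right
    rintro _ ⟨a, ha, rfl⟩ h1 w hw h2
    have h3 : (a : G) ∉ centralizer (zl (S : Subgroup G) P : Set G) := by
      intro h4
      apply h1
      intro v hv
      rw [ph_smul, smul_eq_iff, mul_inv_eq_iff_eq_mul]
      exact (mem_centralizer_iff.1 h4 _ hv).symm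
    rw [ph_smul, smul_eq_iff, mul_inv_eq_iff_eq_mul] at h2
    rw [fxd_im Q hAL, mem_centralizer_iff]
    exact fun c hc' => h a ha h3 _ hw h2 c hc'

end Cfsg.Agent.Omega.NOThreeL.RRed.Ex.Sg

end

section


/-!
# NO-3L, box R: THEOREM EX (#26554), dictionary (text: helper245, #27096 (4))

`Q : Nrm H U`, `M = Q.Mod` (`U` written additively), `im Q A` the image of `A ≤ H` in `XH Q`.

* `pre Q S A'` : the preimage of `A'` in `S`; `im_pre : A' ≤ im Q S → im Q (pre Q S A') = A'`;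
* `im_eq_bot`, `im_le_im`, `im_inf`;
* `fx_ad`, `cw_ad`, `ad_le_fxd`, `fxd_eq_ad` : action on `Q.ad X`, `X ≤ U`;
* `el_iff`, `xa_iff`, `mn_iff` : `El`, `Xa`, `Mn` of `im Q A` and `ElemM`, `Exa`, `Mx` of `A`;
* `sit` : `Sit Q.Mod ⊤`; `inv_ad` : `Q.ad D` is invariant.
-/

set_option autoImplicit false
set_option linter.unusedSectionVars false

namespace Cfsg.Agent.Omega.NOThreeL.RRed.Ex.Dict

open Subgroup Cfsg Cfsg.Agent.ZN
open Cfsg.Agent.Omega.FFThm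
open Cfsg.Agent.Omega.NOThreeL.RSplit (Nrm)
open Cfsg.Agent.Omega.NOThreeL.RRed.NS (fxd brk mem_fxd smul_eq_iff conj_eq_cj)
open Cfsg.Agent.Omega.NOThreeL.RRed.Blk.Types (Sit El)
open Cfsg.Agent.Omega.NOThreeL.RRed.Blk.TypesNat (XH ph ph_smul XH_faith ph_eq ph_surj no_XH mem_ker)
open Cfsg.Agent.Omega.NOThreeL.RRed.Blk.AsmCore (im mem_im ph_mem_im im_mono im_cj card_im fxd_im)
open Cfsg.Agent.Omega.NOThreeL.RRed.Blk.AsmEsB (fxd_card lift el_im exact_iff card_mod)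
open scoped Pointwise

universe u

variable {G : Type u} [Group G] {H U S A B X : Subgroup G} (Q : Nrm H U)

/-! ### images and preimages -/

/-- the preimage of `A'` in `S` -/
def pre (S : Subgroup G) (A' : Subgroup (XH Q)) : Subgroup G := S ⊓ (A'.comap (ph Q)).map H.subtype

theorem pre_le {A' : Subgroup (XH Q)} : pre Q S A' ≤ S := inf_le_left

theorem pre_le_H {A' : Subgroup (XH Q)} : pre Q S A' ≤ H := by
  rintro _ ⟨-, a, -, rfl⟩
  exact a.2

theorem mem_pre {A' : Subgroup (XH Q)} {x : G} : x ∈ pre Q S A' ↔ x ∈ S ∧ ∃ hx : x ∈ H, ph Q ⟨x, hx⟩ ∈ A' := by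
  constructor
  · rintro ⟨h1, a, ha, rfl⟩
    exact ⟨h1, a.2, ha⟩
  · rintro ⟨h1, hx, h2⟩
    exact ⟨h1, ⟨x, hx⟩, h2, rfl⟩

theorem im_pre {A' : Subgroup (XH Q)} (h : A' ≤ im Q S) : im Q (pre Q S A') = A' := by
  apply le_antisymm
  · rintro _ ⟨a, ha, rfl⟩
    exact ((mem_pre Q).1 ha).2.choose_spec
  · intro x hx
    obtain ⟨a, ha, rfl⟩ := h hx
    exact ⟨a, (mem_pre Q).2 ⟨ha, a.2, hx⟩, rfl⟩

/-- every subgroup of `im Q S` is `im Q A`, `A ≤ S` -/
theorem exists_im {A' : Subgroup (XH Q)} (h : A' ≤ im Q S) : ∃ A ≤ S, A ≤ H ∧ im Q A = A' :=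
  ⟨pre Q S A', pre_le Q, pre_le_H Q, im_pre Q h⟩

theorem ph_one {x : H} : ph Q x = 1 ↔ (x : G) ∈ centralizer (U : Set G) :=
  MonoidHom.mem_ker.symm.trans (mem_ker Q)

theorem im_eq_bot (hA : A ≤ H) : im Q A = ⊥ ↔ A ≤ centralizer (U : Set G) := by
  constructor
  · intro h a ha
    have h1 : ph Q ⟨a, hA ha⟩ ∈ im Q A := ph_mem_im Q (a := ⟨a, hA ha⟩) ha
    rw [h, mem_bot] at h1
    exact (ph_one Q).1 h1
  · intro h
    rw [eq_bot_iff]
    rintro _ ⟨a, ha, rfl⟩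
    exact (ph_one Q).2 (h ha)

/-- the image of a member of `A` in `im Q B` : it lies in `B C_H(U)` -/
theorem ph_mem_iff {x : H} : ph Q x ∈ im Q B ↔ ∃ b : H, (b : G) ∈ B ∧ (b : G)⁻¹ * x ∈ centralizer (U : Set G) := by
  constructor
  · rintro ⟨b, hb, h1⟩
    refine ⟨b, hb, ?_⟩
    have h2 : ph Q (b⁻¹ * x) = 1 := by rw [map_mul, map_inv, h1, inv_mul_cancel]
    exact (ph_one Q).1 h2
  · rintro ⟨b, hb, h1⟩
    have h2 : ph Q (b⁻¹ * x) = 1 := (ph_one Q).2 h1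
    rw [map_mul, map_inv, inv_mul_eq_one] at h2
    exact ⟨b, hb, h2⟩

/-- `B` contains the kernel in `A`: `im Q A ≤ im Q B` implies `A ≤ B`. -/
theorem le_of_im (hA : A ≤ H) (hB : B ≤ A) (hk : A ⊓ centralizer (U : Set G) ≤ B) (h : im Q A ≤ im Q B) : A ≤ B := by
  intro a ha
  obtain ⟨b, hb, h1⟩ := (ph_mem_iff Q).1 (h (ph_mem_im Q (a := ⟨a, hA ha⟩) ha))
  have h2 : (b : G)⁻¹ * a ∈ B := hk (mem_inf.2 ⟨mul_mem (inv_mem (hB hb)) ha, h1⟩)
  have h3 := mul_mem hb h2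
  rwa [mul_inv_cancel_left] at h3

/-! ### the action on `Q.ad X` -/

theorem fx_ad (hX : X ≤ U) (hA : A ≤ H) : Fx (Q.ad X) (im Q A) ↔ A ≤ centralizer (X : Set G) := by
  constructor
  · intro h a ha
    rw [mem_centralizer_iff]
    intro x hx
    have h1 := h _ (ph_mem_im Q (a := ⟨a, hA ha⟩) ha) (Q.of x (hX hx)) hx
    rw [ph_smul, smul_eq_iff, Nrm.val_of, mul_inv_eq_iff_eq_mul] at h1
    exact h1.symm
  · rintro h _ ⟨a, ha, rfl⟩ m hm
    rw [ph_smul, smul_eq_iff, mul_inv_eq_iff_eq_mul]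
    exact (mem_centralizer_iff.1 (h ha) _ hm).symm

theorem ad_le_fxd (hX : X ≤ U) (hA : A ≤ H) :
    Q.ad X ≤ (fxd (im Q A) : AddSubgroup Q.Mod) ↔ A ≤ centralizer (X : Set G) := by
  rw [← fx_ad Q hX hA]
  exact ⟨fun h a ha w hw => h hw a ha, fun h w hw a ha => h a ha w hw⟩

/-- `Q.ad D` is invariant -/
theorem inv_ad {D : Subgroup G} (hD : H ≤ normalizer (D : Set G)) : ∀ h : XH Q, ∀ u ∈ Q.ad D, h • u ∈ Q.ad D := by
  intro h u hu
  obtain ⟨x, rfl⟩ := ph_surj Q h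
  rw [ph_smul, Nrm.mem_ad, Nrm.val_smul]
  exact (mem_normalizer_iff.1 (hD x.2) _).1 hu

/-! ### `El`, `Xa`, `Mn` -/

theorem el_iff (hA : A ≤ H) : El (im Q A) ↔ ElemM U A := by
  refine ⟨fun h => ⟨fun a ha => ?_, fun a ha b hb => ?_⟩, el_im Q⟩
  · have h1 := h.sq _ (ph_mem_im Q (a := ⟨a, hA ha⟩) ha)
    rw [← map_mul] at h1
    rw [pow_two]
    exact (ph_one Q).1 h1
  · have h1 := h.cm _ (ph_mem_im Q (a := ⟨a, hA ha⟩) ha) _ (ph_mem_im Q (a := ⟨b, hA hb⟩) hb)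
    have h2 : ph Q (⟨a, hA ha⟩ * ⟨b, hA hb⟩ * ⟨a, hA ha⟩⁻¹ * ⟨b, hA hb⟩⁻¹) = 1 := by
      rw [map_mul, map_mul, map_mul, map_inv, map_inv, h1]
      group
    exact (ph_one Q).1 h2

section fin

variable [Finite G]

/-- a lower bound is enough -/
theorem exa_iff_le (hno : NoOverM U H) (hA : A ≤ H) (hE : ElemM U A) :
    Exa U A ↔ Nat.card U * Nat.card ↥(A ⊓ centralizer (U : Set G)) ≤ Nat.card A * Nat.card ↥(U ⊓ centralizer (A : Set G)) :=
  ⟨fun h => (show _ = _ from h).le, fun h => le_antisymm h (hno A hA hE)⟩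

theorem xa_of (hA : A ≤ H) (h : Exa U A) : Xa Q.Mod (im Q A) := ((exact_iff Q hA).1 h).ge

theorem xa_iff (hno : NoOverM U H) (hA : A ≤ H) (hE : ElemM U A) : Xa Q.Mod (im Q A) ↔ Exa U A := by
  refine ⟨fun h => (exa_iff_le hno hA hE).2 ?_, xa_of Q hA⟩
  have h' : Nat.card Q.Mod ≤ Nat.card (im Q A) * Nat.card (fxd (im Q A) : AddSubgroup Q.Mod) := h
  rw [fxd_card Q hA, ← card_im Q hA, ← card_mod Q]
  calc Nat.card Q.Mod * Nat.card ↥(A ⊓ centralizer (U : Set G))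
      ≤ Nat.card (im Q A) * Nat.card (fxd (im Q A) : AddSubgroup Q.Mod) * Nat.card ↥(A ⊓ centralizer (U : Set G)) :=
        Nat.mul_le_mul_right _ h'
    _ = _ := by ring

theorem mx_of (hno : NoOverM U H) (hA : A ≤ H) (hp : IsPGroup 2 A) (h : Mn Q.Mod (im Q A)) : Mx U A where
  toElemM := (el_iff Q hA).1 h.el
  pg := hp
  ne := fun h1 => h.ne ((im_eq_bot Q hA).2 h1)
  exact := (xa_iff Q hno hA ((el_iff Q hA).1 h.el)).1 h.ex
  min := by
    intro B hBA hX hk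
    have hBH := hBA.trans hA
    rcases h.min _ (im_mono Q hBA) (xa_of Q hBH hX) with h1 | h1
    · exact Or.inl ((im_eq_bot Q hBH).1 h1)
    · exact Or.inr (le_antisymm hBA (le_of_im Q hA hBA hk h1.ge))

/-- **`Sit`.** -/
theorem sit (hno : NoOverM U H) (h2 : ∀ v ∈ U, v * v = 1) : Sit Q.Mod (⊤ : Subgroup (XH Q)) where
  faith := fun x _ hx => XH_faith Q x hx
  ch := fun v => Nrm.ext (by
    rw [Nrm.val_add, Nrm.val_zero]
    exact h2 _ (Q.val_mem v))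
  no := fun F _ h1 h3 => by
    have h4 := no_XH Q hno F (fun x hx y hy => h3 x hx y hy) (fun x hx => h1 x hx)
    rw [← AddSubgroup.card_mul_index (fxd F : AddSubgroup Q.Mod), mul_comm]
    exact Nat.mul_le_mul_left _ h4

end fin

/-! ### conjugates -/

end Cfsg.Agent.Omega.NOThreeL.RRed.Ex.Dict

end

section


/-!
# NO-3L, box R: THEOREM EX (#26554), the instance of `Gy`: the fields `one` and `quad` (text: helper245)

`U = zl S L`, `P ∈ P*(S)`, `P ≤ L`, `A ≤ S` a minimal exact group on `U` which moves `V_P`.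

* `cases_of` : `A` is a root group of a natural block (`One`) or generated by a transposition (`OneS`) modulo `C(U)`;
* `oneN`, `oneS` : `b ∈ A`, `b ∉ C(U)`: `C_U(b) = C_U(A)`;
* `cenS`, `quadN`, `quadS` : all minimal exact groups in `S` centralise `[U, A]`;
* **`one`**, **`quad`** : the fields.
-/

set_option autoImplicit false
set_option linter.unusedSectionVars false

namespace Cfsg.Agent.Omega.NOThreeL.RRed.Ex.OneQuad

open Subgroup Cfsg Cfsg.Agent.ZN Cfsg.Agent.Omega.MinPar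
open Cfsg.Agent.Omega.FFThm Cfsg.Agent.Lib.SL2Mat
open Cfsg.Agent.Omega.FrameFF (cv)
open Cfsg.Agent.Omega.NatPair (ap)
open Cfsg.Agent.Omega.NO3S.ThmB Cfsg.Agent.Omega.NO3S.KeyRad
open Cfsg.Agent.Omega.NOThreeL.RSplit (Nrm)
open Cfsg.Agent.Omega.NOThreeL.RRed.NS (fxd brk mem_fxd smul_eq_iff Tt tt_of_mx)
open Cfsg.Agent.Omega.NOThreeL.RRed.Blk.TypesNat (XH ph ph_smul ph_eq)
open Cfsg.Agent.Omega.NOThreeL.RRed.Blk.AsmCore (im mem_im ph_mem_im fxd_im)
open Cfsg.Agent.Omega.NOThreeL.RRed.Blk.Types (El brk_le)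
open scoped Pointwise

universe u

variable {G : Type u} [Group G]

/-! ### `b ∈ A`, `b ∉ C(U)` -/

section nat

variable {F : Type} [Field F] [CharP F 2] {S P V D U A : Subgroup G} {k : ℕ} {M : NatKM F S P V D k} (h : Nb M)
  {i : Fin k} (O : One M U A i)
include h O

/-- `C_U(b) = C_U(A)`, natural type -/
theorem oneN (hAP : A ≤ P) {b u : G} (hb : b ∈ A) (hbU : b ∉ centralizer (U : Set G)) (hu : u ∈ U)
    (hbu : b * u = u * b) : ∀ a ∈ A, a * u = u * a := by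
  obtain ⟨β, hβ⟩ := O.act b hb
  have hβ0 : β ≠ 0 := by
    rintro rfl
    refine hbU (mem_centralizer_iff.2 fun w hw => ?_)
    obtain ⟨v, hv, -, c, hc, hca, rfl⟩ := O.full w hw
    have e : (sg i (up (0 : F)) : Fin k → Matrix.SpecialLinearGroup (Fin 2) F) = 1 := by
      funext l
      by_cases hl : l = i
      · rw [hl, sg_self, up_zero]; rfl
      · rw [sg_ne hl]; rfl
    rw [e] at hβ
    have h1 : Commute b v := h.comm_of_one (hAP hb) hβ hv
    exact (h1.mul_right (hca b hb)).eq.symm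
  obtain ⟨v, hv, -, c, hc, hca, rfl⟩ := O.full u hu
  have hbc : Commute b c := hca b hb
  have hbv : Commute b v := by
    have h1 : Commute b (v * c) := hbu
    have h2 : Commute b (v * c * c⁻¹) := h1.mul_right hbc.inv_right
    rwa [mul_inv_cancel_right] at h2
  have h1 := hβ.1 v hv i
  have h2 : b * v * b⁻¹ = v := by rw [hbv.eq]; group
  rw [h2, sg_self] at h1
  have h3 := congrFun h1 0
  rw [ap_up_0] at h3
  have h4 : β * M.e v i 1 = 0 := left_eq_add.1 h3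
  have h5 : M.e v i 1 = 0 := (mul_eq_zero.1 h4).resolve_left hβ0
  intro a ha
  exact (show Commute a v from (O.cen v hv).2 h5 a ha).mul_right (hca a ha)

end nat

section sym

variable {S P V D U A : Subgroup G} {k m : ℕ} {M : SymKM S P V D k m} {i : Fin k} {x y : Fin (2 ^ m + 1)} {t n0 : G}
  (O : OneS M U A i x y t n0)
include O

theorem act_t {b u : G} (hb : b ∈ A) (hbU : b ∉ centralizer (U : Set G)) (hu : u ∈ U) (hbu : b * u = u * b) :
    t * u = u * t := by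
  have h1 : t⁻¹ * b ∈ centralizer (U : Set G) := (O.act b hb).resolve_left hbU
  have h2 : Commute (t⁻¹ * b) u := (mem_centralizer_iff.1 h1 u hu).symm
  have h3 : Commute b u := hbu
  have h4 : Commute (b * (t⁻¹ * b)⁻¹) u := h3.mul_left h2.inv_left
  have e : b * (t⁻¹ * b)⁻¹ = t := by group
  rw [e] at h4
  exact h4

theorem all_of_t {u : G} (hu : u ∈ U) (htu : t * u = u * t) : ∀ a ∈ A, a * u = u * a := by
  intro a ha
  rcases O.act a ha with h1 | h1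
  · exact (mem_centralizer_iff.1 h1 u hu).symm
  · have h2 : Commute (t⁻¹ * a) u := (mem_centralizer_iff.1 h1 u hu).symm
    have h3 : Commute t u := htu
    have h4 : Commute (t * (t⁻¹ * a)) u := h3.mul_left h2
    rw [mul_inv_cancel_left] at h4
    exact h4

/-- `C_U(b) = C_U(A)`, symmetric type -/
theorem oneS {b u : G} (hb : b ∈ A) (hbU : b ∉ centralizer (U : Set G)) (hu : u ∈ U)
    (hbu : b * u = u * b) : ∀ a ∈ A, a * u = u * a :=
  all_of_t O hu (act_t O hb hbU hu hbu)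

/-! ### `[U, A]` -/

variable (h : Sb M) (hU2 : IsElementaryAbelian 2 U) (hVU : V ≤ U) (hPU : P ≤ normalizer (U : Set G))
  (hE : ElemM U A)
include h hU2 hVU hPU hE

/-- an element of `P` which fixes `0` and fixes or interchanges `x`, `y` commutes with `[t, n₀]` -/
theorem cenS {g : G} (hg : g ∈ P) {τ : Fin k → Equiv.Perm (Fin (2 ^ m + 1))} (hτ : Ac M g τ) (h0 : τ i 0 = 0)
    (hxy : (τ i x = x ∧ τ i y = y) ∨ (τ i x = y ∧ τ i y = x)) :
    g * (t * n0 * t⁻¹ * n0⁻¹) = t * n0 * t⁻¹ * n0⁻¹ * g := by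
  have htP : t ∈ P := h.SP' (O.AS O.tA)
  have hpx : pr i x y i x = y := by rw [pr, sg_self, Equiv.swap_apply_left]
  have hpy : pr i x y i y = x := by rw [pr, sg_self, Equiv.swap_apply_right]
  have hp0 : pr i x y i 0 = 0 := by
    rw [pr, sg_self, Equiv.swap_apply_of_ne_of_ne (Ne.symm O.x0) (Ne.symm O.y0)]
  have hpi : ((pr i x y)⁻¹ : Fin k → Equiv.Perm (Fin (2 ^ m + 1))) i = pr i x y i := by
    rw [Pi.inv_apply, pr, sg_self, Equiv.swap_inv]
  -- first case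
  have key : ∀ g ∈ P, ∀ τ : Fin k → Equiv.Perm (Fin (2 ^ m + 1)), Ac M g τ → τ i 0 = 0 → τ i x = x → τ i y = y →
      Commute g (t * n0 * t⁻¹ * n0⁻¹) := by
    intro g hg τ hτ h0 hx hy
    have h1 : Commute g n0 := O.fix g hg τ hτ hx hy h0
    have h2 : Commute (t⁻¹ * g * t) n0 := by
      refine O.fix _ (mul_mem (mul_mem (inv_mem htP) hg) htP) ((pr i x y)⁻¹ * τ * pr i x y)
        (h.ac_mul htP (h.ac_mul hg (h.ac_inv htP O.tt) hτ) O.tt) ?_ ?_ ?_
      · rw [Pi.mul_apply, Pi.mul_apply, hpi, Equiv.Perm.mul_apply, Equiv.Perm.mul_apply, hpx, hy, hpy]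
      · rw [Pi.mul_apply, Pi.mul_apply, hpi, Equiv.Perm.mul_apply, Equiv.Perm.mul_apply, hpy, hx, hpx]
      · rw [Pi.mul_apply, Pi.mul_apply, hpi, Equiv.Perm.mul_apply, Equiv.Perm.mul_apply, hp0, h0, hp0]
    have h3 : Commute g (t * n0 * t⁻¹) := by
      have e := h2.eq
      have e1 : g * (t * n0 * t⁻¹) = t * (t⁻¹ * g * t * n0) * t⁻¹ := by group
      have e2 : t * n0 * t⁻¹ * g = t * (n0 * (t⁻¹ * g * t)) * t⁻¹ := by group
      show g * (t * n0 * t⁻¹) = t * n0 * t⁻¹ * g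
      rw [e1, e2, e]
    exact h3.mul_right h1.inv_right
  -- `t` commutes with `[t, n₀]`
  have hn : n0 ∈ U := hVU O.nV
  have htn : t * n0 * t⁻¹ ∈ U := (mem_normalizer_iff.1 (hPU htP) n0).1 hn
  have ht2 : t * (t * n0 * t⁻¹) * t⁻¹ = n0 := by
    have h1 : t ^ 2 ∈ centralizer (U : Set G) := hE.sq t O.tA
    have h2 := mem_centralizer_iff.1 h1 n0 hn
    have e : t * (t * n0 * t⁻¹) * t⁻¹ = t ^ 2 * n0 * (t ^ 2)⁻¹ := by rw [pow_two]; group
    rw [e, ← h2]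
    group
  have hab : ∀ v ∈ U, ∀ w ∈ U, v * w = w * v := fun v hv w hw => elem_comm hU2 hv hw
  have hsq : ∀ v ∈ U, v⁻¹ = v := fun v hv => by
    have h1 := hU2.2 v hv
    rw [pow_two] at h1
    exact inv_eq_of_mul_eq_one_left h1
  have htc : Commute t (t * n0 * t⁻¹ * n0⁻¹) := by
    have e : t * (t * n0 * t⁻¹ * n0⁻¹) * t⁻¹ = t * n0 * t⁻¹ * n0⁻¹ := by
      have e1 : t * (t * n0 * t⁻¹ * n0⁻¹) * t⁻¹ = t * (t * n0 * t⁻¹) * t⁻¹ * (t * n0 * t⁻¹)⁻¹ := by group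
      rw [e1, ht2, hsq _ htn, hsq _ hn]
      exact hab _ hn _ htn
    have e2 := mul_inv_eq_iff_eq_mul.1 e
    exact e2
  rcases hxy with ⟨hx, hy⟩ | ⟨hx, hy⟩
  · exact key g hg τ hτ h0 hx hy
  · have h1 := key (t⁻¹ * g) (mul_mem (inv_mem htP) hg) ((pr i x y)⁻¹ * τ) (h.ac_mul hg (h.ac_inv htP O.tt) hτ)
      (by rw [Pi.mul_apply, hpi, Equiv.Perm.mul_apply, h0, hp0])
      (by rw [Pi.mul_apply, hpi, Equiv.Perm.mul_apply, hx, hpy])
      (by rw [Pi.mul_apply, hpi, Equiv.Perm.mul_apply, hy, hpx])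
    have h2 : Commute (t * (t⁻¹ * g)) (t * n0 * t⁻¹ * n0⁻¹) := htc.mul_left h1
    rw [mul_inv_cancel_left] at h2
    exact h2

/-- `[a, u]` is `1` or `[t, n₀]` -/
theorem commS {a u : G} (ha : a ∈ A) (hu : u ∈ U) :
    a * u * a⁻¹ * u⁻¹ = 1 ∨ a * u * a⁻¹ * u⁻¹ = t * n0 * t⁻¹ * n0⁻¹ := by
  have hn : n0 ∈ U := hVU O.nV
  have hab : ∀ v ∈ U, ∀ w ∈ U, v * w = w * v := fun v hv w hw => elem_comm hU2 hv hw
  rcases O.act a ha with h1 | h1
  · left
    rw [← mem_centralizer_iff.1 h1 u hu]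
    group
  · rcases O.full u hu with h2 | h2
    · left
      rw [h2 a ha]
      group
    · right
      have h3 : Commute t (n0⁻¹ * u) := h2 t O.tA
      have h5 : Commute (t⁻¹ * a) u := (mem_centralizer_iff.1 h1 u hu).symm
      -- `[a, u] = [t, u]`
      have e1 : a * u * a⁻¹ = t * u * t⁻¹ := by
        have e : a = t * (t⁻¹ * a) := by group
        calc a * u * a⁻¹ = t * ((t⁻¹ * a) * u) * (t⁻¹ * a)⁻¹ * t⁻¹ := by group
          _ = t * (u * (t⁻¹ * a)) * (t⁻¹ * a)⁻¹ * t⁻¹ := by rw [h5.eq]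
          _ = t * u * t⁻¹ := by group
      have e2 : t * u * t⁻¹ * u⁻¹ = t * n0 * t⁻¹ * n0⁻¹ := by
        calc t * u * t⁻¹ * u⁻¹ = t * n0 * t⁻¹ * (t * (n0⁻¹ * u) * t⁻¹) * u⁻¹ := by group
          _ = t * n0 * t⁻¹ * (n0⁻¹ * u * t * t⁻¹) * u⁻¹ := by rw [h3.eq]
          _ = t * n0 * t⁻¹ * n0⁻¹ := by group
      rw [e1, e2]

/-- all smallest best offenders in `S` centralise `[U, A]` -/
theorem quadS [Finite G] {B : Subgroup G} (hBS : B ≤ S) (tB : Tt U B) {b a u : G} (hb : b ∈ B) (ha : a ∈ A) (hu : u ∈ U) :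
    b * (a * u * a⁻¹ * u⁻¹) = a * u * a⁻¹ * u⁻¹ * b := by
  rcases commS O h hU2 hVU hPU hE ha hu with e | e
  · rw [e, mul_one, one_mul]
  · rw [e]
    by_cases hBV : B ≤ centralizer (V : Set G)
    · have htP : t ∈ P := h.SP' (O.AS O.tA)
      have h1 : t * n0 * t⁻¹ * n0⁻¹ ∈ V :=
        mul_mem ((mem_normalizer_iff.1 (h.VP' htP) n0).1 O.nV) (inv_mem O.nV)
      exact (mem_centralizer_iff.1 (hBV hb) _ h1).symm
    · obtain ⟨τ, hτ, h0, hτ'⟩ := NS.off_elem' hBS (tB.offM hU2 hVU hBV) hb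
      exact cenS O h hU2 hVU hPU hE (h.SP' (hBS hb)) hτ (h0 i) (NS.keep' h hBS hτ' (O.AS O.tA) O.xy O.tt.1)

end sym

/-! ### The fields -/

section fields

variable [Finite G] {S : Sylow 2 G} {L P : Subgroup G}

/-- **The two types.** -/
theorem cases_of (hc : IsCharacteristicTwoType G) (hL : IsLoc (S : Subgroup G) L) (hP : IsParS (S : Subgroup G) P)
    (hPL : P ≤ L) (no : NoOverM (zl (S : Subgroup G) L) L) {A : Subgroup G} (hA : A ≤ (S : Subgroup G))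
    (hM : Mx (zl (S : Subgroup G) L) A) (hne : ¬ A ≤ centralizer (zl (S : Subgroup G) P : Set G)) :
    (∃ (F : Type) (_ : Field F) (_ : Finite F) (_ : CharP F 2) (k : ℕ)
      (M : NatKM F (S : Subgroup G) P (zl (S : Subgroup G) P) (cv (S : Subgroup G) P) k) (i : Fin k),
      Nb M ∧ One M (zl (S : Subgroup G) L) A i) ∨
    ∃ (k m : ℕ) (M : SymKM (S : Subgroup G) P (zl (S : Subgroup G) P) (cv (S : Subgroup G) P) k m) (i : Fin k)
      (x y : Fin (2 ^ m + 1)) (t n0 : G), Sb M ∧ OneS M (zl (S : Subgroup G) L) A i x y t n0 := by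
  have hE := FFThm.elem_zl hc S hL
  have hcomm : zl (S : Subgroup G) L ≤ centralizer (zl (S : Subgroup G) L : Set G) := fun x hx =>
    mem_centralizer_iff.2 fun y hy => congrArg Subtype.val (hE.1.is_comm.comm ⟨y, hy⟩ ⟨x, hx⟩)
  obtain ⟨-, -, -, h3, -⟩ := exact_split hc hP hPL no hcomm hA hM.toElemM hM.exact hne
  have hVU : zl (S : Subgroup G) P ≤ zl (S : Subgroup G) L := Star.zl_mono _ hPL
  have t : Tt (zl (S : Subgroup G) L) A := tt_of_mx hM no ((hA.trans hP.le).trans hPL)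
  rcases h3 with ⟨F, i1, i2, i3, k, -, ⟨M⟩⟩ | ⟨k, m, -, hm, ⟨M⟩⟩
  · left
    have h := NO3S.ThmB.Inst.nb hc hP M
    obtain ⟨i, O⟩ := t.one h hE hVU hA hne
    exact ⟨F, i1, i2, i3, k, M, i, h, O⟩
  · right
    have h := NO3S.ThmB.Inst.sb hc hP hm M
    obtain ⟨i, x, y, t', n0, O⟩ := NS.Tt.oneS h t hE hVU hA hne
    exact ⟨k, m, M, i, x, y, t', n0, h, O⟩

/-- `C_U(b) = C_U(A)` -/
theorem one_grp (hc : IsCharacteristicTwoType G) (hL : IsLoc (S : Subgroup G) L) (hP : IsParS (S : Subgroup G) P)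
    (hPL : P ≤ L) (no : NoOverM (zl (S : Subgroup G) L) L) {A : Subgroup G} (hA : A ≤ (S : Subgroup G))
    (hM : Mx (zl (S : Subgroup G) L) A) (hne : ¬ A ≤ centralizer (zl (S : Subgroup G) P : Set G)) {b u : G}
    (hb : b ∈ A) (hbU : b ∉ centralizer (zl (S : Subgroup G) L : Set G)) (hu : u ∈ zl (S : Subgroup G) L)
    (hbu : b * u = u * b) : ∀ a ∈ A, a * u = u * a := by
  rcases cases_of hc hL hP hPL no hA hM hne with ⟨F, i1, i2, i3, k, M, i, h, O⟩ | ⟨k, m, M, i, x, y, t, n0, h, O⟩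
  · exact oneN h O (hA.trans hP.le) hb hbU hu hbu
  · exact oneS O hb hbU hu hbu

/-- all minimal exact groups in `S` centralise `[U, A]` -/
theorem quad_grp (hc : IsCharacteristicTwoType G) (hL : IsLoc (S : Subgroup G) L) (hP : IsParS (S : Subgroup G) P)
    (hPL : P ≤ L) (no : NoOverM (zl (S : Subgroup G) L) L) {A B : Subgroup G} (hA : A ≤ (S : Subgroup G))
    (hM : Mx (zl (S : Subgroup G) L) A) (hne : ¬ A ≤ centralizer (zl (S : Subgroup G) P : Set G))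
    (hB : B ≤ (S : Subgroup G)) (hMB : Mx (zl (S : Subgroup G) L) B) {a b u : G}
    (ha : a ∈ A) (hb : b ∈ B) (hu : u ∈ zl (S : Subgroup G) L) :
    b * (a * u * a⁻¹ * u⁻¹) = a * u * a⁻¹ * u⁻¹ * b := by
  have hE := FFThm.elem_zl hc S hL
  have hVU : zl (S : Subgroup G) P ≤ zl (S : Subgroup G) L := Star.zl_mono _ hPL
  have tB : Tt (zl (S : Subgroup G) L) B := tt_of_mx hMB no ((hB.trans hP.le).trans hPL)
  rcases cases_of hc hL hP hPL no hA hM hne with ⟨F, i1, i2, i3, k, M, i, h, O⟩ | ⟨k, m, M, i, x, y, t, n0, h, O⟩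
  · exact NS.comm_Y h O hA hE hVU hB tB hb hu ha
  · exact quadS O h hE hVU (hPL.trans (le_normalizer_zl _ _)) hM.toElemM hB tB hb ha hu

variable (Q : Nrm L (zl (S : Subgroup G) L))

/-- **the field `one`** -/
theorem one (hc : IsCharacteristicTwoType G) (hL : IsLoc (S : Subgroup G) L) (hP : IsParS (S : Subgroup G) P)
    (hPL : P ≤ L) (no : NoOverM (zl (S : Subgroup G) L) L) :
    ∀ B ≤ im Q (S : Subgroup G), Mn Q.Mod B → ¬ Fx (Q.ad (zl (S : Subgroup G) P)) B → ∀ b ∈ B, b ≠ 1 →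
      ∀ m : Q.Mod, b • m = m → m ∈ (fxd B : AddSubgroup Q.Mod) := by
  intro B' hB' hMn hF b' hb' hb1 m hm
  obtain ⟨B, hBS, hBL, rfl⟩ := Dict.exists_im Q hB'
  have hVU : zl (S : Subgroup G) P ≤ zl (S : Subgroup G) L := Star.zl_mono _ hPL
  have hM := Dict.mx_of Q no hBL (S.isPGroup'.to_le hBS) hMn
  have hne : ¬ B ≤ centralizer (zl (S : Subgroup G) P : Set G) := fun h => hF ((Dict.fx_ad Q hVU hBL).2 h)
  obtain ⟨b, hb, rfl⟩ := hb'
  have hbU : (b : G) ∉ centralizer (zl (S : Subgroup G) L : Set G) := fun h => hb1 ((Dict.ph_one Q).2 h)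
  rw [ph_smul, smul_eq_iff, mul_inv_eq_iff_eq_mul] at hm
  rw [fxd_im Q hBL, mem_centralizer_iff]
  exact one_grp hc hL hP hPL no hBS hM hne hb hbU (Q.val_mem m) hm

/-- **the field `quad`** -/
theorem quad (hc : IsCharacteristicTwoType G) (hL : IsLoc (S : Subgroup G) L) (hP : IsParS (S : Subgroup G) P)
    (hPL : P ≤ L) (no : NoOverM (zl (S : Subgroup G) L) L) :
    ∀ B ≤ im Q (S : Subgroup G), Mn Q.Mod B → ¬ Fx (Q.ad (zl (S : Subgroup G) P)) B →
      ∀ B' ≤ im Q (S : Subgroup G), Mn Q.Mod B' → brk Q.Mod B ≤ fxd B' := by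
  intro A' hA' hMnA hF B' hB' hMnB
  obtain ⟨A, hAS, hAL, rfl⟩ := Dict.exists_im Q hA'
  obtain ⟨B, hBS, hBL, rfl⟩ := Dict.exists_im Q hB'
  have hVU : zl (S : Subgroup G) P ≤ zl (S : Subgroup G) L := Star.zl_mono _ hPL
  have hMA := Dict.mx_of Q no hAL (S.isPGroup'.to_le hAS) hMnA
  have hMB := Dict.mx_of Q no hBL (S.isPGroup'.to_le hBS) hMnB
  have hne : ¬ A ≤ centralizer (zl (S : Subgroup G) P : Set G) := fun h => hF ((Dict.fx_ad Q hVU hAL).2 h)
  refine brk_le ?_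
  rintro _ ⟨a, ha, rfl⟩ m
  rw [fxd_im Q hBL, mem_centralizer_iff]
  intro b hb
  rw [ph_smul, Nrm.val_sub, Nrm.val_smul]
  exact quad_grp hc hL hP hPL no hAS hMA hne hBS hMB ha hb (Q.val_mem m)

end fields

end Cfsg.Agent.Omega.NOThreeL.RRed.Ex.OneQuad

end

section


/-!
# NO-3L, box R: THEOREM EX (#26554), the transfer of the facts about one parabolic: `out` and `pair` (text: helper245)

`Q : Nrm L (zl S L)`, `P ∈ P*(S)`, `P ≤ L`, `pf : ConclM S P → Pf S P (zl S P) (zl S L)`.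

* `concl` : a minimal exact group which moves `V_P` gives `ConclM S P`;
* **`out`**, **`pair`** : the fields of `Inst.Gp` (the fields `one`, `quad` are in `Ex/OneQuad`).
-/

set_option autoImplicit false
set_option linter.unusedSectionVars false

namespace Cfsg.Agent.Omega.NOThreeL.RRed.Ex.Tr1

open Subgroup Cfsg Cfsg.Agent.ZN Cfsg.Agent.Omega.MinPar
open Cfsg.Agent.Omega.FFThm
open Cfsg.Agent.Omega.NOThreeL.RSplit (Nrm)
open Cfsg.Agent.Omega.NOThreeL.RRed.NS (fxd brk mem_fxd smul_eq_iff Tt tt_of_mx)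
open Cfsg.Agent.Omega.NOThreeL.RRed.Blk.TypesNat (XH ph ph_smul ph_eq)
open Cfsg.Agent.Omega.NOThreeL.RRed.Blk.AsmCore (im mem_im ph_mem_im fxd_im)
open scoped Pointwise

universe u

variable {G : Type u} [Group G] [Finite G] {S : Sylow 2 G} {L P : Subgroup G}

theorem concl (hc : IsCharacteristicTwoType G) (Q : Nrm L (zl (S : Subgroup G) L)) (hP : IsParS (S : Subgroup G) P)
    (hPL : P ≤ L) (no : NoOverM (zl (S : Subgroup G) L) L) {A : Subgroup G} (hA : A ≤ (S : Subgroup G))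
    (hM : Mx (zl (S : Subgroup G) L) A) (hne : ¬ A ≤ centralizer (zl (S : Subgroup G) P : Set G)) :
    ConclM (S : Subgroup G) P := by
  have hcomm : zl (S : Subgroup G) L ≤ centralizer (zl (S : Subgroup G) L : Set G) := fun x hx =>
    mem_centralizer_iff.2 fun y hy => Q.ab y hy x hx
  exact (exact_split hc hP hPL no hcomm hA hM.toElemM hM.exact hne).2.2.2.1

variable (Q : Nrm L (zl (S : Subgroup G) L))

/-- the data of a member of `EE` -/
theorem data (hc : IsCharacteristicTwoType G) (hP : IsParS (S : Subgroup G) P)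
    (hPL : P ≤ L) (no : NoOverM (zl (S : Subgroup G) L) L) {B' : Subgroup (XH Q)} (hB' : B' ≤ im Q (S : Subgroup G))
    (hMn : Mn Q.Mod B') (hF : ¬ Fx (Q.ad (zl (S : Subgroup G) P)) B') :
    ∃ B ≤ (S : Subgroup G), B ≤ L ∧ im Q B = B' ∧ Tt (zl (S : Subgroup G) L) B ∧
      ¬ B ≤ centralizer (zl (S : Subgroup G) P : Set G) ∧ ConclM (S : Subgroup G) P := by
  obtain ⟨B, hBS, hBL, rfl⟩ := Dict.exists_im Q hB'
  have hVU : zl (S : Subgroup G) P ≤ zl (S : Subgroup G) L := Star.zl_mono _ hPL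
  have hM := Dict.mx_of Q no hBL (S.isPGroup'.to_le hBS) hMn
  have hne : ¬ B ≤ centralizer (zl (S : Subgroup G) P : Set G) := fun h => hF ((Dict.fx_ad Q hVU hBL).2 h)
  exact ⟨B, hBS, hBL, rfl, tt_of_mx hM no hBL, hne, concl hc Q hP hPL no hBS hM hne⟩

/-- **the field `out`** -/
theorem out (hc : IsCharacteristicTwoType G) (hP : IsParS (S : Subgroup G) P)
    (hPL : P ≤ L) (no : NoOverM (zl (S : Subgroup G) L) L)
    (pf : ConclM (S : Subgroup G) P → Pf (S : Subgroup G) P (zl (S : Subgroup G) P) (zl (S : Subgroup G) L)) :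
    ∀ B ≤ im Q (S : Subgroup G), Mn Q.Mod B → ¬ Fx (Q.ad (zl (S : Subgroup G) P)) B → ∀ b ∈ B, ∀ m : Q.Mod,
      b • m ≠ m → ∃ p ∈ im Q P, ∃ c ∈ B, (p * c * p⁻¹) • (b • m - m) ∉ (fxd B : AddSubgroup Q.Mod) := by
  intro B' hB' hMn hF b' hb' m hbm
  obtain ⟨B, hBS, hBL, rfl, t, hne, cl⟩ := data Q hc hP hPL no hB' hMn hF
  obtain ⟨b, hb, rfl⟩ := hb'
  have hbm' : (b : G) * Q.val m ≠ Q.val m * b := fun h => hbm (by
    rw [ph_smul, smul_eq_iff, mul_inv_eq_iff_eq_mul]; exact h)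
  obtain ⟨p, hp, c, hc', d, hd, h1⟩ := (pf cl).out B hBS t hne b hb _ (Q.val_mem m) hbm'
  refine ⟨ph Q ⟨p, hPL hp⟩, ph_mem_im Q hp, ph Q ⟨c, hBL hc'⟩, ph_mem_im Q hc', fun h2 => h1 ?_⟩
  rw [fxd_im Q hBL, mem_centralizer_iff] at h2
  have h3 := h2 d hd
  have e : ph Q (⟨p, hPL hp⟩ : L) * ph Q (⟨c, hBL hc'⟩ : L) * (ph Q (⟨p, hPL hp⟩ : L))⁻¹ =
      ph Q ((⟨p, hPL hp⟩ : L) * ⟨c, hBL hc'⟩ * (⟨p, hPL hp⟩ : L)⁻¹) := by rw [map_mul, map_mul, map_inv]
  rw [e, ph_smul, ph_smul, Nrm.val_smul, Nrm.val_sub, Nrm.val_smul] at h3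
  exact h3

/-- **the field `pair`** -/
theorem pair (hc : IsCharacteristicTwoType G) (hP : IsParS (S : Subgroup G) P)
    (hPL : P ≤ L) (no : NoOverM (zl (S : Subgroup G) L) L)
    (pf : ConclM (S : Subgroup G) P → Pf (S : Subgroup G) P (zl (S : Subgroup G) P) (zl (S : Subgroup G) L)) :
    ∀ B ≤ im Q (S : Subgroup G), ∀ B' ≤ im Q (S : Subgroup G), Mn Q.Mod B → Mn Q.Mod B' →
      ¬ Fx (Q.ad (zl (S : Subgroup G) P)) B → ¬ Fx (Q.ad (zl (S : Subgroup G) P)) B' →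
      ∀ b ∈ B, ∀ b' ∈ B', ∀ m m' : Q.Mod, b • m - m = b' • m' - m' → b • m ≠ m →
        ∀ c ∈ B, ∃ c' ∈ B', ∀ w ∈ Q.ad (zl (S : Subgroup G) P), c' • w = c • w := by
  intro B₁ hB₁ B₂ hB₂ hMn₁ hMn₂ hF₁ hF₂ b₁ hb₁ b₂ hb₂ m m' he hbm c₁ hc₁
  obtain ⟨B, hBS, hBL, rfl, t, hne, cl⟩ := data Q hc hP hPL no hB₁ hMn₁ hF₁
  obtain ⟨B', hBS', hBL', rfl, t', hne', -⟩ := data Q hc hP hPL no hB₂ hMn₂ hF₂
  obtain ⟨b, hb, rfl⟩ := hb₁
  obtain ⟨b', hb', rfl⟩ := hb₂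
  obtain ⟨c, hcB, rfl⟩ := hc₁
  have hbm' : (b : G) * Q.val m ≠ Q.val m * b := fun h => hbm (by
    rw [ph_smul, smul_eq_iff, mul_inv_eq_iff_eq_mul]; exact h)
  have he' : (b : G) * Q.val m * (b : G)⁻¹ * (Q.val m)⁻¹ = b' * Q.val m' * (b' : G)⁻¹ * (Q.val m')⁻¹ := by
    have h1 := congrArg Q.val he
    rwa [ph_smul, ph_smul, Nrm.val_sub, Nrm.val_sub, Nrm.val_smul, Nrm.val_smul] at h1
  obtain ⟨c', hc', h1⟩ := (pf cl).pair B hBS B' hBS' t t' hne hne' b hb b' hb' _ (Q.val_mem m) _ (Q.val_mem m') he'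
    hbm' c hcB
  refine ⟨ph Q ⟨c', hBL' hc'⟩, ph_mem_im Q hc', fun w hw => ?_⟩
  rw [ph_smul, ph_smul, Nrm.ext_iff, Nrm.val_smul, Nrm.val_smul]
  exact h1 _ hw

end Cfsg.Agent.Omega.NOThreeL.RRed.Ex.Tr1

end

end
end

-- part: Mrg/Omega/NOThreeL/RRed/Blk/AcNSame
section
prune_inst 0x1000000022000000000000800000005000000000000001004002000244000120048000704000001100043020088000008800190038000020008a00000404010402000280081000010000404800000000000000000000000000000000000000000000000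
set_option linter.all false
open scoped Cfsg.Agent.FastGrp

section


/-!
# NO-3L, box R, nonsplit natural blocks: two atoms of one block have the same image (263 #27786)

`P ∈ P*(S)` natural, `P ≤ L ≤ H`, `Q : Nrm H (zl S L)`, `NoOverM (zl S L) H`.

* **`same_im`** : `A, A' ∈ EP S P (zl S L)` acting as the root group of the same block `j`: `im Q A' = im Q A`.
-/

set_option autoImplicit false
set_option linter.unusedSectionVars false

namespace Cfsg.Agent.Omega.NOThreeL.RRed.Blk.AcNSame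

open Subgroup Cfsg Cfsg.Agent.ZN Cfsg.Agent.Omega.MinPar
open Cfsg.Agent.Omega.FFThm
open Cfsg.Agent.Omega.FrameFF (cv)
open Cfsg.Agent.Omega.NO3S.ThmB Cfsg.Agent.Omega.NO3S.KeyRad
open Cfsg.Agent.Omega.NOThreeL.RSplit (Nrm)
open Cfsg.Agent.Omega.NOThreeL.RRed.NS
open Cfsg.Agent.Omega.NOThreeL.RRed.Ex
open Cfsg.Agent.Omega.NOThreeL.RRed.Blk.Types (Sit El)
open Cfsg.Agent.Omega.NOThreeL.RRed.Blk.TypesNat (XH ph ph_smul)
open Cfsg.Agent.Omega.NOThreeL.RRed.Blk.AsmCore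
open scoped Pointwise

universe u

variable {G : Type u} [Group G] [Finite G] {S : Sylow 2 G} {L P H : Subgroup G}

/-- `InstB.split` for `Q : Nrm H U`, `L ≤ H` -/
theorem splitH (hc : IsCharacteristicTwoType G) (hP : IsParS (S : Subgroup G) P) (hPL : P ≤ L) (LH : L ≤ H)
    (noH : NoOverM (zl (S : Subgroup G) L) H) (Q : Nrm H (zl (S : Subgroup G) L)) :
    ∀ A ≤ im Q (S : Subgroup G), El A → Xa Q.Mod A → ¬ _root_.Cfsg.Agent.Omega.NOThreeL.RRed.Ex.Fx (Q.ad (zl (S : Subgroup G) P)) A →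
      Xa Q.Mod (cw (Q.ad (zl (S : Subgroup G) P)) A) := by
  intro A' hA' hE hX hF
  obtain ⟨A, hA, rfl⟩ := InstB.exists_im Q hA'
  have hAL : A ≤ L := (hA.trans hP.le).trans hPL
  have hAH : A ≤ H := hAL.trans LH
  have hWU : zl (S : Subgroup G) P ≤ zl (S : Subgroup G) L := NOThreeL.Star.zl_mono _ hPL
  have hcomm : zl (S : Subgroup G) L ≤ centralizer (zl (S : Subgroup G) L : Set G) := fun x hx =>
    mem_centralizer_iff.2 fun y hy => Q.ab y hy x hx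
  have hEM := InstB.elemM_of Q hAH hE
  have hex := InstB.exa_of Q hAH noH hEM hX
  have hne : ¬ A ≤ centralizer (zl (S : Subgroup G) P : Set G) := fun h => hF ((InstB.fx_im Q hWU hAH).2 h)
  obtain ⟨h1, -⟩ := exact_split hc hP hPL (fun B hB => noH B (hB.trans LH)) hcomm hA hEM hex hne
  rw [InstB.cw_im Q hWU]
  exact InstB.xa_of Q (inf_le_left.trans hAH) h1

/-- one half -/
theorem im_le (hc : IsCharacteristicTwoType G) (hL : IsLoc (S : Subgroup G) L) (hP : IsParS (S : Subgroup G) P)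
    (hPL : P ≤ L) (LH : L ≤ H) (noH : NoOverM (zl (S : Subgroup G) L) H) (Q : Nrm H (zl (S : Subgroup G) L))
    {F : Type} [Field F] [Finite F] [CharP F 2] {k : ℕ}
    (M : NatKM F (S : Subgroup G) P (zl (S : Subgroup G) P) (cv (S : Subgroup G) P) k) {A A' : Subgroup G}
    (hA : A ∈ EP (S : Subgroup G) P (zl (S : Subgroup G) L))
    (hA' : A' ∈ EP (S : Subgroup G) P (zl (S : Subgroup G) L)) {j : Fin k} (O : NO3S.ThmB.One M (zl (S : Subgroup G) L) A j)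
    (O' : NO3S.ThmB.One M (zl (S : Subgroup G) L) A' j) : im Q A' ≤ im Q A := by
  have h := Inst.nb hc hP M
  have hE := FFThm.elem_zl hc S hL
  have hPH : P ≤ H := hPL.trans LH
  have hVU : zl (S : Subgroup G) P ≤ zl (S : Subgroup G) L := NOThreeL.Star.zl_mono _ hPL
  have hAS := hA.1.1
  have hAS' := hA'.1.1
  have hAP : A ≤ P := hAS.trans hP.le
  have hAP' : A' ≤ P := hAS'.trans hP.le
  have tA := tt_of_mx hA.1.2 noH (hAP.trans hPH)
  have tA' := tt_of_mx hA'.1.2 noH (hAP'.trans hPH)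
  have hfull : ∀ {B : Subgroup G}, B ≤ H → NO3S.ThmB.One M (zl (S : Subgroup G) L) B j → ∀ m : Q.Mod,
      ∃ w ∈ Q.ad (zl (S : Subgroup G) P), ∃ c ∈ (fxd (im Q B) : AddSubgroup Q.Mod), m = w + c := by
    intro B hB OB m
    obtain ⟨v, hv, -, c, hcU, hca, e⟩ := OB.full (Q.val m) (Q.val_mem m)
    refine ⟨Q.of v (hVU hv), hv, Q.of c hcU, ?_, ?_⟩
    · rw [fxd_im Q hB, Nrm.val_of, mem_centralizer_iff]
      exact hca
    · exact Nrm.ext (by rw [Nrm.val_add]; exact e)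
  have hq : ∀ {B C : Subgroup G}, B ≤ (S : Subgroup G) → C ≤ (S : Subgroup G) →
      NO3S.ThmB.One M (zl (S : Subgroup G) L) B j → Tt (zl (S : Subgroup G) L) C →
      brk Q.Mod (im Q B) ≤ (fxd (im Q C) : AddSubgroup Q.Mod) := by
    intro B C hB hC OB tC
    refine Types.brk_le ?_
    rintro _ ⟨b, hb, rfl⟩ m
    rw [fxd_im Q ((hC.trans hP.le).trans hPH), mem_centralizer_iff]
    intro c hc'
    rw [ph_smul, Nrm.val_sub, Nrm.val_smul]
    exact comm_Y h OB hB hE hVU hC tC hc' (Q.val_mem m) hb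
  rintro _ ⟨b', hb', rfl⟩
  obtain ⟨β, hβ⟩ := O'.act b' hb'
  obtain ⟨b, hb, hβ'⟩ := O.all β
  have hbP : b ∈ P := hAP hb
  have key := L1N.l1 (M := Q.Mod) (Dict.sit Q noH fun v hv => by
      have := hE.2 v hv
      rwa [pow_two] at this) (S := im Q (S : Subgroup G)) (P := im Q P) (W := Q.ad (zl (S : Subgroup G) P))
    (im_mono Q hP.le) (by
      rintro _ ⟨p, hp, rfl⟩ w hw
      rw [ph_smul]
      refine Nrm.mem_ad.2 ?_
      rw [Nrm.val_smul]
      exact (mem_normalizer_iff.1 (MinSimple.VModule.le_normalizer_zl (S : Subgroup G) P hp) _).1 hw)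
    (B := im Q A) (B' := im Q A') (im_mono Q hAS) (im_mono Q hAS')
    ((Dict.el_iff Q (hAP.trans hPH)).2 hA.1.2.toElemM) ((Dict.el_iff Q (hAP'.trans hPH)).2 hA'.1.2.toElemM)
    (InstB.xa_of Q (hAP.trans hPH) hA.1.2.exact) (InstB.xa_of Q (hAP'.trans hPH) hA'.1.2.exact)
    (fun h1 => hA.2 ((InstB.fx_im Q hVU (hAP.trans hPH)).1 h1)) (splitH hc hP hPL LH noH Q)
    (hfull (hAP.trans hPH) O) (hfull (hAP'.trans hPH) O') (hq hAS hAS O tA) (hq hAS hAS' O tA') (hq hAS' hAS O' tA)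
    (by
      rintro _ ⟨a, ha, rfl⟩ m hm
      have hm' : (a : G) * Q.val m ≠ Q.val m * a := fun h1 => hm (by
        rw [ph_smul, smul_eq_iff, mul_inv_eq_iff_eq_mul]; exact h1)
      obtain ⟨p, hp, c, hc', d, hd, h1⟩ := nat_out h O hVU hAS ha (Q.val_mem m) hm'
      refine ⟨_root_.Cfsg.Agent.Omega.NOThreeL.RRed.Blk.TypesNat.ph Q ⟨p, hPH hp⟩, ph_mem_im Q hp, _root_.Cfsg.Agent.Omega.NOThreeL.RRed.Blk.TypesNat.ph Q ⟨c, hPH (hAP hc')⟩, ph_mem_im Q hc', fun h2 => h1 ?_⟩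
      rw [fxd_im Q (hAP.trans hPH), mem_centralizer_iff] at h2
      have h3 := h2 d hd
      have e : _root_.Cfsg.Agent.Omega.NOThreeL.RRed.Blk.TypesNat.ph Q (⟨p, hPH hp⟩ : H) * _root_.Cfsg.Agent.Omega.NOThreeL.RRed.Blk.TypesNat.ph Q (⟨c, hPH (hAP hc')⟩ : H) * (_root_.Cfsg.Agent.Omega.NOThreeL.RRed.Blk.TypesNat.ph Q (⟨p, hPH hp⟩ : H))⁻¹ =
          _root_.Cfsg.Agent.Omega.NOThreeL.RRed.Blk.TypesNat.ph Q ((⟨p, hPH hp⟩ : H) * ⟨c, hPH (hAP hc')⟩ * (⟨p, hPH hp⟩ : H)⁻¹) := by rw [map_mul, map_mul, map_inv]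
      rw [e, ph_smul, ph_smul, Nrm.val_smul, Nrm.val_sub, Nrm.val_smul] at h3
      exact h3)
    (b := _root_.Cfsg.Agent.Omega.NOThreeL.RRed.Blk.TypesNat.ph Q ⟨b, hPH hbP⟩) (b' := _root_.Cfsg.Agent.Omega.NOThreeL.RRed.Blk.TypesNat.ph Q b') (ph_mem_im Q hb) (ph_mem_im Q hb') (by
      intro w hw
      rw [ph_smul, ph_smul, Nrm.ext_iff, Nrm.val_smul, Nrm.val_smul]
      exact h.same (hAP' hb') hbP hβ hβ' hw)
  rw [key]
  exact ph_mem_im Q hb

/-- **Two atoms of one block have the same image.** -/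
theorem same_im (hc : IsCharacteristicTwoType G) (hL : IsLoc (S : Subgroup G) L) (hP : IsParS (S : Subgroup G) P)
    (hPL : P ≤ L) (LH : L ≤ H) (noH : NoOverM (zl (S : Subgroup G) L) H) (Q : Nrm H (zl (S : Subgroup G) L))
    {F : Type} [Field F] [Finite F] [CharP F 2] {k : ℕ}
    (M : NatKM F (S : Subgroup G) P (zl (S : Subgroup G) P) (cv (S : Subgroup G) P) k) {A A' : Subgroup G}
    (hA : A ∈ EP (S : Subgroup G) P (zl (S : Subgroup G) L))
    (hA' : A' ∈ EP (S : Subgroup G) P (zl (S : Subgroup G) L)) {j : Fin k} (O : NO3S.ThmB.One M (zl (S : Subgroup G) L) A j)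
    (O' : NO3S.ThmB.One M (zl (S : Subgroup G) L) A' j) : im Q A' = im Q A :=
  le_antisymm (im_le hc hL hP hPL LH noH Q M hA hA' O O') (im_le hc hL hP hPL LH noH Q M hA' hA O' O)

end Cfsg.Agent.Omega.NOThreeL.RRed.Blk.AcNSame

end

section


/-!
# NO-3L, box R: active `P ∈ P*(S)`, nonsplit blocks allowed (helper855, #26560): the inputs of the assembly

`P ∈ P*(S)`, `P ≤ L`, `U = zl S L`, `EP S P U ≠ ∅` (`P` active), `K = KP S P U`.

* `sup_of_EP` : `U = V_P C_U(A)`, `A ∈ EP`; `comm_eq` : `[u, c] = [v, c]`, `v ∈ V_P`, `c` conjugate to an element of `A`;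
  `comm_VP` : `[U, K] ≤ V_P`;
* `gen`, `dich`, `genK` : the formal fields (all types of `P`);
* `one_block` : natural type, `4 ≤ |F|`: the blocks `NBd`, `N ≤ [V, K]`, `K` normalises `N` and centralises `Z`, the other
  members of `EP` centralise `N`.
-/

set_option autoImplicit false
set_option linter.unusedSectionVars false

namespace Cfsg.Agent.Omega.NOThreeL.RRed.Blk.AcNOf

open Subgroup Cfsg Cfsg.Agent.ZN Cfsg.Agent.Omega.MinPar
open Cfsg.Agent.Omega.FFThm Cfsg.Agent.Lib.SL2Mat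
open Cfsg.Agent.Omega.FrameFF (cv)
open Cfsg.Agent.Omega.NO3S.ThmB Cfsg.Agent.Omega.NO3S.KeyRad
open Cfsg.Agent.Omega.NOThreeL.RSplit (Nrm)
open Cfsg.Agent.Omega.NOThreeL.RRed.NS (fxd brk mem_fxd DD YY smul_eq_iff)
open Cfsg.Agent.Omega.NOThreeL.RRed.Blk.TypesGam (rt NO)
open Cfsg.Agent.Omega.NOThreeL.RRed.Blk.TypesClo (clo up_mem_clo lo_mem_clo)
open Cfsg.Agent.Omega.NOThreeL.RRed.Blk.TypesNat (XH ph ph_smul XH_faith ph_eq no_XH)
open Cfsg.Agent.Omega.NOThreeL.RRed.Blk.AsmCore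
open Cfsg.Agent.Omega.NOThreeL.RRed.Blk.AsmAct (one_of norm_blk KP_blk)
open scoped Pointwise

universe u

variable {G : Type u} [Group G]

section main

variable [Finite G] {S : Sylow 2 G} {L P : Subgroup G} (hc : IsCharacteristicTwoType G)
  (hL : IsLoc (S : Subgroup G) L) (hP : IsParS (S : Subgroup G) P) (hPL : P ≤ L)
  (no : NoOverM (zl (S : Subgroup G) L) L)
include hc hL hP hPL no

/-- `U = V_P C_U(A)` -/
theorem sup_of_EP {A : Subgroup G} (hA : A ∈ EP (S : Subgroup G) P (zl (S : Subgroup G) L)) :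
    zl (S : Subgroup G) L = zl (S : Subgroup G) P ⊔ (zl (S : Subgroup G) L ⊓ centralizer (A : Set G)) := by
  have hE := FFThm.elem_zl hc S hL
  have hcomm : zl (S : Subgroup G) L ≤ centralizer (zl (S : Subgroup G) L : Set G) := fun x hx =>
    mem_centralizer_iff.2 fun y hy => congrArg Subtype.val (hE.1.is_comm.comm ⟨y, hy⟩ ⟨x, hx⟩)
  obtain ⟨-, -, -, -, h1⟩ := exact_split hc hP hPL no hcomm hA.1.1 hA.1.2.toElemM hA.1.2.exact hA.2
  have h2 := (cent_of_EP hc hL hP hPL no hA).1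
  rw [← h1]
  refine le_antisymm (le_inf le_rfl fun x hx => ?_) inf_le_left
  rw [mem_centralizer_iff]
  intro a ha
  exact (mem_centralizer_iff.1 (h2 ha) x hx).symm

/-- `[u, c] = [v, c]` for some `v ∈ V_P` -/
theorem comm_eq {A : Subgroup G} (hA : A ∈ EP (S : Subgroup G) P (zl (S : Subgroup G) L)) {p a u : G} (hp : p ∈ P)
    (ha : a ∈ A) (hu : u ∈ zl (S : Subgroup G) L) :
    ∃ v ∈ zl (S : Subgroup G) P, (p * a * p⁻¹) * u * (p * a * p⁻¹)⁻¹ * u⁻¹ = (p * a * p⁻¹) * v * (p * a * p⁻¹)⁻¹ * v⁻¹ := by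
  have hE := FFThm.elem_zl hc S hL
  have hLU : L ≤ normalizer (zl (S : Subgroup G) L : Set G) := le_normalizer_zl _ _
  have hPV : P ≤ normalizer (zl (S : Subgroup G) P : Set G) := le_normalizer_zl _ _
  have hVU := NOThreeL.Star.zl_mono (S : Subgroup G) hPL
  have hu' : p⁻¹ * u * p ∈ zl (S : Subgroup G) L := by
    have := (mem_normalizer_iff.1 (hLU (hPL (inv_mem hp))) u).1 hu
    rwa [inv_inv] at this
  rw [sup_of_EP hc hL hP hPL no hA] at hu'
  have hel : ∀ {x y : G}, x ∈ zl (S : Subgroup G) L → y ∈ zl (S : Subgroup G) L → x * y = y * x := fun {x y} hx hy =>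
    congrArg Subtype.val (hE.1.is_comm.comm ⟨x, hx⟩ ⟨y, hy⟩)
  have hn : zl (S : Subgroup G) L ⊓ centralizer (A : Set G) ≤ normalizer (zl (S : Subgroup G) P : Set G) := by
    intro x hx
    rw [mem_normalizer_iff]
    intro y
    constructor
    · intro hy
      rw [hel hx.1 (hVU hy), mul_inv_cancel_right]; exact hy
    · intro hy
      have h1 : x * (x * y * x⁻¹) = (x * y * x⁻¹) * x := hel hx.1 (hVU hy)
      have e : y = x * y * x⁻¹ := by
        have h3 : x * (x * y * x⁻¹) = x * y := by rw [h1]; group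
        exact (mul_left_cancel h3).symm
      rw [e]; exact hy
  have hm : p⁻¹ * u * p ∈ ((zl (S : Subgroup G) P ⊔ (zl (S : Subgroup G) L ⊓ centralizer (A : Set G)) : Subgroup G) :
      Set G) := hu'
  rw [coe_mul_of_right_le_normalizer_left _ _ hn] at hm
  obtain ⟨v, hv, z, hz, e⟩ := hm
  have hv' : v ∈ zl (S : Subgroup G) P := hv
  have hz' : z ∈ zl (S : Subgroup G) L ⊓ centralizer (A : Set G) := hz
  refine ⟨p * v * p⁻¹, (mem_normalizer_iff.1 (hPV hp) v).1 hv', ?_⟩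
  have hza : a * z = z * a := mem_centralizer_iff.1 hz'.2 a ha
  have e1 : u = p * (v * z) * p⁻¹ := by
    have e : v * z = p⁻¹ * u * p := e
    rw [e]; group
  rw [e1]
  calc p * a * p⁻¹ * (p * (v * z) * p⁻¹) * (p * a * p⁻¹)⁻¹ * (p * (v * z) * p⁻¹)⁻¹
      = p * (a * v * (z * a⁻¹) * z⁻¹ * v⁻¹) * p⁻¹ := by group
    _ = p * (a * v * (a⁻¹ * z) * z⁻¹ * v⁻¹) * p⁻¹ := by
        have h3 : z * a⁻¹ = a⁻¹ * z := by
          rw [eq_inv_mul_iff_mul_eq, ← mul_assoc, hza, mul_inv_cancel_right]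
        rw [h3]
    _ = p * a * p⁻¹ * (p * v * p⁻¹) * (p * a * p⁻¹)⁻¹ * (p * v * p⁻¹)⁻¹ := by group

/-- `[U, K] ≤ V_P` -/
theorem comm_VP {x w : G} (hx : x ∈ KP (S : Subgroup G) P (zl (S : Subgroup G) L)) (hw : w ∈ zl (S : Subgroup G) L) :
    x * w * x⁻¹ * w⁻¹ ∈ zl (S : Subgroup G) P := by
  have hLU : L ≤ normalizer (zl (S : Subgroup G) L : Set G) := le_normalizer_zl _ _
  have hPV : P ≤ normalizer (zl (S : Subgroup G) P : Set G) := le_normalizer_zl _ _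
  have hUx : ∀ x ∈ P, ∀ w ∈ zl (S : Subgroup G) L, x * w * x⁻¹ ∈ zl (S : Subgroup G) L := fun x hx w hw =>
    (mem_normalizer_iff.1 (hLU (hPL hx)) w).1 hw
  unfold KP at hx
  induction hx using closure_induction generalizing w with
  | mem x hx =>
    obtain ⟨p, hp, A, hA, a, ha, rfl⟩ := hx
    obtain ⟨v, hv, e⟩ := comm_eq hc hL hP hPL no hA hp ha hw
    rw [e]
    have haP : p * a * p⁻¹ ∈ P := mul_mem (mul_mem hp (hP.le (hA.1.1 ha))) (inv_mem hp)
    exact mul_mem ((mem_normalizer_iff.1 (hPV haP) v).1 hv) (inv_mem hv)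
  | one => simp
  | mul x y hx hy h1 h2 =>
    have hyP : y ∈ P := KP_le hP.le hy
    have e : x * y * w * (x * y)⁻¹ * w⁻¹ = (x * (y * w * y⁻¹) * x⁻¹ * (y * w * y⁻¹)⁻¹) * (y * w * y⁻¹ * w⁻¹) := by group
    rw [e]
    exact mul_mem (h1 (hUx y hyP w hw)) (h2 hw)
  | inv x hx h1 =>
    have hxP : x ∈ P := KP_le hP.le hx
    have hw' : x⁻¹ * w * x ∈ zl (S : Subgroup G) L := by
      have := hUx _ (inv_mem hxP) w hw
      rwa [inv_inv] at this
    have e : x⁻¹ * w * x⁻¹⁻¹ * w⁻¹ = (x * (x⁻¹ * w * x) * x⁻¹ * (x⁻¹ * w * x)⁻¹)⁻¹ := by group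
    rw [e]
    exact inv_mem (h1 hw')

variable {H : Subgroup G} (LH : L ≤ H) (Q : Nrm H (zl (S : Subgroup G) L))

theorem brk_K_le : brk Q.Mod (im Q (KP (S : Subgroup G) P (zl (S : Subgroup G) L))) ≤ Q.ad (zl (S : Subgroup G) P) :=
  brk_im Q fun _ hx _ hw => comm_VP hc hL hP hPL no hx hw

/-- **the field `dich`** -/
theorem dich : ∀ A ∈ im Q '' EE (S : Subgroup G) (zl (S : Subgroup G) L),
    A ∈ im Q '' EP (S : Subgroup G) P (zl (S : Subgroup G) L) ∨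
      ∀ a ∈ A, ∀ m ∈ brk Q.Mod (im Q (KP (S : Subgroup G) P (zl (S : Subgroup G) L))), a • m = m := by
  rintro _ ⟨A, hA, rfl⟩
  by_cases h : A ≤ centralizer (zl (S : Subgroup G) P : Set G)
  · right
    rw [im_smul]
    intro a ha _ m hm
    have h1 : Q.val m ∈ zl (S : Subgroup G) P := brk_K_le hc hL hP hPL no Q hm
    have h2 := mem_centralizer_iff.1 (h ha) _ h1
    rw [← h2, mul_inv_cancel_right]
  · exact Or.inl ⟨A, ⟨hA, h⟩, rfl⟩

omit hL no in
include LH in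
/-- **the field `gen`** -/
theorem gen (ne : (EP (S : Subgroup G) P (zl (S : Subgroup G) L)).Nonempty) :
    im Q P ≤ im Q (KP (S : Subgroup G) P (zl (S : Subgroup G) L)) ⊔ im Q (S : Subgroup G) := by
  have PK := le_KP_sup hc hP ne
  have SP := hP.le
  have KL : KP (S : Subgroup G) P (zl (S : Subgroup G) L) ≤ H := ((KP_le SP).trans hPL).trans LH
  rintro _ ⟨p, hp, rfl⟩
  have h1 : (p : G) ∈ KP (S : Subgroup G) P (zl (S : Subgroup G) L) ⊔ (S : Subgroup G) := PK hp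
  have h3 : (p : G) ∈ ((KP (S : Subgroup G) P (zl (S : Subgroup G) L) ⊔ (S : Subgroup G) : Subgroup G) : Set G) := h1
  rw [coe_mul_of_right_le_normalizer_left _ _ (SP.trans KP_norm)] at h3
  obtain ⟨k, hk, s, hs, e⟩ := h3
  have h2 : p = (⟨k, KL hk⟩ : H) * ⟨s, LH ((SP.trans hPL) hs)⟩ := Subtype.ext e.symm
  rw [h2, map_mul]
  exact mul_mem (mem_sup_left (ph_mem_im Q hk)) (mem_sup_right (ph_mem_im Q hs))

omit hL no in
/-- `K` is generated by the `K`-conjugates of the members of `EP` -/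
theorem KP_gen (ne : (EP (S : Subgroup G) P (zl (S : Subgroup G) L)).Nonempty) :
    KP (S : Subgroup G) P (zl (S : Subgroup G) L) ≤ _root_.Subgroup.closure {x | ∃ g ∈ KP (S : Subgroup G) P (zl (S : Subgroup G) L),
      ∃ A ∈ EP (S : Subgroup G) P (zl (S : Subgroup G) L), ∃ a ∈ A, x = g * a * g⁻¹} := by
  have PK := le_KP_sup hc hP ne
  have SP := hP.le
  have hLU : L ≤ normalizer (zl (S : Subgroup G) L : Set G) := le_normalizer_zl _ _
  refine (closure_le _).2 ?_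
  rintro _ ⟨p, hp, A, hA, a, ha, rfl⟩
  have h3 : p ∈ ((KP (S : Subgroup G) P (zl (S : Subgroup G) L) ⊔ (S : Subgroup G) : Subgroup G) : Set G) := PK hp
  rw [coe_mul_of_right_le_normalizer_left _ _ (SP.trans KP_norm)] at h3
  obtain ⟨k, hk, s, hs, e⟩ := h3
  have e' : k * s = p := e
  subst e'
  have e : k * s * a * (k * s)⁻¹ = k * (s * a * s⁻¹) * k⁻¹ := by group
  rw [e]
  exact _root_.Subgroup.subset_closure ⟨k, hk, _, EP_cj SP hs (hLU ((SP.trans hPL) hs)) hA, _, NS.conj_mem' ha, rfl⟩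

omit hL no in
include LH in
/-- **the field `genK`** -/
theorem genK (ne : (EP (S : Subgroup G) P (zl (S : Subgroup G) L)).Nonempty) :
    im Q (KP (S : Subgroup G) P (zl (S : Subgroup G) L)) ≤
      _root_.Subgroup.closure {x | ∃ g ∈ im Q (KP (S : Subgroup G) P (zl (S : Subgroup G) L)),
        ∃ A ∈ im Q '' EP (S : Subgroup G) P (zl (S : Subgroup G) L), ∃ a ∈ A, x = g * a * g⁻¹} := by
  have KL : KP (S : Subgroup G) P (zl (S : Subgroup G) L) ≤ H := ((KP_le hP.le).trans hPL).trans LH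
  apply im_le_of
  refine (KP_gen hc hP hPL ne).trans ?_
  rw [closure_le]
  rintro _ ⟨g, hg, A, hA, a, ha, rfl⟩
  have haL : a ∈ H := LH ((hP.le.trans hPL) (hA.1.1 ha))
  refine ⟨⟨g, KL hg⟩ * ⟨a, haL⟩ * ⟨g, KL hg⟩⁻¹, ?_, rfl⟩
  rw [SetLike.mem_coe, mem_comap, map_mul, map_mul, map_inv]
  exact subset_closure ⟨_, ph_mem_im Q hg, _, ⟨A, hA, rfl⟩, _, ph_mem_im Q ha, rfl⟩

omit hc hL hP hPL no [Finite G] in
theorem EPE : im Q '' EP (S : Subgroup G) P (zl (S : Subgroup G) L) ⊆ im Q '' EE (S : Subgroup G) (zl (S : Subgroup G) L) := by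
  rintro _ ⟨A, hA, rfl⟩
  exact ⟨A, hA.1, rfl⟩

omit hc hL hP hPL no [Finite G] in
theorem EPK : ∀ A ∈ im Q '' EP (S : Subgroup G) P (zl (S : Subgroup G) L),
    A ≤ im Q (KP (S : Subgroup G) P (zl (S : Subgroup G) L)) := by
  rintro _ ⟨A, hA, rfl⟩
  exact im_mono Q (le_KP hA)

end main

end Cfsg.Agent.Omega.NOThreeL.RRed.Blk.AcNOf

end
end
end
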